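import Cfsg.Agent.SM.O8.Two.Defs
import Cfsg.Agent.StdO8.CardC
import Cfsg.Agent.H245.O8Refl
import Cfsg.Agent.H329.O8Seven
import Cfsg.Agent.H320.O8.Geo
import Cfsg.Agent.H955.QSpace
import Cfsg.Agent.S2119

/-!
# SM (S3570), socle `Ω⁺₈(2)`: alternating subgroups (helper6)
-/

set_option autoImplicit false

namespace Cfsg.Agent.SM.O8.Two

open Module Subgroup Equiv Equiv.Perm
open Cfsg.Agent.StdO8.Model
open Cfsg.Agent.StdO8.Aut (cj cj_coe)
open Cfsg.Agent.LieClassical.OrthCore (refl refl_mem_O)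

namespace Alt

/-! ### permutations -/

theorem gen {α : Type} [Fintype α] [DecidableEq α] (K : Subgroup (Perm α)) {a b : α} (hab : a ≠ b) (p : α → Prop)
    (h : ∀ k, p k → k ≠ a → swap a k * swap a b ∈ K) {f : Perm α} (hf : sign f = 1) (hp : ∀ x, x ≠ a → ¬ p x → f x = x) :
    f ∈ K := by
  have hs : swap a b * swap a b = 1 := swap_mul_self a b
  have h1 : f ∈ closure {s : Perm α | ∃ k, p k ∧ k ≠ a ∧ s = swap a k} := by
    refine (mem_closure_isSwap ?_).2 ⟨Set.toFinite _, fun x => ?_⟩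
    · rintro _ ⟨k, -, hk, rfl⟩
      exact ⟨a, k, hk.symm, rfl⟩
    · have h2 : ∀ y, ¬ (y ≠ a ∧ ¬ p y) → y ∈ MulAction.orbit (closure {s : Perm α | ∃ k, p k ∧ k ≠ a ∧ s = swap a k}) a :=
        fun y hy => by
          by_cases e : y = a
          · exact e ▸ MulAction.mem_orbit_self _
          · exact ⟨⟨swap a y, subset_closure ⟨y, by tauto, e, rfl⟩⟩, swap_apply_left a y⟩
      by_cases hx : x ≠ a ∧ ¬ p x
      · rw [hp x hx.1 hx.2]
        exact MulAction.mem_orbit_self _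
      · rw [MulAction.orbit_eq_iff.2 (h2 x hx)]
        exact h2 _ fun k => hx (f.injective (hp _ k.1 k.2) ▸ k)
  have h3 : (sign f = 1 ∧ f ∈ K ∧ swap a b * f * swap a b ∈ K) ∨ (sign f = -1 ∧ f * swap a b ∈ K ∧ swap a b * f ∈ K) := by
    clear hf hp
    induction h1 using closure_induction with
    | mem s hs =>
      obtain ⟨k, h1, h2, rfl⟩ := hs
      exact Or.inr ⟨sign_swap h2.symm, h k h1 h2, by simpa using K.inv_mem (h k h1 h2)⟩
    | one => exact Or.inl ⟨map_one _, K.one_mem, by rw [mul_one, hs]; exact K.one_mem⟩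
    | mul f g _ _ hf hg =>
      have e : ∀ x y : Perm α, x * swap a b * (swap a b * y) = x * y := fun x y => by
        rw [mul_assoc, ← mul_assoc (swap a b), hs, one_mul]
      rcases hf with ⟨k1, k2, k3⟩ | ⟨k1, k2, k3⟩ <;> rcases hg with ⟨l1, l2, l3⟩ | ⟨l1, l2, l3⟩
      · refine Or.inl ⟨by rw [map_mul, k1, l1, mul_one], K.mul_mem k2 l2, ?_⟩
        simpa only [mul_assoc, swap_mul_self_mul] using K.mul_mem k3 l3
      · refine Or.inr ⟨by rw [map_mul, k1, l1, one_mul], (mul_assoc f g _).symm.subst (motive := (· ∈ K)) (K.mul_mem k2 l2), ?_⟩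
        simpa only [mul_assoc, swap_mul_self_mul] using K.mul_mem k3 l3
      · refine Or.inr ⟨by rw [map_mul, k1, l1, mul_one], ?_, (mul_assoc _ f g).subst (motive := (· ∈ K)) (K.mul_mem k3 l2)⟩
        simpa only [mul_assoc, swap_mul_self_mul] using K.mul_mem k2 l3
      · refine Or.inl ⟨by rw [map_mul, k1, l1, neg_mul_neg, one_mul], (e f g).subst (motive := (· ∈ K)) (K.mul_mem k2 l3), ?_⟩
        simpa only [mul_assoc] using K.mul_mem k3 l2
    | inv f _ hf =>
      rcases hf with ⟨k1, k2, k3⟩ | ⟨k1, k2, k3⟩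
      · exact Or.inl ⟨by rw [sign_inv, k1], K.inv_mem k2, by simpa [mul_assoc] using K.inv_mem k3⟩
      · exact Or.inr ⟨by rw [sign_inv, k1], by simpa using K.inv_mem k3, by simpa using K.inv_mem k2⟩
  exact h3.elim (fun k => k.2.1) fun k => absurd (hf.symm.trans k.1) (by decide)

/-- a three-cycle -/
def tc {m : ℕ} (a b c : Fin m) (h : a ≠ b ∧ a ≠ c ∧ b ≠ c := by decide) : alternatingGroup (Fin m) :=
  ⟨swap a b * swap a c, (isThreeCycle_swap_mul_swap_same h.1 h.2.1 h.2.2).mem_alternatingGroup⟩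

theorem tc_three {m : ℕ} {a b c : Fin m} (h : a ≠ b ∧ a ≠ c ∧ b ≠ c) : IsThreeCycle (tc a b c h : Perm (Fin m)) :=
  isThreeCycle_swap_mul_swap_same h.1 h.2.1 h.2.2

theorem ord3 {m : ℕ} {c : alternatingGroup (Fin m)} (h : IsThreeCycle (c : Perm (Fin m))) : orderOf c = 3 :=
  (Subgroup.orderOf_coe c).symm.trans h.orderOf

/-! ### fixed vectors -/

theorem ap_mul (g h : Om) (v : V) : ap (g * h) v = ap g (ap h v) := rfl

theorem nf_conj {x y : Om} (h : IsConj x y) : nf x = nf y := by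
  obtain ⟨g, rfl⟩ := isConj_iff.1 h
  refine Nat.card_congr (Equiv.subtypeEquiv (g : V ≃ₗ[ZMod 2] V).toEquiv fun v => ?_)
  show ap x v = v ↔ ap g (ap x ((g : V ≃ₗ[ZMod 2] V).symm (ap g v))) = ap g v
  rw [LinearEquiv.symm_apply_apply]
  exact (g : V ≃ₗ[ZMod 2] V).injective.eq_iff.symm

variable {m : ℕ} {φ : alternatingGroup (Fin m) →* Om}

/-- all three-cycles are rotations of the natural module -/
def R (φ : alternatingGroup (Fin m) →* Om) : Prop := ∀ c : alternatingGroup (Fin m), IsThreeCycle (c : Perm (Fin m)) → nf (φ c) = 64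

theorem exists_R (h5 : 5 ≤ m) {c : alternatingGroup (Fin m)} (hc : IsThreeCycle (c : Perm (Fin m))) (h : Rot (φ c)) :
    ∃ α : MulAut Om, R (α.toMonoidHom.comp φ) :=
  let ⟨α, h⟩ := h
  ⟨α, fun _ hd => (nf_conj ((α.toMonoidHom.comp φ).map_isConj
    (alternatingGroup.isThreeCycle_isConj (by rwa [Nat.card_fin]) hd hc))).trans h⟩

/-- the permutations which fix `v` -/
def K (φ : alternatingGroup (Fin m) →* Om) (v : V) : Subgroup (alternatingGroup (Fin m)) := (MulAction.stabilizer Om v).comap φ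

theorem four (hG : BoxGen) (h : R φ) {a b c d : alternatingGroup (Fin m)} (ha : IsThreeCycle (a : Perm (Fin m)))
    (hb : IsThreeCycle (b : Perm (Fin m))) (hc : IsThreeCycle (c : Perm (Fin m))) (hd : IsThreeCycle (d : Perm (Fin m)))
    (e : (a * b) ^ 2 = 1) : ∃ v, v ≠ 0 ∧ a ∈ K φ v ∧ b ∈ K φ v ∧ c ∈ K φ v ∧ d ∈ K φ v := by
  have h3 : ∀ {x : alternatingGroup (Fin m)}, IsThreeCycle (x : Perm (Fin m)) → φ x ^ 3 = 1 := fun hx => by
    rw [← map_pow, ← ord3 hx, pow_orderOf_eq_one, map_one]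
  exact hG _ _ _ _ (h3 ha) (h3 hb) (h3 hc) (h3 hd) (h a ha) (h b hb) (h c hc) (h d hd) (by rw [← map_mul, ← map_pow, e, map_one])

theorem gen' (L : Subgroup (alternatingGroup (Fin m))) {a b : Fin m} (hab : a ≠ b) (p : Fin m → Prop)
    (h : ∀ k, p k → ∀ e : a ≠ k ∧ a ≠ b ∧ k ≠ b, tc a k b e ∈ L) {f : alternatingGroup (Fin m)}
    (hp : ∀ x, ¬ p x → (f : Perm (Fin m)) x = x) : f ∈ L := by
  obtain ⟨g, hg, e⟩ := gen (L.map (alternatingGroup (Fin m)).subtype) hab p (fun k h1 h2 => by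
    by_cases e : k = b
    · rw [e, swap_mul_self]
      exact one_mem _
    · exact ⟨_, h k h1 ⟨h2.symm, hab, e⟩, rfl⟩) f.2 fun x _ => hp x
  exact Subtype.ext e ▸ hg

theorem link (L : Subgroup (alternatingGroup (Fin m))) {a b x y : alternatingGroup (Fin m)} (ha : a ∈ L) (hb : b ∈ L)
    (h : x = a * b⁻¹ * a⁻¹ * b ∧ y = a * b * a⁻¹ * b⁻¹) : x ∈ L ∧ y ∈ L :=
  ⟨h.1 ▸ L.mul_mem (L.mul_mem (L.mul_mem ha (L.inv_mem hb)) (L.inv_mem ha)) hb,
    h.2 ▸ L.mul_mem (L.mul_mem (L.mul_mem ha hb) (L.inv_mem ha)) (L.inv_mem hb)⟩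

theorem fix7 (hR : BoxRot) (hG : BoxGen) {φ : alternatingGroup (Fin 7) →* Om} (hφ : Function.Injective φ) :
    ∃ (α : MulAut Om) (v : V), v ≠ 0 ∧ ∀ f, ap (α (φ f)) v = v := by
  have ho : ∀ x, orderOf (φ x) = orderOf x := orderOf_injective φ hφ
  have : Fact (Nat.Prime 7) := ⟨by norm_num⟩
  have h1 : nf (φ (tc 0 1 5 * tc 3 6 4)) = 16 := hR.2.2.2.1 _ (φ (tc 0 1 2 * tc 0 3 4 * tc 0 5 6))
    ((ho _).trans (orderOf_eq_prime (by decide) (by decide))) ((ho _).trans (orderOf_eq_prime (by decide +kernel) (by decide)))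
    ⟨(2 : ℕ), (zpow_natCast _ 2).trans (by
      rw [← map_inv, ← map_mul, ← map_mul, ← map_pow]
      exact congrArg φ (by decide +kernel))⟩
  have h2 : nf (φ (tc 0 1 5 * (tc 3 6 4)⁻¹)) = 16 := (nf_conj (φ.map_isConj (isConj_iff.2
    ⟨tc 0 1 3 * tc 0 1 4 * tc 0 5 6, by decide⟩))).symm.trans h1
  have h3 : nf (φ (tc 3 6 4)) = nf (φ (tc 0 1 5)) := nf_conj (φ.map_isConj
    (alternatingGroup.isThreeCycle_isConj (by simp) (tc_three _) (tc_three _)))
  have h0 : orderOf (φ (tc 0 1 5)) = 3 := (ho _).trans (ord3 (tc_three _))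
  have h4 := hR.2.2.2.2 (φ (tc 0 1 5)) (φ (tc 3 6 4)) h0 ((ho _).trans (ord3 (tc_three _)))
    (by rw [← map_mul, ← map_mul]; exact congrArg φ (by decide)) (by
      rintro ⟨k, hk⟩
      have h5 : tc (0 : Fin 7) 1 5 ^ k = tc 3 6 4 := hφ ((map_zpow φ _ k).trans hk)
      have h6 : ((tc (0 : Fin 7) 1 5 : Perm (Fin 7)) ^ k) 3 = 3 := zpow_apply_eq_self_of_apply_eq_self (by decide) k
      rw [← Subgroup.coe_zpow, h5] at h6
      exact absurd h6 (by decide))
  rw [← map_inv, ← map_mul, ← map_mul, h1, h2, h3] at h4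
  obtain ⟨α, hα⟩ := exists_R (φ := φ) (by decide) (tc_three (a := 0) (b := 1) (c := 5) (by decide)) (by
    rcases hR.1 _ h0 with k | k | k | k
    · exact hR.2.1 _ h0 k
    · omega
    · omega
    · exact ⟨1, k⟩)
  obtain ⟨v, h5, k2, k3, k4, k6⟩ := four hG hα (tc_three (a := 0) (b := 2) (c := 1) (by decide))
    (tc_three (a := 0) (b := 3) (c := 1) (by decide)) (tc_three (a := 0) (b := 4) (c := 5) (by decide))
    (tc_three (a := 0) (b := 6) (c := 1) (by decide)) (by decide)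
  obtain ⟨k4, k5⟩ := link _ k2 k4 (x := tc 0 4 1) (y := tc 0 5 1) (by decide)
  refine ⟨α, v, h5, fun f => gen' (K (α.toMonoidHom.comp φ) v) (a := 0) (b := 1) (by decide) (fun _ => True) (fun k _ e => ?_) fun _ k => absurd trivial k⟩
  fin_cases k
  exacts [absurd rfl e.1, absurd rfl e.2.2, k2, k3, k4, k5, k6]

theorem fix8 (hR : BoxRot) (hG : BoxGen) {φ : alternatingGroup (Fin 8) →* Om} (hφ : Function.Injective φ) :
    ∃ (α : MulAut Om) (v : V), v ≠ 0 ∧ ∀ f, ap (α (φ f)) v = v := by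
  have ho : ∀ x, orderOf (φ x) = orderOf x := orderOf_injective φ hφ
  have : Fact (Nat.Prime 5) := ⟨by norm_num⟩
  obtain ⟨α, hα⟩ := exists_R (φ := φ) (by decide) (tc_three (a := 0) (b := 1) (c := 2) (by decide))
    (hR.2.2.1 _ (φ (tc 3 4 5 * tc 3 6 7)) ((ho _).trans (ord3 (tc_three _)))
      ((ho _).trans (orderOf_eq_prime (by decide) (by decide))) (by rw [← map_mul, ← map_mul]; exact congrArg φ (by decide)))
  obtain ⟨v, h5, k2, k3, k4, k6⟩ := four hG hα (tc_three (a := 0) (b := 2) (c := 1) (by decide))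
    (tc_three (a := 0) (b := 3) (c := 1) (by decide)) (tc_three (a := 0) (b := 4) (c := 5) (by decide))
    (tc_three (a := 0) (b := 6) (c := 7) (by decide)) (by decide)
  obtain ⟨k4, k5⟩ := link _ k2 k4 (x := tc 0 4 1) (y := tc 0 5 1) (by decide)
  obtain ⟨k6, k7⟩ := link _ k2 k6 (x := tc 0 6 1) (y := tc 0 7 1) (by decide)
  refine ⟨α, v, h5, fun f => gen' (K (α.toMonoidHom.comp φ) v) (a := 0) (b := 1) (by decide) (fun _ => True) (fun k _ e => ?_) fun _ k => absurd trivial k⟩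
  fin_cases k
  exacts [absurd rfl e.1, absurd rfl e.2.2, k2, k3, k4, k5, k6, k7]

theorem fix9 (hR : BoxRot) (hG : BoxGen) {φ : alternatingGroup (Fin 9) →* Om} (hφ : Function.Injective φ) :
    ∃ (α : MulAut Om) (v : V), v ≠ 0 ∧ ∀ f : alternatingGroup (Fin 9), (f : Perm (Fin 9)) 8 = 8 → ap (α (φ f)) v = v := by
  have ho : ∀ x, orderOf (φ x) = orderOf x := orderOf_injective φ hφ
  have : Fact (Nat.Prime 5) := ⟨by norm_num⟩
  obtain ⟨α, hα⟩ := exists_R (φ := φ) (by decide) (tc_three (a := 0) (b := 1) (c := 2) (by decide))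
    (hR.2.2.1 _ (φ (tc 3 4 5 * tc 3 6 7)) ((ho _).trans (ord3 (tc_three _)))
      ((ho _).trans (orderOf_eq_prime (by decide) (by decide))) (by rw [← map_mul, ← map_mul]; exact congrArg φ (by decide)))
  obtain ⟨v, h5, k2, k3, k4, k6⟩ := four hG hα (tc_three (a := 0) (b := 2) (c := 1) (by decide))
    (tc_three (a := 0) (b := 3) (c := 1) (by decide)) (tc_three (a := 0) (b := 4) (c := 5) (by decide))
    (tc_three (a := 0) (b := 6) (c := 7) (by decide)) (by decide)
  obtain ⟨k4, k5⟩ := link _ k2 k4 (x := tc 0 4 1) (y := tc 0 5 1) (by decide)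
  obtain ⟨k6, k7⟩ := link _ k2 k6 (x := tc 0 6 1) (y := tc 0 7 1) (by decide)
  refine ⟨α, v, h5, fun f hf => gen' (K (α.toMonoidHom.comp φ) v) (a := 0) (b := 1) (by decide) (· ≠ 8) (fun k h8 e => ?_) fun x k => by
    rwa [not_not.1 k]⟩
  fin_cases k
  exacts [absurd rfl e.1, absurd rfl e.2.2, k2, k3, k4, k5, k6, k7, absurd rfl h8]

/-- the embedding -/
theorem exists_hom {L : Subgroup Om} (h : IsA m L) :
    ∃ φ : alternatingGroup (Fin m) →* Om, Function.Injective φ ∧ ∀ g ∈ L, ∃ f, φ f = g :=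
  let ⟨e⟩ := h
  ⟨L.subtype.comp e.symm.toMonoidHom, L.subtype_injective.comp e.symm.injective,
    fun g hg => ⟨e ⟨g, hg⟩, congrArg Subtype.val (e.symm_apply_apply _)⟩⟩

/-! ### `A₉` -/

theorem card9 : Nat.card (alternatingGroup (Fin 9)) = 181440 := by
  have := two_mul_nat_card_alternatingGroup (α := Fin 9)
  rw [Nat.card_perm, Nat.card_fin, show Nat.factorial 9 = 362880 from rfl] at this
  omega

theorem no_fix {φ : alternatingGroup (Fin 9) →* Om} (hφ : Function.Injective φ) {v : V} (h0 : v ≠ 0) (h : ∀ f, ap (φ f) v = v) :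
    False := by
  let G := MulAction.stabilizer Om v
  let ψ : alternatingGroup (Fin 9) →* G := φ.codRestrict G h
  have hψ : Function.Injective ψ := fun a b e => hφ (congrArg Subtype.val e)
  have hL : Nat.card ψ.range = 181440 := (Nat.card_congr (MonoidHom.ofInjective hψ).toEquiv).symm.trans card9
  have h1 := Nat.card_congr (MulAction.orbitProdStabilizerEquivGroup Om v)
  have h2 := ψ.range.card_mul_index
  have h3 : MulAction.orbit Om v = {w | q w = q v} \ {0} := Set.ext fun w => ⟨by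
    rintro ⟨g, rfl⟩
    exact ⟨O8_q (Om_le g.2) v, fun e => h0 ((g : V ≃ₗ[ZMod 2] V).map_eq_zero_iff.1 e)⟩, fun ⟨k1, k2⟩ => by
      obtain ⟨g, hg, e⟩ := good.trans_norm h0 k2 k1.symm
      exact ⟨⟨g, hg⟩, e⟩⟩
  rw [Nat.card_prod, H245.O8Refl.card_Om, h3, ← h2, hL, Nat.card_coe_set_eq] at h1
  rcases z2 (q v) with k | k <;> rw [k] at h1
  · rw [Set.ncard_sdiff_singleton_of_mem (show (0 : V) ∈ {w | q w = 0} from q_zero), ← Nat.card_coe_set_eq,
      show Nat.card {w | q w = 0} = 136 from H320.O8.card_sing] at h1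
    omega
  rw [Set.sdiff_singleton_eq_self (show (0 : V) ∉ {w | q w = 1} from fun e => H245.O8Refl.ns_ne e rfl), ← Nat.card_coe_set_eq,
    show Nat.card {w | q w = 1} = 120 from H245.O8Refl.card_ns] at h1
  have h8 : ψ.range.index = 8 := by omega
  have hs : IsSimpleGroup (alternatingGroup (Fin 9)) := alternatingGroup.isSimpleGroup (by simp)
  have hn : ψ.range.Normal := by
    rcases hs.eq_bot_or_eq_top_of_normal ((MulAction.toPermHom G (G ⧸ ψ.range)).comp ψ).ker inferInstance with e | e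
    · have h4 := Subgroup.card_dvd_of_injective _ ((MonoidHom.ker_eq_bot_iff _).1 e)
      rw [card9, Nat.card_perm, ← Subgroup.index, h8] at h4
      exact absurd h4 (by decide)
    · refine ⟨?_⟩
      rintro _ ⟨f, rfl⟩ g
      have h4 : ((MulAction.toPermHom G (G ⧸ ψ.range)).comp ψ) f⁻¹ = 1 := (e.symm ▸ mem_top f⁻¹ :)
      have h5 : ((ψ f⁻¹ * g⁻¹ : G) : G ⧸ ψ.range) = (g⁻¹ : G) := DFunLike.congr_fun h4 ((g⁻¹ : G) : G ⧸ ψ.range)
      simpa using QuotientGroup.eq.1 h5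
  have h4 := (MulAut.conjNormal : G →* MulAut ψ.range).ker.card_mul_index
  have h5 := Subgroup.card_subgroup_dvd_card (MulAut.conjNormal : G →* MulAut ψ.range).range
  rw [← Nat.card_congr (MulAut.congr (MonoidHom.ofInjective hψ)).toEquiv,
    ← Nat.card_congr (Equiv.ofBijective _ (S2119.result 9 (by decide) (by decide))), Nat.card_perm, Nat.card_fin,
    ← Subgroup.index_ker] at h5
  have h6 : 2 ∣ Nat.card (MulAut.conjNormal : G →* MulAut ψ.range).ker := by
    by_contra h6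
    have h7 : 2 ^ 9 ∣ _ := (Nat.Coprime.pow_left 9 ((Nat.Prime.coprime_iff_not_dvd Nat.prime_two).2 h6)).dvd_of_dvd_mul_left
      (by rw [h4, ← h2, hL, h8]; decide)
    exact absurd (h7.trans h5) (by decide)
  obtain ⟨y, hy⟩ := exists_prime_orderOf_dvd_card' 2 h6
  have : Fact (Nat.Prime 7) := ⟨by norm_num⟩
  have h7 : (y.1.1 : Om) = 1 := H329.O8Seven.seven_om (w := φ (tc 0 1 2 * tc 0 3 4 * tc 0 5 6))
    ((orderOf_injective φ hφ _).trans (orderOf_eq_prime (by decide +kernel) (by decide)))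
    (congrArg (fun z => (z.1.1 : Om)) ((sq y).symm.trans (hy ▸ pow_orderOf_eq_one y)))
    (mul_inv_eq_iff_eq_mul.1 (congrArg (fun z => (z.1.1 : Om)) (DFunLike.congr_fun y.2 ⟨_, _, rfl⟩)))
  rw [show y = 1 from Subtype.ext (Subtype.ext h7), orderOf_one] at hy
  omega

/-- an ovoid -/
def Ovd (u : Fin 9 → V) : Prop := (∀ i, q (u i) = 0) ∧ ∀ i j, i ≠ j → B (u i) (u j) = 1

theorem B_sum {ι : Type} (s : Finset ι) (f : ι → V) (w : V) : B (∑ i ∈ s, f i) w = ∑ i ∈ s, B (f i) w :=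
  map_sum ((QuadraticMap.polarBilin q).flip w) f s

theorem B_ite {u : Fin 9 → V} (h : ∀ i j, i ≠ j → B (u i) (u j) = 1) (i j : Fin 9) : B (u i) (u j) = if i = j then 0 else 1 := by
  split_ifs with e
  exacts [e ▸ B_self _, h i j e]

theorem li {u : Fin 9 → V} (h : ∀ i j, i ≠ j → B (u i) (u j) = 1) : LinearIndependent (ZMod 2) fun i : Fin 8 => u i.castSucc := by
  refine Fintype.linearIndependent_iff.2 fun a ha => ?_
  refine (by decide +kernel : ∀ a : Fin 8 → ZMod 2,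
    (∀ j : Fin 8, ∑ i, a i * (if i.castSucc = j.castSucc then 0 else 1) = 0) → ∀ i, a i = 0) a fun j => ?_
  have h1 := congrArg (B · (u j.castSucc)) ha
  simp only [B_sum, B_smul_left, B_ite h, B_zero_left] at h1
  exact h1

/-- the basis of an ovoid -/
noncomputable def bs {u : Fin 9 → V} (h : ∀ i j, i ≠ j → B (u i) (u j) = 1) : Basis (Fin 8) (ZMod 2) V :=
  basisOfLinearIndependentOfCardEqFinrank (li h) (by rw [finrank_V, Fintype.card_fin])

theorem bs_apply {u : Fin 9 → V} (h : ∀ i j, i ≠ j → B (u i) (u j) = 1) (i : Fin 8) : bs h i = u i.castSucc :=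
  congrFun (coe_basisOfLinearIndependentOfCardEqFinrank _ _) i

theorem last_eq {u : Fin 9 → V} (h : ∀ i j, i ≠ j → B (u i) (u j) = 1) : u 8 = ∑ i : Fin 8, u i.castSucc := by
  refine eq_of_B fun w => DFunLike.congr_fun ((bs h).ext fun j => ?_ :
    QuadraticMap.polarBilin q (u 8) = QuadraticMap.polarBilin q (∑ i : Fin 8, u i.castSucc)) w
  show B _ _ = B _ _
  simp only [bs_apply, B_sum, B_ite h]
  revert j
  decide

theorem exists_iso {u o : Fin 9 → V} (hu : Ovd u) (ho : Ovd o) : ∃ M : O8, ∀ i, (M : V ≃ₗ[ZMod 2] V) (u i) = o i := by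
  let M := (bs hu.2).equiv (bs ho.2) (Equiv.refl _)
  have h1 : ∀ i : Fin 8, M (u i.castSucc) = o i.castSucc := fun i => by
    rw [← bs_apply hu.2, ← bs_apply ho.2]
    exact Basis.equiv_apply _ _ _ _
  have h2 : ∀ x y, B (M x) (M y) = B x y := fun x y => DFunLike.congr_fun (DFunLike.congr_fun (LinearMap.ext_basis (bs hu.2) (bs hu.2)
    fun i j => by
      show B (M _) (M _) = B _ _
      rw [bs_apply, bs_apply, h1, h1, B_ite hu.2, B_ite ho.2] :
    (QuadraticMap.polarBilin q).compl₁₂ M.toLinearMap M.toLinearMap = QuadraticMap.polarBilin q) x) y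
  refine ⟨⟨M, fun v => ?_⟩, fun i => ?_⟩
  · induction (bs hu.2).mem_span v using Submodule.span_induction with
    | mem x hx =>
      obtain ⟨i, rfl⟩ := hx
      rw [bs_apply, h1, hu.1, ho.1]
    | zero => rw [map_zero]
    | add x y _ _ k1 k2 => rw [map_add, q_add, q_add, k1, k2, h2]
    | smul a x _ k => rw [map_smul, QuadraticMap.map_smul, QuadraticMap.map_smul, k]
  · show M (u i) = o i
    induction i using Fin.lastCases with
    | last => exact (congrArg M (last_eq hu.2)).trans (((map_sum _ _ _).trans (Finset.sum_congr rfl fun i _ => h1 i)).trans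
        (last_eq ho.2).symm)
    | cast i => exact h1 i

theorem exists_ov (hR : BoxRot) (hG : BoxGen) {φ : alternatingGroup (Fin 9) →* Om} (hφ : Function.Injective φ) :
    ∃ (α : MulAut Om) (u : Fin 9 → V), Ovd u ∧ ∀ f i, ap (α (φ f)) (u i) = u ((f : Perm (Fin 9)) i) := by
  obtain ⟨α, v, h0, hv⟩ := fix9 hR hG hφ
  have h2 : ∀ {a b c d : Fin 9}, a ≠ b → c ≠ d → ∃ g : alternatingGroup (Fin 9), g • a = c ∧ g • b = d :=
    have := alternatingGroup.isMultiplyPretransitive (Fin 9)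
    MulAction.is_two_pretransitive_iff.1 (MulAction.isMultiplyPretransitive_of_le (n := Nat.card (Fin 9) - 2) (by simp) (by simp))
  have h1 : ∀ i : Fin 9, ∃ g : alternatingGroup (Fin 9), (g : Perm (Fin 9)) 8 = i := fun i =>
    let ⟨j, hj⟩ := exists_ne i
    let ⟨g, hg, _⟩ := h2 (show (8 : Fin 9) ≠ 0 by decide) hj.symm
    ⟨g, hg⟩
  choose g hg using h1
  let u : Fin 9 → V := fun i => ap (α (φ (g i))) v
  have hu : ∀ (f : alternatingGroup (Fin 9)) i, ap (α (φ f)) (u i) = u ((f : Perm (Fin 9)) i) := fun f i => by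
    have h3 := hv ((g ((f : Perm (Fin 9)) i))⁻¹ * f * g i) (by
      show ((g _ : Perm (Fin 9)))⁻¹ ((f : Perm (Fin 9)) ((g i : Perm (Fin 9)) 8)) = 8
      rw [hg, Perm.inv_eq_iff_eq, hg])
    refine Eq.trans ?_ (congrArg (ap (α (φ (g _)))) h3)
    show ap (α (φ f) * α (φ (g i))) v = ap (_ * _) v
    rw [← map_mul, ← map_mul, ← map_mul, ← map_mul, mul_assoc, mul_inv_cancel_left]
  have hn : ∀ i, u i ≠ 0 := fun i e => h0 ((α (φ (g i)) : V ≃ₗ[ZMod 2] V).map_eq_zero_iff.1 e)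
  have hi : Function.Injective u := fun a b e => by
    by_contra hab
    refine no_fix (φ := α.toMonoidHom.comp φ) (α.injective.comp hφ) (hn a) fun f => (hu f a).trans ?_
    by_contra k
    obtain ⟨s, s1, s2⟩ := h2 hab (show a ≠ (f : Perm (Fin 9)) a from fun l => k (congrArg u l.symm))
    exact k ((congrArg u s2.symm).trans ((hu s b).symm.trans ((congrArg _ e.symm).trans ((hu s a).trans (congrArg u s1)))))
  have hB : ∀ i j, i ≠ j → B (u i) (u j) = B (u 0) (u 1) := fun i j e => by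
    obtain ⟨s, s1, s2⟩ := h2 (show (0 : Fin 9) ≠ 1 by decide) e
    rw [← s1, ← s2]
    exact (congrArg₂ B (hu s 0).symm (hu s 1).symm).trans (O8_B (Om_le (α (φ s)).2) _ _)
  have hq : ∀ i, q (u i) = q v := fun i => O8_q (Om_le (α (φ (g i))).2) v
  have hB1 : ∀ i j, i ≠ j → B (u i) (u j) = 1 := by
    rcases z2 (B (u 0) (u 1)) with k | k
    · exfalso
      let W := Submodule.span (ZMod 2) (Set.range u)
      have h3 : W ≤ H955.perp q W := Submodule.span_le.2 (by
        rintro _ ⟨i, rfl⟩ w hw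
        induction hw using Submodule.span_induction with
        | mem x hx =>
          obtain ⟨j, rfl⟩ := hx
          by_cases e : j = i
          exacts [e ▸ B_self _, (hB j i e).trans k]
        | zero => exact B_zero_left _
        | add x y _ _ k1 k2 => exact (B_add_left _ _ _).trans (by rw [show B x (u i) = 0 from k1, show B y (u i) = 0 from k2, add_zero])
        | smul a x _ k1 => exact (B_smul_left _ _ _).trans (by rw [show B x (u i) = 0 from k1, mul_zero]))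
      have h4 := Submodule.finrank_mono h3
      have h5 := H955.finrank_add_perp good.nondeg W
      have hm : ∀ i, u i ∈ W := fun i => Submodule.subset_span ⟨i, rfl⟩
      have h6 : ∀ a b, u a ≠ u 0 + u b := fun a b e => by
        obtain k | k | k | ⟨c, d, k, k1, k2, k3⟩ := (by decide +kernel : ∀ a b : Fin 9, a = 0 ∨ b = 0 ∨ a = b ∨
          ∃ c d, ∃ h : a ≠ c ∧ a ≠ d ∧ c ≠ d, (tc a c d h : Perm (Fin 9)) 0 = 0 ∧ (tc a c d h : Perm (Fin 9)) b = b ∧
            (tc a c d h : Perm (Fin 9)) a ≠ a) a b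
        · exact hn b (left_eq_add.1 (k ▸ e))
        · exact hn a (e.trans (k ▸ add_self _))
        · exact hn 0 (right_eq_add.1 (k ▸ e))
        · refine k3 (hi ((hu _ a).symm.trans ?_))
          rw [e, ap, map_add]
          exact congrArg₂ _ ((hu _ 0).trans (congrArg u k1)) ((hu _ b).trans (congrArg u k2))
      have h7 := Nat.card_le_card_of_injective (Sum.elim (fun i => ⟨u i, hm i⟩) fun i => ⟨u 0 + u i, W.add_mem (hm 0) (hm i)⟩ :
        Fin 9 ⊕ Fin 9 → W) (by
          rintro (a | a) (b | b) e <;> have e' := congrArg Subtype.val e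
          exacts [congrArg _ (hi e'), absurd e' (h6 a b), absurd e'.symm (h6 b a), congrArg _ (hi (add_left_cancel e'))])
      rw [Nat.card_sum, Nat.card_fin, Module.natCard_eq_pow_finrank (K := ZMod 2) (V := W), Nat.card_zmod] at h7
      rw [finrank_V] at h5
      have h8 := Nat.pow_le_pow_right two_pos (show finrank (ZMod 2) W ≤ 4 by omega)
      omega
    · exact fun i j e => (hB i j e).trans k
  refine ⟨α, u, ⟨fun i => (hq i).trans ?_, hB1⟩, hu⟩
  have h3 := hq 8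
  rw [last_eq hB1] at h3
  simp only [Fin.sum_univ_eight, q_add, B_add_left, hq, B_ite hB1] at h3
  revert h3
  generalize q v = d
  revert d
  decide

theorem im_cj (M : O8) (Z : Set V) : im (cj M) (SS Z) = SS ((M : V ≃ₗ[ZMod 2] V) '' Z) := by
  have h : ∀ g : Om, cj M g ∈ SS ((M : V ≃ₗ[ZMod 2] V) '' Z) ↔ g ∈ SS Z := fun g => by
    have e : ∀ v, ap (cj M g) ((M : V ≃ₗ[ZMod 2] V) v) = (M : V ≃ₗ[ZMod 2] V) (ap g v) := fun v =>
      congrArg (fun w => (M : V ≃ₗ[ZMod 2] V) (ap g w)) ((M : V ≃ₗ[ZMod 2] V).symm_apply_apply v)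
    rw [mem_SS, mem_SS, (M : V ≃ₗ[ZMod 2] V).surjective.forall]
    exact forall_congr' fun v => by
      rw [e, (M : V ≃ₗ[ZMod 2] V).injective.mem_set_image, (M : V ≃ₗ[ZMod 2] V).injective.mem_set_image]
  ext g
  obtain ⟨g, rfl⟩ := (cj M).surjective g
  rw [h]
  exact Subgroup.mem_map_iff_mem (cj M).injective

theorem range_eq {u o : Fin 9 → V} {M : V → V} (s : Perm (Fin 9)) (h : ∀ i, M (u i) = o (s i)) : M '' Set.range u = Set.range o := by
  rw [← Set.range_comp, show M ∘ u = o ∘ s from funext h, s.surjective.range_comp]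

end Alt

open Alt

/-- **(5a)** -/
theorem boxA78_of (hR : BoxRot) (hG : BoxGen) : BoxA78 := fun L h => by
  rcases h with h | h <;> obtain ⟨φ, h1, h2⟩ := exists_hom h
  · obtain ⟨α, v, h3, h4⟩ := fix7 hR hG h1
    exact ⟨α, v, h3, fun g hg => let ⟨f, e⟩ := h2 g hg; e ▸ h4 f⟩
  · obtain ⟨α, v, h3, h4⟩ := fix8 hR hG h1
    exact ⟨α, v, h3, fun g hg => let ⟨f, e⟩ := h2 g hg; e ▸ h4 f⟩

/-- **(5b)** -/
theorem boxA9_of (hR : BoxRot) (hG : BoxGen) : BoxA9 := by
  by_cases ho : ∃ o, Ovd o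
  swap
  · refine ⟨⊥, fun e => ?_, fun M => ⟨1, by rw [im, im, Subgroup.map_bot, Subgroup.map_bot]⟩, fun L h => ?_⟩
    · have h := H245.O8Refl.card_Om
      rw [← Subgroup.card_top, ← e, Subgroup.card_bot] at h
      omega
    · obtain ⟨φ, h1, -⟩ := exists_hom h
      obtain ⟨-, u, h2, -⟩ := exists_ov hR hG h1
      exact absurd ⟨u, h2⟩ ho
  obtain ⟨o, ho⟩ := ho
  refine ⟨SS (Set.range o), fun e => ?_, fun M => ?_, fun L h => ?_⟩
  · have h1 : B (o 0) (o 1 + o 2) = 0 := by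
      simp only [B_add_right, B_ite ho.2]
      decide
    obtain ⟨k, hk⟩ := ((e.symm ▸ mem_top _ : (⟨X (o 0) (o 1 + o 2), X_mem _ _⟩ : Om) ∈ SS (Set.range o)) (o 3)).1 ⟨3, rfl⟩
    have h2 : ∀ j, B (o k) (o j) = B (X (o 0) (o 1 + o 2) (o 3)) (o j) := fun j => congrArg (B · _) hk
    have h3 := h2 4
    have h4 := h2 5
    simp only [X_apply' (ho.1 0) h1, B_add_left, B_smul_left, q_add, ho.1, B_ite ho.2] at h3 h4
    clear hk h2
    revert k
    decide
  · by_cases hM : (M : V ≃ₗ[ZMod 2] V) ∈ Om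
    · exact ⟨⟨M, hM⟩, rfl⟩
    have h1 : q (o 0 + o 1) = 1 := by rw [q_add, ho.1, ho.1, ho.2 0 1 (by decide), add_zero, zero_add]
    have h2 : q (o 0 + o 1) ≠ 0 := h1 ▸ one_ne_zero
    let r : O8 := ⟨refl q _ h2, refl_mem_O h2⟩
    have h3 : M * r ∈ Om.subgroupOf O8 := (Subgroup.mul_mem_iff_of_index_two StdO8.CardC.relIndex_Om).2
      (iff_of_false hM (StdO8.Gen.refl_notMem _ h2))
    refine ⟨⟨_, h3⟩, (im_cj M _).trans (Eq.trans ?_ (im_cj (M * r) _).symm)⟩
    show _ = SS (((M : V ≃ₗ[ZMod 2] V) ∘ refl q _ h2) '' _)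
    rw [Set.image_comp, range_eq (M := refl q _ h2) (o := o) (swap 0 1) fun i => ?_]
    rw [LieClassical.OrthCore.refl_apply, h1, inv_one, one_mul, sub_eq]
    show _ + B _ _ • _ = _
    rw [B_add_left, B_ite ho.2, B_ite ho.2]
    by_cases e0 : 0 = i
    · rw [← e0, swap_apply_left, if_pos rfl, if_neg (by decide), zero_add, one_smul, ← add_assoc, add_self, zero_add]
    by_cases e1 : 1 = i
    · rw [← e1, swap_apply_right, if_pos rfl, if_neg (by decide), add_zero, one_smul, add_left_comm, add_self, add_zero]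
    · rw [if_neg e0, if_neg e1, swap_apply_of_ne_of_ne (Ne.symm e0) (Ne.symm e1), show (1 + 1 : ZMod 2) = 0 from rfl, zero_smul,
        add_zero]
  · obtain ⟨φ, h1, h2⟩ := exists_hom h
    obtain ⟨α, u, h3, h4⟩ := exists_ov hR hG h1
    obtain ⟨M, hM⟩ := exists_iso h3 ho
    refine ⟨cj M * α, ?_⟩
    rintro _ ⟨g, hg, rfl⟩
    obtain ⟨f, rfl⟩ := h2 g hg
    rw [← range_eq (M := (M : V ≃ₗ[ZMod 2] V)) 1 hM, ← im_cj]
    refine ⟨α (φ f), fun v => ?_, rfl⟩
    rw [← (α (φ f) : V ≃ₗ[ZMod 2] V).injective.mem_set_image, range_eq _ (h4 f)]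

end Cfsg.Agent.SM.O8.Two
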