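import Cfsg.Agent.SM.O8.Two.Defs
import Cfsg.Agent.H320.O8.Arith
import Cfsg.Agent.SP.Mon.NL.Out
import Cfsg.Agent.OrdDiv.Table
import Cfsg.Agent.H121.OZ.JTwoCls
import Cfsg.Agent.H514.EppoNine
import Cfsg.Agent.H574.PslThreeFour
import Cfsg.Agent.S0256
import Cfsg.Agent.S1619

/-!
# SM (S3570), socle `Ω⁺₈(2)`: the proper simple subgroups (helper31)
-/

set_option autoImplicit false
set_option maxHeartbeats 400000
set_option maxRecDepth 100000

namespace Cfsg.Agent.SM.O8.Two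

open Subgroup Cfsg.Agent.OrdDiv
open Cfsg.Agent.StdO8.Model (V Om)
open Cfsg.Agent.H320.O8 (Fct fct_T card_cent_congr)

namespace Lst

theorem fct : Fct Om := by
  obtain ⟨e⟩ := StdO8.Model.exists_equiv (F := ZMod 2) (ZMod.card 2)
  exact Fct.congr e.symm (fct_T (ZMod.card 2))

theorem ap_mul (a b : Om) (v : V) : ap (a * b) v = ap a (ap b v) := rfl

theorem ap_inv (a : Om) (v : V) : ap a⁻¹ (ap a v) = v := (a : V ≃ₗ[ZMod 2] V).symm_apply_apply v

theorem nf_conj {g a b : Om} (h : g * a * g⁻¹ = b) : nf b = nf a := by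
  subst h
  refine (Nat.card_congr (Equiv.subtypeEquiv (g : V ≃ₗ[ZMod 2] V).toEquiv fun v => ?_)).symm
  change ap a v = v ↔ ap (g * a * g⁻¹) (ap g v) = ap g v
  rw [ap_mul, ap_mul, ap_inv]
  exact (g : V ≃ₗ[ZMod 2] V).injective.eq_iff.symm

theorem nf_inv (a : Om) : nf a⁻¹ = nf a := by
  refine Nat.card_congr (Equiv.subtypeEquivRight fun v => ⟨fun h => ?_, fun h => ?_⟩)
  · have h1 := ap_inv a⁻¹ v
    rwa [h, inv_inv] at h1
  · have h1 := ap_inv a v
    rwa [h] at h1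

variable {L : Type} [Group L]

/-- an element of order three which normalises a subgroup of order seven -/
theorem seven (h : H320.O8.Sub L) (hc : Nat.card L = 20160 ∨ Nat.card L = 604800) :
    ∃ z w : L, orderOf z = 3 ∧ orderOf w = 7 ∧ z * w * z⁻¹ ∈ zpowers w := by
  have := h.finite
  have : Fact (Nat.Prime 7) := ⟨by norm_num⟩
  have : Fact (Nat.Prime 3) := ⟨by norm_num⟩
  obtain ⟨w, hw⟩ := exists_prime_orderOf_dvd_card' (G := L) 7 (by rcases hc with h | h <;> rw [h] <;> norm_num)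
  have h1 : Nat.card (zpowers w) = 7 := by rw [Nat.card_zpowers, hw]
  let P : Sylow 7 L := Sylow.ofCard (zpowers w) (by
    rw [h1]
    rcases hc with h | h <;> rw [h] <;> decide +kernel)
  have h2 := h.card_normalizer h1
  have h3 := card_sylow_modEq_one 7 L
  rw [P.card_eq_index_normalizer] at h3
  have h4 := (normalizer (zpowers w : Set L)).card_mul_index
  have h5 : 3 ∣ Nat.card (normalizer (zpowers w : Set L)) := by
    change (normalizer (zpowers w : Set L)).index ≡ 1 [MOD 7] at h3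
    generalize (normalizer (zpowers w : Set L)).index = n at h3 h4
    generalize Nat.card (normalizer (zpowers w : Set L)) = b at h2 h4
    have h6 : ∀ b ∈ Nat.divisors 42, 3 ∣ b ∨ b = 1 ∨ b = 2 ∨ b = 7 ∨ b = 14 := by decide
    unfold Nat.ModEq at h3
    rcases h6 b (Nat.mem_divisors.2 ⟨h2, by norm_num⟩) with h | rfl | rfl | rfl | rfl
    · exact h
    all_goals omega
  obtain ⟨z, hz⟩ := exists_prime_orderOf_dvd_card' 3 h5
  exact ⟨z, w, by rw [Subgroup.orderOf_coe, hz], hw, (mem_normalizer_iff.1 z.2 w).1 (mem_zpowers w)⟩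

variable (hR : BoxRot) (ι : L →* Om) (hι : Function.Injective ι)

include hR hι

theorem nf_seven {z w : L} (hz : orderOf z = 3) (hw : orderOf w = 7) (h : z * w * z⁻¹ ∈ zpowers w) : nf (ι z) = 16 := by
  refine hR.2.2.2.1 _ (ι w) (by rw [orderOf_injective ι hι, hz]) (by rw [orderOf_injective ι hι, hw]) ?_
  rw [← map_inv, ← map_mul, ← map_mul, ← MonoidHom.map_zpowers]
  exact mem_map_of_mem ι h

theorem nf_sum {x y : L} (hx : orderOf x = 3) (hy : orderOf y = 3) (h : x * y = y * x) (hn : y ∉ zpowers x) :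
    (nf (ι x) + nf (ι y) + nf (ι (x * y)) + nf (ι (x * y⁻¹))) % 9 = 7 := by
  rw [map_mul, map_mul, map_inv]
  refine hR.2.2.2.2 _ _ (by rw [orderOf_injective ι hι, hx]) (by rw [orderOf_injective ι hι, hy])
    (by rw [← map_mul, h, map_mul]) fun h1 => hn ?_
  rw [← MonoidHom.map_zpowers] at h1
  exact (mem_map_iff_mem hι).1 h1

theorem no_l34 (hc : Nat.card L = 20160) {F : Type} [Field F] [Fintype F] (hF : Fintype.card F = 4)
    (e : L ≃* Matrix.ProjectiveSpecialLinearGroup (Fin 3) F) : False := by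
  have : Fact (Nat.Prime 3) := ⟨by norm_num⟩
  have := (fct.sub ι hι).finite
  obtain ⟨z, w, hz, hw, h⟩ := seven (fct.sub ι hι) (.inl hc)
  have h1 : ∀ x : L, x ^ 3 = 1 → x ≠ 1 → nf (ι x) = 16 := fun x h3 hx => by
    obtain ⟨g, hg⟩ := H574.PslThreeFour.exists_conj hF (x := e z) (y := e x) (by rw [e.orderOf_eq, hz])
      (by rw [e.orderOf_eq, orderOf_eq_prime h3 hx])
    obtain ⟨g, rfl⟩ := e.surjective g
    rw [← map_inv, ← map_mul, ← map_mul, e.injective.eq_iff] at hg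
    rw [nf_conj (g := ι g) (a := ι z) (by rw [← hg, map_mul, map_mul, map_inv]), nf_seven hR ι hι hz hw h]
  obtain ⟨E, k1, k2, k3⟩ := H514.Eppo.psl_three_four hF
  let E' := E.comap e.toMonoidHom
  have m1 : ∀ x ∈ E', ∀ y ∈ E', x * y = y * x := fun x hx y hy => e.injective (by
    rw [map_mul, map_mul]; exact k1 _ hx _ hy)
  have m2 : ∀ x ∈ E', x ^ 3 = 1 := fun x hx => e.injective (by rw [map_pow, map_one]; exact k2 _ hx)
  have m3 : 9 ∣ Nat.card E' := by
    rwa [← card_map_of_injective (K := E') (f := e.toMonoidHom) e.injective, map_comap_eq_self_of_surjective e.surjective]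
  obtain ⟨x, hx⟩ := exists_prime_orderOf_dvd_card' (G := E') 3 (dvd_trans (by norm_num) m3)
  rw [← Subgroup.orderOf_coe] at hx
  obtain ⟨y, hy, hn⟩ : ∃ y ∈ E', y ∉ zpowers (x : L) := by
    by_contra h2
    push Not at h2
    have h3 := m3.trans (card_dvd_of_le h2)
    rw [Nat.card_zpowers, hx] at h3
    norm_num at h3
  have y1 : y ≠ 1 := fun h2 => hn (h2 ▸ one_mem _)
  have h2 := nf_sum hR ι hι hx (orderOf_eq_prime (m2 y hy) y1) (m1 _ x.2 _ hy) hn
  rw [h1 _ (m2 _ x.2) (fun h3 => by rw [h3, orderOf_one] at hx; omega), h1 _ (m2 _ hy) y1,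
    h1 _ (m2 _ (mul_mem x.2 hy)) (fun h3 => hn (by rw [eq_inv_of_mul_eq_one_right h3]; exact inv_mem (mem_zpowers _))),
    h1 _ (m2 _ (mul_mem x.2 (inv_mem hy))) (fun h3 => hn (by rw [← mul_inv_eq_one.1 h3]; exact mem_zpowers _))] at h2
  omega

omit hR hι in
theorem j2_type (h : Spor.IsoJ2 L) (a : L) : ∃ j : Fin 21, orderOf a = H121.OZ.JTwoCls.ov j ∧
    Nat.card (centralizer ({a} : Set L)) = H121.OZ.JTwoCls.cv j := by
  obtain ⟨e⟩ := h
  obtain ⟨f⟩ := J2.HundredGens.J2_iso S1619.result.2.2.2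
  obtain ⟨j, -, h1, h2⟩ := H121.OZ.JTwoCls.type ((e.trans f) a)
  exact ⟨j, by rw [← h1, MulEquiv.orderOf_eq], by rw [← card_cent_congr (e.trans f) a]; exact h2⟩

theorem no_j2 (hc : Nat.card L = 604800) (h : Spor.IsoJ2 L) : False := by
  have : Fact (Nat.Prime 3) := ⟨by norm_num⟩
  have : Fact (Nat.Prime 5) := ⟨by norm_num⟩
  have := (fct.sub ι hι).finite
  obtain ⟨z, w, hz, hw, hn⟩ := seven (fct.sub ι hι) (.inr hc)
  obtain ⟨Q, hQ⟩ := (IsPGroup.of_card (n := 1) (show Nat.card (zpowers z) = 3 ^ 1 by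
    rw [Nat.card_zpowers, hz, pow_one])).exists_le_sylow
  have h1 : Nat.card Q = 27 := by
    rw [Q.card_eq_multiplicity, hc]
    decide +kernel
  have h2 : ∀ x ∈ (Q : Subgroup L), x ≠ 1 → orderOf x = 3 := fun x hx h3 => by
    obtain ⟨j, h4, -⟩ := j2_type h x
    have h5 : ∀ j : Fin 21, H121.OZ.JTwoCls.ov j ∣ 27 → H121.OZ.JTwoCls.ov j = 1 ∨ H121.OZ.JTwoCls.ov j = 3 := by decide
    rw [h4]
    exact (h5 j (h4 ▸ h1 ▸ Subgroup.orderOf_dvd_natCard _ hx)).resolve_left fun h6 => h3 (orderOf_eq_one_iff.1 (h4.trans h6))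
  have h3 : ∀ x : L, orderOf x = 3 → (∀ g ∈ (Q : Subgroup L), g * x = x * g) → Rot (ι x) := fun x hx h4 => by
    obtain ⟨j, h5, h6⟩ := j2_type h x
    have h7 : ∀ j : Fin 21, 27 ∣ H121.OZ.JTwoCls.cv j → 5 ∣ H121.OZ.JTwoCls.cv j := by decide
    obtain ⟨f, hf⟩ := exists_prime_orderOf_dvd_card' 5 (h6 ▸ h7 j (h6 ▸ h1 ▸ card_dvd_of_le fun g hg =>
      mem_centralizer_singleton_iff.2 (h4 g hg)))
    refine hR.2.2.1 _ (ι f) (by rw [orderOf_injective ι hι, hx]) (by rw [orderOf_injective ι hι, Subgroup.orderOf_coe, hf]) ?_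
    rw [← map_mul, ← map_mul, mem_centralizer_singleton_iff.1 f.2]
  by_cases hab : ∀ a b : Q, a * b = b * a
  · obtain ⟨α, hα⟩ := h3 z hz fun g hg => congrArg Subtype.val (hab ⟨g, hg⟩ ⟨z, hQ (mem_zpowers z)⟩)
    have h4 := nf_seven hR (α.toMonoidHom.comp ι) (α.injective.comp hι) hz hw hn
    exact absurd (h4.symm.trans hα) (by norm_num)
  · have h4 : Nontrivial (Q ⧸ center Q) := by
      by_contra h4
      rw [not_nontrivial_iff_subsingleton] at h4
      exact hab fun a b => mem_center_iff.1 ((QuotientGroup.eq_one_iff b).1 (Subsingleton.elim _ _)) a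
    have h5 := (Q.isPGroup'.to_quotient (center Q)).center_nontrivial
    obtain ⟨⟨y, hy⟩, y1⟩ := exists_ne (1 : center (Q ⧸ center Q))
    obtain ⟨y, rfl⟩ := QuotientGroup.mk_surjective y
    have y2 : y ∉ center Q := fun h6 => y1 (Subtype.ext ((QuotientGroup.eq_one_iff y).2 h6))
    obtain ⟨u, hu⟩ := not_forall.1 fun h6 => y2 (mem_center_iff.2 h6)
    have h6 : u * y * u⁻¹ * y⁻¹ ∈ center Q := by
      rw [← QuotientGroup.eq_one_iff, QuotientGroup.mk_mul, QuotientGroup.mk_mul, QuotientGroup.mk_mul,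
        mem_center_iff.1 hy, QuotientGroup.mk_inv, QuotientGroup.mk_inv]
      group
    generalize hx : u * y * u⁻¹ * y⁻¹ = x at h6
    have x1 : (x : L) ≠ 1 := fun h7 => hu (by
      rw [← mul_inv_eq_one, mul_inv_rev, ← mul_assoc, hx]
      exact Subtype.ext h7)
    have x3 := h2 x x.2 x1
    have y3 := h2 y y.2 fun h7 => y2 ((show y = 1 from Subtype.ext h7) ▸ one_mem _)
    have c1 : ∀ g : Q, g * x = x * g := mem_center_iff.1 h6
    obtain ⟨α, hα⟩ := h3 x x3 fun g hg => congrArg Subtype.val (c1 ⟨g, hg⟩)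
    let κ := α.toMonoidHom.comp ι
    have hκ : Function.Injective κ := α.injective.comp hι
    have h7 := nf_sum hR κ hκ x3 y3 (congrArg Subtype.val (c1 y).symm) fun h7 => y2 (by
      obtain ⟨n, hn⟩ := h7
      have h8 : x ^ n = y := Subtype.ext hn
      exact h8 ▸ zpow_mem h6 n)
    have e1 : u * y * u⁻¹ = x * y := by rw [← hx, inv_mul_cancel_right]
    have e2 : u * (x * y⁻¹) * u⁻¹ = y⁻¹ := by
      rw [← mul_assoc, c1 u, mul_assoc, mul_assoc, ← mul_assoc u, show u * y⁻¹ * u⁻¹ = (x * y)⁻¹ by rw [← e1]; group,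
        ← c1 y, mul_inv_rev, mul_inv_cancel_left]
    have h8 : nf (κ (x * y)) = nf (κ y) := nf_conj (g := κ u) (by
      rw [← map_inv, ← map_mul, ← map_mul]; exact congrArg (fun g : Q => κ g) e1)
    have h9 : nf (κ y)⁻¹ = nf (κ (x * (y : L)⁻¹)) := nf_conj (g := κ u) (by
      rw [← map_inv, ← map_inv, ← map_mul, ← map_mul]; exact congrArg (fun g : Q => κ g) e2)
    rw [h8, ← h9, nf_inv, show nf (κ x) = 64 from hα] at h7
    have h10 := hR.1 (κ y) (by rw [orderOf_injective κ hκ, y3])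
    omega

omit hR hι in
theorem filt : ∀ e ∈ SP.Mon.NL.LM, e.2.1 ∣ 174182400 → e.2.1 = 174182400 ∨ e.2.1 = 1814400 ∨
    (e.1 = .j2 ∧ e.2.1 = 604800) ∨ (e.1 = .psl 3 4 ∧ e.2.1 = 20160) ∨
    ((e.2.1, e.2.2 * e.2.1) ∈ tab ∧ (e.2.1 = 2520 → e.1 = .alt 7) ∧ (e.2.1 = 20160 → e.1 = .alt 8 ∨ e.1 = .psl 4 2) ∧
      (e.2.1 = 181440 → e.1 = .alt 9)) := by
  decide +kernel

end Lst

open Lst

/-- **the proper simple subgroups** -/
theorem boxList_of (hK : Kn) (hR : BoxRot) : BoxList := by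
  intro L hL hS hn
  have := fct.finite
  have hs : H320.O8.Sub L := fct.sub L.subtype L.subtype_injective
  have hna : ¬ ∀ a b : L, a * b = b * a := fun h => hn ⟨⟨h⟩⟩
  obtain ⟨e, he, h1, h2, h3⟩ := SP.Mon.NL.exists_name ⟨table, fun S _ _ _ => hK S⟩ hna (hs.card.trans (by norm_num))
  rcases filt e he (h2 ▸ hs.card) with h | h | ⟨h, h'⟩ | ⟨h, h'⟩ | ⟨h, h4, h5, h6⟩
  · exact absurd (eq_top_of_card_eq L (by rw [h2, h, fct.card])) hL
  · have e := (topEquiv : (⊤ : Subgroup L) ≃* L)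
    have h4 : Nat.card (⊤ : Subgroup L) = 1814400 := by rw [card_top, h2, h]
    obtain ⟨b, -, n, hb, -, -, h5, h6⟩ := hs.numbers (S := ⊤) e.isSimpleGroup (fun h => hna fun a b => e.symm.injective (by
      rw [map_mul, map_mul, h])) (by rw [h4]; norm_num)
    rw [h4] at h5
    rcases hb with rfl | rfl | rfl <;> omega
  · rw [h] at h1
    exact (no_j2 hR L.subtype L.subtype_injective (h2.trans h') h1).elim
  · rw [h] at h1
    obtain ⟨F, _, _, hF, ⟨u⟩⟩ := h1
    exact (no_l34 hR L.subtype L.subtype_injective (h2.trans h') hF u).elim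
  · refine ⟨⟨_, h, h2, h3⟩, fun h7 => ?_, fun h7 => ?_, fun h7 => ?_⟩
    · rwa [h4 (h2.symm.trans h7)] at h1
    · rcases h5 (h2.symm.trans h7) with h8 | h8 <;> rw [h8] at h1
      · exact h1
      · obtain ⟨F, _, _, hF, ⟨u⟩⟩ := h1
        obtain ⟨v⟩ := S0256.result hF
        exact ⟨u.trans v⟩
    · rwa [h6 (h2.symm.trans h7)] at h1

end Cfsg.Agent.SM.O8.Two
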