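import Cfsg.Agent.SM.O8.Two.Defs

/-!
# SM (S3570), socle `Ω⁺₈(2)`: normal `2`- and `3`-subgroups (helper24)
-/

set_option autoImplicit false

namespace Cfsg.Agent.SM.O8.Two

open Module Subgroup
open Cfsg.Agent.StdO8.Model (V q B O8 Om)
open Cfsg.Agent.StdO8.Aut (cj)

namespace Loc

section gen

variable {G W : Type*} [Group G] [AddCommGroup W] [DistribMulAction G W]

/-- an element of order five fixes an invariant set with at most four elements pointwise -/
theorem fix_small {f : G} (hf : f ^ 5 = 1) {S : Set W} (hfin : S.Finite) (hS : S.ncard ≤ 4) (hi : ∀ v ∈ S, f • v ∈ S)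
    {v : W} (hv : v ∈ S) : f • v = v := by
  by_contra hne
  have hp : ∀ i : ℕ, f ^ i • v ∈ S := by
    intro i
    induction i with
    | zero => simpa using hv
    | succ i ih => rw [pow_succ', mul_smul]; exact hi _ ih
  have key : ∀ d : ℕ, 0 < d → d < 5 → f ^ d • v ≠ v := by
    intro d h0 h5 h
    have hk : ∀ k : ℕ, f ^ (d * k) • v = v := by
      intro k
      induction k with
      | zero => simp
      | succ k ih => rw [Nat.mul_succ, pow_add, mul_smul, h, ih]
    have h1 : ∀ k m : ℕ, d * k = 5 * m + 1 → False := by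
      intro k m e
      have := hk k
      rw [e, pow_add, pow_mul, hf, one_pow, one_mul, pow_one] at this
      exact hne this
    interval_cases d
    · exact h1 1 0 rfl
    · exact h1 3 1 rfl
    · exact h1 2 1 rfl
    · exact h1 4 3 rfl
  have hinj : Function.Injective fun i : Fin 5 => (⟨f ^ i.1 • v, hp _⟩ : S) := by
    have aux : ∀ i j : Fin 5, i < j → f ^ i.1 • v ≠ f ^ j.1 • v := by
      intro i j hij h
      have hlt : i.1 < j.1 := hij
      have e : j.1 = i.1 + (j.1 - i.1) := by omega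
      rw [e, pow_add, mul_smul] at h
      exact key (j.1 - i.1) (by omega) (by omega) (smul_left_cancel _ h).symm
    intro i j h
    have h' : f ^ i.1 • v = f ^ j.1 • v := congrArg Subtype.val h
    rcases lt_trichotomy i j with k | k | k
    · exact absurd h' (aux i j k)
    · exact k
    · exact absurd h'.symm (aux j i k)
  have := hfin.to_subtype
  have h5 := Nat.card_le_card_of_injective _ hinj
  rw [Nat.card_eq_fintype_card, Fintype.card_fin, Nat.card_coe_set_eq] at h5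
  omega

/-- the kernel of a Frobenius group acts trivially if the complement has no fixed vector -/
theorem frob (h2 : ∀ v : W, v + v = 0) (K : Subgroup G) [Finite K] (hK : Odd (Nat.card K)) {f : G} (hf : f ^ 5 = 1)
    (hn : ∀ x ∈ K, f * x * f⁻¹ ∈ K) (hc : ∀ x ∈ K, ∀ i : ℕ, 0 < i → i < 5 → f ^ i * x = x * f ^ i → x = 1)
    (h0 : ∀ v : W, f • v = v → v = 0) {k : G} (hk : k ∈ K) (v : W) : k • v = v := by
  classical
  have := Fintype.ofFinite K
  have hnorm : ∀ w : W, w + f • w + f ^ 2 • w + f ^ 3 • w + f ^ 4 • w = 0 := by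
    intro w
    apply h0
    simp only [smul_add, ← mul_smul]
    rw [← pow_succ', ← pow_succ', ← pow_succ', ← sq]
    norm_num
    rw [hf, one_smul]
    abel
  have hn' : ∀ i : ℕ, ∀ x ∈ K, f ^ i * x * (f ^ i)⁻¹ ∈ K := by
    intro i
    induction i with
    | zero => intro x hx; simpa using hx
    | succ i ih =>
      intro x hx
      have := hn _ (ih x hx)
      convert this using 1
      rw [pow_succ']; group
  -- the sum over the conjugates of `f ^ i`
  have hs : ∀ i : ℕ, 0 < i → i < 5 → ∀ w : W,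
      ∑ x : K, (x : G) • f ^ i • (x : G)⁻¹ • w = ∑ y : K, (y : G) • f ^ i • w := by
    intro i h1 h5 w
    let φ : K → K := fun x => ⟨x * (f ^ i * (x : G)⁻¹ * (f ^ i)⁻¹), K.mul_mem x.2 (hn' i _ (K.inv_mem x.2))⟩
    have hφ : Function.Injective φ := by
      intro x y h
      have h' : (x : G) * (f ^ i * (x : G)⁻¹ * (f ^ i)⁻¹) = y * (f ^ i * (y : G)⁻¹ * (f ^ i)⁻¹) := congrArg Subtype.val h
      have e : f ^ i * ((y : G)⁻¹ * x) = ((y : G)⁻¹ * x) * f ^ i := by
        calc f ^ i * ((y : G)⁻¹ * x) = (y : G)⁻¹ * (y * (f ^ i * (y : G)⁻¹ * (f ^ i)⁻¹)) * f ^ i * x := by group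
          _ = (y : G)⁻¹ * (x * (f ^ i * (x : G)⁻¹ * (f ^ i)⁻¹)) * f ^ i * x := by rw [h']
          _ = ((y : G)⁻¹ * x) * f ^ i := by group
      have := hc _ (K.mul_mem (K.inv_mem y.2) x.2) i h1 h5 e
      exact Subtype.ext (inv_mul_eq_one.1 this).symm
    rw [← (Equiv.ofBijective φ (Finite.injective_iff_bijective.1 hφ)).sum_comp fun y : K => (y : G) • f ^ i • w]
    refine Finset.sum_congr rfl fun x _ => ?_
    show _ = ((x : G) * (f ^ i * (x : G)⁻¹ * (f ^ i)⁻¹)) • f ^ i • w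
    simp only [← mul_smul]
    congr 1
    group
  have hz : ∑ x : K, (x : G) • ((x : G)⁻¹ • v + f • (x : G)⁻¹ • v + f ^ 2 • (x : G)⁻¹ • v + f ^ 3 • (x : G)⁻¹ • v +
      f ^ 4 • (x : G)⁻¹ • v) = 0 := by
    refine Finset.sum_eq_zero fun x _ => ?_
    rw [hnorm, smul_zero]
  simp only [smul_add, Finset.sum_add_distrib, smul_inv_smul] at hz
  have h1 := hs 1 (by omega) (by omega) v
  rw [pow_one] at h1
  rw [h1, hs 2 (by omega) (by omega), hs 3 (by omega) (by omega), hs 4 (by omega) (by omega)] at hz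
  have hv : ∑ _x : K, v = v := by
    obtain ⟨m, hm⟩ := hK
    rw [Finset.sum_const, Finset.card_univ, ← Nat.card_eq_fintype_card, hm, add_smul, one_smul, mul_smul, two_smul, h2,
      zero_add]
  have hw : f • v + f ^ 2 • v + f ^ 3 • v + f ^ 4 • v = v := by
    have := hnorm v
    calc f • v + f ^ 2 • v + f ^ 3 • v + f ^ 4 • v
        = (v + v) + (f • v + f ^ 2 • v + f ^ 3 • v + f ^ 4 • v) := by rw [h2, zero_add]
      _ = v + (v + f • v + f ^ 2 • v + f ^ 3 • v + f ^ 4 • v) := by abel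
      _ = v := by rw [this, add_zero]
  have hsum : ∑ y : K, (y : G) • v = v := by
    have e : ∑ y : K, (y : G) • v = ∑ y : K, (y : G) • f • v + ∑ y : K, (y : G) • f ^ 2 • v +
        ∑ y : K, (y : G) • f ^ 3 • v + ∑ y : K, (y : G) • f ^ 4 • v := by
      simp only [← Finset.sum_add_distrib, ← smul_add, hw]
    rw [hv] at hz
    calc ∑ y : K, (y : G) • v = (v + v) + ∑ y : K, (y : G) • v := by rw [h2, zero_add]
      _ = v + (v + ∑ y : K, (y : G) • f • v + ∑ y : K, (y : G) • f ^ 2 • v +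
        ∑ y : K, (y : G) • f ^ 3 • v + ∑ y : K, (y : G) • f ^ 4 • v) := by rw [e]; abel
      _ = v := by rw [hz, add_zero]
  rw [← hsum, Finset.smul_sum, ← Equiv.sum_comp (Equiv.mulLeft (⟨k, hk⟩ : K)) fun y : K => (y : G) • v]
  refine Finset.sum_congr rfl fun y _ => ?_
  show _ = (k * (y : G)) • v
  rw [mul_smul]

end gen

/-- an element of order five which has no fixed vector centralises every normalised elementary abelian `3`-group -/
theorem cent_of_fpf {G W : Type*} [Group G] [Finite G] [AddCommGroup W] [DistribMulAction G W] [FaithfulSMul G W]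
    (h2 : ∀ v : W, v + v = 0) (N : Subgroup G) (h3 : ∀ x ∈ N, x ^ 3 = 1) (hab : ∀ x ∈ N, ∀ y ∈ N, x * y = y * x)
    {f : G} (hf : f ^ 5 = 1) (hn : ∀ x ∈ N, f * x * f⁻¹ ∈ N) (h0 : ∀ v : W, f • v = v → v = 0) :
    ∀ x ∈ N, f * x = x * f := by
  -- the commutators `x ^ f * x⁻¹`
  let K : Subgroup G :=
    { carrier := {y | ∃ x ∈ N, y = f * x * f⁻¹ * x⁻¹}
      one_mem' := ⟨1, N.one_mem, by group⟩
      mul_mem' := by
        rintro _ _ ⟨a, ha, rfl⟩ ⟨b, hb, rfl⟩
        refine ⟨a * b, N.mul_mem ha hb, ?_⟩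
        have e1 := hab _ (N.inv_mem ha) _ (hn b hb)
        have e2 := hab _ (N.inv_mem ha) _ (N.inv_mem hb)
        calc f * a * f⁻¹ * a⁻¹ * (f * b * f⁻¹ * b⁻¹) = f * a * f⁻¹ * (a⁻¹ * (f * b * f⁻¹)) * b⁻¹ := by group
          _ = f * a * f⁻¹ * (f * b * f⁻¹) * (a⁻¹ * b⁻¹) := by rw [e1]; group
          _ = f * (a * b) * f⁻¹ * (a * b)⁻¹ := by rw [e2]; group
      inv_mem' := by
        rintro _ ⟨a, ha, rfl⟩
        refine ⟨a⁻¹, N.inv_mem ha, ?_⟩
        have e1 := hab _ ha _ (hn _ (N.inv_mem ha))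
        calc (f * a * f⁻¹ * a⁻¹)⁻¹ = a * (f * a⁻¹ * f⁻¹) := by group
          _ = f * a⁻¹ * f⁻¹ * a⁻¹⁻¹ := by rw [e1, inv_inv] }
  have hKN : K ≤ N := by
    rintro _ ⟨a, ha, rfl⟩
    exact N.mul_mem (hn a ha) (N.inv_mem ha)
  have hK3 : IsPGroup 3 K := fun y => ⟨1, Subtype.ext (by simpa using h3 _ (hKN y.2))⟩
  have : Fact (Nat.Prime 3) := ⟨by norm_num⟩
  obtain ⟨m, hm⟩ := hK3.exists_card_eq
  have hodd : Odd (Nat.card K) := by rw [hm]; exact Odd.pow (by decide)
  have hnK : ∀ y ∈ K, f * y * f⁻¹ ∈ K := by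
    rintro _ ⟨a, ha, rfl⟩
    exact ⟨f * a * f⁻¹, hn a ha, by group⟩
  have hc : ∀ y ∈ K, ∀ i : ℕ, 0 < i → i < 5 → f ^ i * y = y * f ^ i → y = 1 := by
    intro y hy i h1 h5 hi
    have hci : Commute (f ^ i) y := hi
    have hcf : Commute f y := by
      have h1 : ∀ k m : ℕ, i * k = 5 * m + 1 → Commute f y := by
        intro k m e
        have := hci.pow_left k
        rwa [← pow_mul, e, pow_add, pow_mul, hf, one_pow, one_mul, pow_one] at this
      interval_cases i
      · exact h1 1 0 rfl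
      · exact h1 3 1 rfl
      · exact h1 2 1 rfl
      · exact h1 4 3 rfl
    obtain ⟨a, ha, hya⟩ := hy
    -- `f ^ j a f ^ -j = y ^ j a`
    have hj : ∀ j : ℕ, f ^ j * a * (f ^ j)⁻¹ = y ^ j * a := by
      intro j
      induction j with
      | zero => simp
      | succ j ih =>
        have e : f * a * f⁻¹ = y * a := by rw [hya]; group
        calc f ^ (j + 1) * a * (f ^ (j + 1))⁻¹ = f * (f ^ j * a * (f ^ j)⁻¹) * f⁻¹ := by rw [pow_succ']; group
          _ = f * y ^ j * f⁻¹ * (f * a * f⁻¹) := by rw [ih]; group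
          _ = y ^ (j + 1) * a := by rw [e, (hcf.pow_right j).eq, pow_succ]; group
    have h5' : y ^ 5 = 1 := by
      have := hj 5
      rw [hf, one_mul, inv_one, mul_one] at this
      exact (mul_eq_right.1 this.symm)
    have h3' := h3 y (hKN ⟨a, ha, hya⟩)
    calc y = y ^ 6 * (y ^ 5)⁻¹ := by group
      _ = 1 := by rw [h5', show y ^ 6 = (y ^ 3) ^ 2 by rw [← pow_mul], h3']; simp
  intro x hx
  have h1 : f * x * f⁻¹ * x⁻¹ = 1 :=
    eq_of_smul_eq_smul (α := W) fun v => by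
      rw [frob h2 K hodd hf hnK hc h0 ⟨x, hx, rfl⟩ v, one_smul]
  calc f * x = f * x * f⁻¹ * x⁻¹ * (x * f) := by group
    _ = x * f := by rw [h1, one_mul]

theorem ap_eq (g : Om) (v : V) : ap g v = g • v := rfl

theorem ap_mul (g h : Om) (v : V) : ap (g * h) v = ap g (ap h v) := rfl

theorem ap_B (g : Om) (u v : V) : B (ap g u) (ap g v) = B u v :=
  StdO8.Model.O8_B (StdO8.Model.Om_le g.2) u v

theorem ap_q (g : Om) (u : V) : q (ap g u) = q u := StdO8.Model.O8_q (StdO8.Model.Om_le g.2) u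

theorem ap_inv (g : Om) (v : V) : ap g (ap g⁻¹ v) = v := (g : V ≃ₗ[ZMod 2] V).apply_symm_apply v

theorem card_sub (W : Submodule (ZMod 2) V) : Nat.card W = 2 ^ finrank (ZMod 2) W := by
  rw [Module.natCard_eq_pow_finrank (K := ZMod 2), Nat.card_zmod]

theorem fin : Finite Om :=
  Finite.of_injective (fun (g : Om) (v : V) => ap g v) fun _ _ h => Subtype.ext (LinearEquiv.ext (congrFun h))

theorem exists_five {Y : Subgroup Om} (h : 5 ∣ Nat.card Y) : ∃ f ∈ Y, orderOf f = 5 := by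
  have : Fact (Nat.Prime 5) := ⟨by norm_num⟩
  have := fin
  obtain ⟨f, hf⟩ := exists_prime_orderOf_dvd_card' 5 h
  exact ⟨f, f.2, by rw [Subgroup.orderOf_coe, hf]⟩

end Loc

open Loc

/-- **normal `2`-subgroups** -/
theorem boxTwo_of (hT : BoxTS) (hC : BoxC5) : BoxTwo := by
  intro Y N hN h2 hY h5
  -- the fixed space, its orthogonal complement, and the singular vectors of the radical
  let C : Submodule (ZMod 2) V :=
    { carrier := {v | ∀ n ∈ N, ap n v = v}
      zero_mem' := fun n _ => map_zero _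
      add_mem' := fun {a b} ha hb n hn => by rw [ap, map_add]; exact congrArg₂ _ (ha n hn) (hb n hn)
      smul_mem' := fun c a ha n hn => by rw [ap, map_smul]; exact congrArg _ (ha n hn) }
  let D : Submodule (ZMod 2) V :=
    { carrier := {v | ∀ c ∈ C, B c v = 0}
      zero_mem' := fun c _ => StdO8.Model.B_zero_right c
      add_mem' := fun {a b} ha hb c hc => by rw [StdO8.Model.B_add_right, ha c hc, hb c hc, add_zero]
      smul_mem' := fun k a ha c hc => by rw [StdO8.Model.B_smul_right, ha c hc, mul_zero] }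
  let R : Submodule (ZMod 2) V :=
    { carrier := {v | v ∈ C ∧ v ∈ D ∧ q v = 0}
      zero_mem' := ⟨C.zero_mem, D.zero_mem, StdO8.Model.q_zero⟩
      add_mem' := fun {a b} ha hb => ⟨C.add_mem ha.1 hb.1, D.add_mem ha.2.1 hb.2.1, by
        rw [StdO8.Model.q_add, ha.2.2, hb.2.2, hb.2.1 a ha.1]; simp⟩
      smul_mem' := fun k a ha => ⟨C.smul_mem k ha.1, D.smul_mem k ha.2.1, by
        rw [QuadraticMap.map_smul, ha.2.2, smul_zero]⟩ }
  have hC' : ∀ g ∈ normalizer (N : Set Om), ∀ v ∈ C, ap g v ∈ C := by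
    intro g hg v hv n hn
    have h1 : g⁻¹ * n * g⁻¹⁻¹ ∈ N := (mem_normalizer_iff.1 (inv_mem hg) n).1 hn
    have h3 := hv _ h1
    rw [inv_inv, ap_mul, ap_mul] at h3
    rw [← ap_inv g (ap n (ap g v)), h3]
  have hD' : ∀ g ∈ normalizer (N : Set Om), ∀ v ∈ D, ap g v ∈ D := by
    intro g hg v hv c hc
    rw [← ap_inv g c, ap_B]
    exact hv _ (hC' _ (inv_mem hg) c hc)
  have hR' : ∀ g ∈ Y, ∀ v ∈ R, ap g v ∈ R := fun g hg v hv =>
    ⟨hC' g (hY hg) v hv.1, hD' g (hY hg) v hv.2.1, (ap_q g v).trans hv.2.2⟩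
  -- a nonzero vector of the radical
  obtain ⟨v, hv0, hvC, hvD⟩ : ∃ v, v ≠ 0 ∧ v ∈ C ∧ v ∈ D := by
    obtain ⟨n, hn1⟩ := (Subgroup.ne_bot_iff_exists_ne_one).1 hN
    obtain ⟨w, hw⟩ : ∃ w, ap (n : Om) w ≠ w := by
      by_contra hcon
      push Not at hcon
      exact hn1 (Subtype.ext (Subtype.ext (LinearEquiv.ext hcon)))
    have hwD : ap (n : Om) w + w ∈ D := by
      intro c hc
      rw [StdO8.Model.B_add_right]
      conv_lhs => rw [← hc n n.2, ap_B, hc n n.2]
      exact CharTwo.add_self_eq_zero _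
    have hw0 : ap (n : Om) w + w ≠ 0 := fun h => hw (StdO8.Model.eq_of_add_eq_zero h)
    let A : SubMulAction N V :=
      { carrier := D
        smul_mem' := fun k _ hx => hD' k (le_normalizer k.2) _ hx }
    have : Fact (Nat.Prime 2) := ⟨Nat.prime_two⟩
    have hdvd : 2 ∣ Nat.card A := by
      have e : Nat.card A = Nat.card D := rfl
      rw [e, card_sub]
      refine dvd_pow_self 2 fun h => hw0 ?_
      have := Submodule.finrank_eq_zero.1 h
      rw [this] at hwD
      exact hwD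
    obtain ⟨b, hb, hb0⟩ := h2.exists_fixed_point_of_prime_dvd_card_of_fixed_point A hdvd (a := ⟨0, D.zero_mem⟩)
      (fun k => Subtype.ext (smul_zero _))
    refine ⟨b.1, fun h => hb0 (Subtype.ext h.symm), fun k hk => ?_, b.2⟩
    exact congrArg Subtype.val (hb ⟨k, hk⟩)
  by_cases h3 : 3 ≤ finrank (ZMod 2) R
  · obtain ⟨α, u, hu, -, h⟩ := hT R h3 fun w hw => hw.2.2
    exact ⟨α, u, hu, fun g hg => h g (hR' g hg)⟩
  obtain ⟨f, hfY, hf⟩ := exists_five h5
  have hf5 : f ^ 5 = 1 := by rw [← hf]; exact pow_orderOf_eq_one f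
  have hcard : (R : Set V).ncard ≤ 4 := by
    rw [← Nat.card_coe_set_eq]
    show Nat.card R ≤ 4
    rw [card_sub]
    calc 2 ^ finrank (ZMod 2) R ≤ 2 ^ 2 := Nat.pow_le_pow_right (by omega) (by omega)
      _ = 4 := rfl
  have hfix : ∀ w ∈ R, ap f w = w := fun w hw =>
    fix_small (G := Om) hf5 (Set.toFinite _) hcard (fun w hw => hR' f hfY w hw) hw
  have huniq : ∀ u ∈ R, ∀ w ∈ R, u ≠ 0 → w ≠ 0 → u = w := fun u hu w hw hu0 hw0 =>
    (((hC.1 f hf).2.2.1 u w (hfix u hu) (hfix w hw) hu.2.2 hw.2.2 (hw.2.1 u hu.1)).resolve_left hu0).resolve_left hw0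
  have hne : ∀ (g : Om) (u : V), u ≠ 0 → ap g u ≠ 0 := fun g u hu h =>
    hu ((g : V ≃ₗ[ZMod 2] V).map_eq_zero_iff.1 h)
  by_cases hR : ∃ u ∈ R, u ≠ 0
  · obtain ⟨u, hu, hu0⟩ := hR
    exact ⟨1, u, hu0, fun g hg => huniq _ (hR' g hg u hu) _ hu (hne g u hu0) hu0⟩
  · push Not at hR
    refine ⟨1, v, hv0, fun g hg => StdO8.Model.eq_of_add_eq_zero (hR _ ?_)⟩
    have h1 := hC' g (hY hg) v hvC
    have h4 := hD' g (hY hg) v hvD
    refine ⟨C.add_mem h1 hvC, D.add_mem h4 hvD, ?_⟩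
    show q (ap g v + v) = 0
    rw [StdO8.Model.q_add, ap_q, hvD _ h1, add_zero]
    exact CharTwo.add_self_eq_zero _

/-- **normal `3`-subgroups** -/
theorem boxThree_of (hNt : BoxNt) (hR : BoxRot) : BoxThree := by
  intro Y N hN h3 hab hY h5
  -- every element of order five of `Y` centralises `N`
  have hcen : ∀ f ∈ Y, f ^ 5 = 1 → ∀ x ∈ N, f * x = x * f := by
    intro f hfY hf5 x hx
    by_cases hf1 : f = 1
    · rw [hf1, one_mul, mul_one]
    have : Fact (Nat.Prime 5) := ⟨by norm_num⟩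
    have hf : orderOf f = 5 := orderOf_eq_prime hf5 hf1
    obtain ⟨β, hβ⟩ : ∃ β : MulAut Om, ∀ v, ap (β f) v = v → v = 0 := by
      by_cases h : ∃ v, v ≠ 0 ∧ ap f v = v
      · obtain ⟨β, hβ⟩ : ∃ β : MulAut Om, β ∉ cj.range := by
          by_contra hcon
          push Not at hcon
          have h1 := StdO8.Aut.index_range
          rw [(Subgroup.eq_top_iff' _).2 hcon, Subgroup.index_top] at h1
          omega
        refine ⟨β, fun v hv => ?_⟩
        by_contra h0
        exact hβ (hNt.2.1 β f hf h ⟨v, h0, hv⟩)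
      · refine ⟨1, fun v hv => ?_⟩
        by_contra h0
        exact h ⟨v, h0, hv⟩
    have := fin
    apply β.injective
    rw [map_mul, map_mul]
    refine cent_of_fpf (G := Om) (W := V) StdO8.Model.add_self (im β N) ?_ ?_ (f := β f) ?_ ?_ hβ _ ⟨x, hx, rfl⟩
    · rintro _ ⟨a, ha, rfl⟩
      show β a ^ 3 = 1
      rw [← map_pow, h3 a ha, map_one]
    · rintro _ ⟨a, ha, rfl⟩ _ ⟨b, hb, rfl⟩
      show β a * β b = β b * β a
      rw [← map_mul, hab a ha b hb, map_mul]
    · rw [← map_pow, hf5, map_one]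
    · rintro _ ⟨a, ha, rfl⟩
      refine ⟨f * a * f⁻¹, (mem_normalizer_iff.1 (hY hfY) a).1 ha, ?_⟩
      show β (f * a * f⁻¹) = β f * β a * (β f)⁻¹
      rw [map_mul, map_mul, map_inv]
  obtain ⟨f, hfY, hf⟩ := exists_five h5
  have hf5 : f ^ 5 = 1 := by rw [← hf]; exact pow_orderOf_eq_one f
  obtain ⟨⟨x, hx⟩, hx1⟩ := (Subgroup.ne_bot_iff_exists_ne_one).1 hN
  have hx1' : x ≠ 1 := fun h => hx1 (Subtype.ext h)
  have : Fact (Nat.Prime 3) := ⟨by norm_num⟩
  have hxo : orderOf x = 3 := orderOf_eq_prime (h3 x hx) hx1'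
  obtain ⟨α, hα⟩ := hR.2.2.1 x f hxo hf (hcen f hfY hf5 x hx).symm
  -- the plane of the rotation
  let L : V →ₗ[ZMod 2] V := ((α x : Om) : V ≃ₗ[ZMod 2] V).toLinearMap - LinearMap.id
  have hL : ∀ v, L v = ap (α x) v - v := fun _ => rfl
  have hker : finrank (ZMod 2) (LinearMap.ker L) = 6 := by
    have e : Nat.card (LinearMap.ker L) = 64 := by
      rw [← hα, nf]
      refine Nat.card_congr (Equiv.subtypeEquivRight fun v => ?_)
      rw [LinearMap.mem_ker, hL, sub_eq_zero]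
    rw [card_sub] at e
    exact Nat.pow_right_injective (le_refl 2) e
  have hrg : finrank (ZMod 2) (LinearMap.range L) = 2 := by
    have := L.finrank_range_add_finrank_ker
    rw [hker, StdO8.Model.finrank_V] at this
    omega
  obtain ⟨v, hv, hv0⟩ : ∃ v ∈ LinearMap.range L, v ≠ 0 := by
    by_contra hcon
    push Not at hcon
    rw [(Submodule.eq_bot_iff _).2 hcon, finrank_bot] at hrg
    omega
  refine ⟨α, v, hv0, fun g hg hg5 => ?_⟩
  have hcard : (LinearMap.range L : Set V).ncard ≤ 4 := by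
    rw [← Nat.card_coe_set_eq]
    show Nat.card (LinearMap.range L) ≤ 4
    rw [card_sub, hrg]
    exact le_rfl
  refine fix_small (G := Om) (f := α g) (by rw [← map_pow, hg5, map_one]) (Set.toFinite _) hcard ?_ hv
  rintro _ ⟨w, rfl⟩
  refine ⟨ap (α g) w, ?_⟩
  rw [hL, hL, smul_sub, ← ap_eq, ← ap_eq, ← ap_mul, ← ap_mul, ← map_mul, ← map_mul, hcen g hg hg5 x hx]

end Cfsg.Agent.SM.O8.Two
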