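import Cfsg.Agent.SM.O8.Two.MB

/-!
# SM (S3570), socle `Ω⁺₈(2)`: the count (helper88)
-/

set_option autoImplicit false
set_option linter.unusedSectionVars false

namespace Cfsg.Agent.SM.O8.Two

open Subgroup Equiv MulAction
open Cfsg.Agent.StdO8.Model (V q B O8 Om)
open Cfsg.Agent.StdO8.Aut (cj)
open Cfsg.Agent.H245.O8Refl (card_Om v0 q_v0)
open Cfsg.Agent.SM.Ex78 (Pd)

namespace As

theorem mem_im {α : MulAut Om} {R : Subgroup Om} {g : Om} : g ∈ im α R ↔ α⁻¹ g ∈ R :=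
  ⟨by rintro ⟨x, hx, rfl⟩; exact (MulAut.inv_apply_self _ α x).symm ▸ hx, fun h => ⟨_, h, MulAut.apply_inv_self _ α g⟩⟩

theorem im_mul (α β : MulAut Om) (R : Subgroup Om) : im (α * β) R = im α (im β R) := by
  ext g
  rw [mem_im, mem_im, mem_im, mul_inv_rev, MulAut.mul_apply]

theorem im_one (R : Subgroup Om) : im 1 R = R := by
  ext g
  rw [mem_im, inv_one, MulAut.one_apply]

theorem card_im (α : MulAut Om) (R : Subgroup Om) : Nat.card (im α R) = Nat.card R :=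
  (Nat.card_congr (α.subgroupMap R).toEquiv).symm

theorem im_ne {α : MulAut Om} {R : Subgroup Om} (h : R ≠ ⊤) : im α R ≠ ⊤ := fun e => h (eq_top_iff.2 fun g _ => by
  have h1 : α g ∈ im α R := e ▸ mem_top _
  rwa [mem_im, MulAut.inv_apply_self] at h1)

theorem im_im_conj (α : MulAut Om) (g : Om) (R : Subgroup Om) :
    im α (im (MulAut.conj g) R) = im (MulAut.conj (α g)) (im α R) := by
  rw [← im_mul, ← im_mul]
  congr 1
  ext1 x
  rw [MulAut.mul_apply, MulAut.mul_apply, MulAut.conj_apply, MulAut.conj_apply, map_mul, map_mul, map_inv]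

theorem ap_cj (M : O8) (g : Om) (v : V) : ap (cj M g) ((M : V ≃ₗ[ZMod 2] V) v) = (M : V ≃ₗ[ZMod 2] V) (ap g v) :=
  congrArg (fun w => (M : V ≃ₗ[ZMod 2] V) (ap g w)) ((M : V ≃ₗ[ZMod 2] V).symm_apply_apply v)

theorem im_SS (M : O8) {Z Z' : Set V} (h : ∀ v, v ∈ Z ↔ (M : V ≃ₗ[ZMod 2] V) v ∈ Z') : im (cj M) (SS Z) = SS Z' := by
  ext g
  obtain ⟨g, rfl⟩ := (cj M).surjective g
  rw [mem_im, MulAut.inv_apply_self]
  refine ⟨fun k v => ?_, fun k v => ?_⟩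
  · obtain ⟨v, rfl⟩ := (M : V ≃ₗ[ZMod 2] V).surjective v
    rw [ap_cj, ← h, ← h]
    exact k v
  · rw [h, h, ← ap_cj]
    exact k _

theorem im_Z5 (M : O8) (P : Subgroup Om) : im (cj M) (SS (Z5 P)) = SS (Z5 (im (cj M) P)) := by
  refine im_SS M fun v => ⟨?_, ?_⟩
  · rintro ⟨f, hf, h1, h2⟩
    exact ⟨cj M f, ⟨f, hf, rfl⟩, fun e => h1 ((map_eq_one_iff _ (cj M).injective).1 e), by rw [ap_cj, h2]⟩
  · rintro ⟨_, ⟨f, hf, rfl⟩, h1, h2⟩
    exact ⟨f, hf, fun e => h1 (by rw [e]; exact map_one _),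
      (M : V ≃ₗ[ZMod 2] V).injective ((ap_cj M f v).symm.trans h2)⟩

theorem tr_ns {v : V} (hv : q v = 1) : ∃ g : Om, ap g v0 = v := by
  have h : v ∈ orbit Om v0 := by
    rw [H245.O8Refl.orbit_eq]
    exact hv
  exact h

theorem card_K : Nat.card (SS {v0}) = 1451520 := by
  rw [← H245.O8Refl.card_stab]
  congr 2
  ext g
  exact ⟨fun h => (h v0).1 rfl, fun h v => ⟨fun e => by rw [e]; exact h, fun e => ap_inj g (e.trans (Eq.symm h))⟩⟩

/-- the subgroups of order `25` are conjugate -/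
theorem conj25 {P P' : Subgroup Om} (h : Nat.card P = 25) (h' : Nat.card P' = 25) : ∃ g, P' = im (MulAut.conj g) P := by
  have : Fact (Nat.Prime 5) := ⟨by norm_num⟩
  have k : ∀ {Q : Subgroup Om}, Nat.card Q = 25 → ∃ R : Sylow 5 Om, (R : Subgroup Om) = Q := fun {Q} hQ => by
    have h1 := Q.card_mul_index
    rw [hQ, card_Om] at h1
    exact ⟨(IsPGroup.of_card (n := 2) hQ).toSylow (by omega), rfl⟩
  obtain ⟨R, rfl⟩ := k h
  obtain ⟨R', rfl⟩ := k h'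
  obtain ⟨g, rfl⟩ := exists_smul_eq Om R R'
  exact ⟨g, rfl⟩

theorem not_tr (h5 : BoxC5) {P : Subgroup Om} (hP : Nat.card P = 25) : ¬ Pd (SS {v0}) (SS (Z5 P)) := fun h => by
  have k : ∀ v, q v = 1 → (v0 ∈ Z5 P ↔ v ∈ Z5 P) := fun v hv => by
    obtain ⟨g, rfl⟩ := tr_ns hv
    obtain ⟨y, hy, x, hx, rfl⟩ := h.symm g
    rw [ap_mul, show ap x v0 = v0 from (hx v0).1 rfl]
    exact hy v0
  obtain ⟨-, ⟨v, h1, h2⟩, w, h3, h4⟩ := h5.2.2 P hP
  exact h3 ((k w h4).1 ((k v h2).2 h1))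

/-- all automorphisms are inner -/
theorem inner_aut {K : Type} [Group K] [Finite K] [IsSimpleGroup K] (h : ¬ IsMulCommutative K)
    (hA : Nat.card (MulAut K) ∣ Nat.card K) (γ : MulAut K) : ∃ x, MulAut.conj x = γ := by
  have h1 : Function.Injective (MulAut.conj : K →* MulAut K) := by
    rw [← MonoidHom.ker_eq_bot_iff]
    rcases (inferInstance : (MulAut.conj : K →* MulAut K).ker.Normal).eq_bot_or_eq_top with h2 | h2
    · exact h2
    · refine absurd ⟨⟨fun a b => ?_⟩⟩ h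
      have h3 : MulAut.conj a b = b := by rw [MonoidHom.mem_ker.1 (h2.ge (mem_top a)), MulAut.one_apply]
      exact mul_inv_eq_iff_eq_mul.1 h3
  have : Finite (MulAut K) := Finite.of_injective (fun e : MulAut K => (e : K → K)) DFunLike.coe_injective
  exact (h1.bijective_of_nat_card_le (Nat.le_of_dvd Nat.card_pos hA)).2 γ

/-- if all automorphisms of `X` are inner, then `Y` is maximal -/
theorem maxY {X Y D : Subgroup Om} {U W : Subgroup (MulAut Om)} (c : Cf X Y U W) (h : ∀ γ : MulAut X, ∃ x, MulAut.conj x = γ)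
    (hD : D ≠ ⊤) (hY : Y ≤ D) : Y = D := by
  have k1 : ∀ β ∈ U, ∃ g, β = MulAut.conj g := fun β hβ => by
    let γ : MulAut X :=
      { toFun := fun x => ⟨β x, c.uX β hβ x x.2⟩
        invFun := fun x => ⟨β⁻¹ x, c.uX _ (inv_mem hβ) x x.2⟩
        left_inv := fun x => Subtype.ext (MulAut.inv_apply_self _ β x)
        right_inv := fun x => Subtype.ext (MulAut.apply_inv_self _ β x)
        map_mul' := fun x y => Subtype.ext (map_mul β _ _) }
    obtain ⟨x, hx⟩ := h γ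
    refine ⟨x, (inv_mul_eq_one.1 (c.cenU _ (le_sup_left (a := U) (mul_mem (inv_mem hβ) (c.inU x x.2))) fun z hz => ?_)) ⟩
    have h0 := congrArg Subtype.val (DFunLike.congr_fun hx ⟨z, hz⟩)
    have h1 : MulAut.conj (x : Om) z = β z := h0
    rw [MulAut.mul_apply, h1, MulAut.inv_apply_self]
  refine le_antisymm hY (c.maxV D hD fun β hβ d hd => ?_)
  obtain ⟨γ, hγ, y, -, e⟩ := c.decV β hβ
  obtain ⟨g, rfl⟩ := k1 γ hγ.1
  rw [← map_mul] at e
  have h1 := hY ((c.inV _).1 (e ▸ hβ))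
  rw [e]
  exact mul_mem (mul_mem h1 hd) (inv_mem h1)

theorem dt_im {Y : Subgroup Om} (h : Dt Y) (β : MulAut Om) : Dt (im β Y) := by
  obtain ⟨h1, h2, α, P, h3, h4⟩ := h
  refine ⟨by rwa [card_im], by rwa [card_im], α * β⁻¹, P, h3, ?_⟩
  rwa [← im_mul, inv_mul_cancel_right]

theorem a9_im {Y : Subgroup Om} (h : Nat.card Y = 181440 ∧ IsA 9 Y) (β : MulAut Om) :
    Nat.card (im β Y) = 181440 ∧ IsA 9 (im β Y) :=
  ⟨(card_im β Y).trans h.1, h.2.elim fun e => ⟨(β.subgroupMap Y).symm.trans e⟩⟩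

theorem eq_im {X Y D : Subgroup Om} {U W : Subgroup (MulAut Om)} (c : Cf X Y U W) (h : ∀ γ : MulAut X, ∃ x, MulAut.conj x = γ)
    (hD : D ≠ ⊤) {α : MulAut Om} (hY : im α Y ≤ D) : Y = im α⁻¹ D :=
  maxY c h (im_ne hD) fun y hy => mem_im.2 (hY ⟨y, hy, by rw [inv_inv]; rfl⟩)

variable {Ω : Type} [Fintype Ω] [DecidableEq Ω] {X₀ H T M S : Subgroup (Perm Ω)}

/-- counting by the three modules -/
theorem cnt_mod {ι : T →* Om} {a : Ω} {O : Set (Subgroup (Perm Ω))} {D : Subgroup Om}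
    (hD : ∀ M : O8, ∃ g : Om, im (cj M) D = im (MulAut.conj g) D) (C : Set (MulAut Om ⧸ cj.range))
    (h : ∀ M ∈ O, ∃ γ : MulAut Om, (γ : MulAut Om ⧸ cj.range) ∈ C ∧ Md X₀ H ι a M (im γ D)) : O.ncard ≤ C.ncard := by
  have : Finite (MulAut Om ⧸ cj.range) := Nat.finite_of_card_ne_zero (by
    rw [← index_eq_card, StdO8.Aut.index_range]; norm_num)
  refine ncard_le_of_col (Set.toFinite C) (fun M c => ∃ γ : MulAut Om, (γ : MulAut Om ⧸ cj.range) = c ∧ Md X₀ H ι a M (im γ D))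
    (fun M hM => ?_) ?_
  · obtain ⟨γ, h1, h2⟩ := h M hM
    exact ⟨_, h1, γ, rfl, h2⟩
  · rintro M - M' - c - ⟨γ, rfl, h1⟩ ⟨γ', h2, h3⟩
    obtain ⟨N, hN⟩ := QuotientGroup.eq.1 h2.symm
    obtain ⟨g, hg⟩ := hD N
    rw [show γ' = γ * cj N by rw [hN, mul_inv_cancel_left], im_mul, hg, im_im_conj] at h3
    exact h1.eq_conj _ h3

/-- the shape of one overgroup -/
theorem shape (hN : BoxNt) (h5 : BoxC5) (hL : BoxList) (hY : BoxY) (hR : BoxSRY) (hX : BoxSRX) (hP : BoxPar) (hA : BoxA78)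
    (hS : BoxS) (u : Up X₀ H T M S) (e : Nonempty (S ≃* Om)) (a : Ω) :
    ∃ φ : S ≃* Om, dn φ T = SS {v0} ∧ (∀ γ : MulAut (SS {v0}), ∃ x, MulAut.conj x = γ) ∧
      (Dt (dn φ (M ⊓ stabilizer (Perm Ω) a)) ∨
        (Nat.card (dn φ (M ⊓ stabilizer (Perm Ω) a)) = 181440 ∧ IsA 9 (dn φ (M ⊓ stabilizer (Perm Ω) a)))) := by
  obtain ⟨φ⟩ := e
  have c := (u.fac a).cf φ
  obtain ⟨k1, k2⟩ := five hL c
  obtain ⟨k3, k4, k5⟩ := num hL hY hA hX c (Sp.Rd.fa_map φ (Sp.Rd.fa_of (u.fac a)))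
    (not_sr hN h5 hP hR u φ a (by rwa [card_dn φ u.le] at k1) k2)
  obtain ⟨-, α, v, hv, h1⟩ := hX _ _ _ _ c (by omega) (hS _ c.simple k3).sr
  obtain ⟨g, rfl⟩ := tr_ns hv
  have h2 : im (MulAut.conj g) (SS {v0}) = SS {ap g v0} := by
    rw [← cj_up]
    exact im_SS _ fun v => ⟨fun h => congrArg (ap g) h, fun h => ap_inj g h⟩
  have h3 : im ((MulAut.conj g)⁻¹ * α) (dn φ T) = SS {v0} := by
    refine eq_of_le_of_card_ge ?_ (by rw [card_im, card_K, k3])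
    rw [im_mul]
    refine (map_mono h1).trans ?_
    change im _ _ ≤ _
    rw [← h2, ← im_mul, inv_mul_cancel, im_one]
  refine ⟨φ.trans ((MulAut.conj g)⁻¹ * α), (dn_trans φ _ _).trans h3, ?_, ?_⟩
  · have e : dn φ T ≃* SS {v0} := (((MulAut.conj g)⁻¹ * α).subgroupMap _).trans (MulEquiv.subgroupCongr h3)
    have := c.simple
    have := e.symm.isSimpleGroup
    refine inner_aut (fun h => c.nab ⟨⟨fun a b => e.injective (by rw [map_mul, map_mul, h.1.1])⟩⟩) ?_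
    rwa [card_K, ← Nat.card_congr (MulAut.congr e).toEquiv]
  · rw [dn_trans]
    exact k5.imp (fun h => dt_im h _) fun h => a9_im h _

end As

open As in
/-- **The assembly.** -/
theorem bnd_of {P : Fam} (hE : ∀ (S : Type) [Group S], P S → Nonempty (S ≃* Om)) (hN : BoxNt) (h5 : BoxC5) (hL : BoxList)
    (hY : BoxY) (hR : BoxSRY) (hX : BoxSRX) (hP : BoxPar) (hA : BoxA78) (h9 : BoxA9) (hS : BoxS) :
    Bnd P fun t n k => (t = 1451520 ∧ k = 2) ∨ (t = 1451520 ∧ n = 960 ∧ k = 3) := by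
  rintro Ω _ _ X₀ H T ⟨M₀, S₀, u₀, p₀⟩
  obtain ⟨a⟩ : Nonempty Ω := Fintype.card_pos_iff.1 (lt_of_lt_of_le two_pos u₀.two)
  obtain ⟨φ₀, h1, hI, -⟩ := shape hN h5 hL hY hR hX hP hA hS u₀ (hE _ p₀) a
  have ht : Nat.card T = 1451520 := by rw [← card_dn φ₀ u₀.le, h1, card_K]
  have hι : (rs u₀ φ₀).range = SS {v0} := (range_rs u₀ φ₀).trans h1
  have key : ∀ M ∈ OvP P X₀ H T, ∃ Y U W, Md X₀ H (rs u₀ φ₀) a M Y ∧ Cf (SS {v0}) Y U W ∧
      Nat.card Y * Fintype.card Ω = 174182400 ∧ (Dt Y ∨ (Nat.card Y = 181440 ∧ IsA 9 Y)) := by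
    rintro M ⟨S, u, p⟩
    obtain ⟨φ, h2, -, h3⟩ := shape hN h5 hL hY hR hX hP hA hS u (hE _ p) a
    obtain ⟨β, -, h4⟩ := md_of_ext (rs_injective u₀ φ₀) hι (fun γ => by
      obtain ⟨x, rfl⟩ := hI γ
      exact ⟨MulAut.conj (x : Om), fun _ => rfl⟩) u φ h2 a
    obtain ⟨U, W, c⟩ := h4.cf
    exact ⟨_, U, W, h4, hι ▸ c, by rw [← h4.index, card_mul_index, card_Om], h3.imp (fun h => dt_im h _) fun h => a9_im h _⟩
  have c3 : Nat.card (MulAut Om ⧸ cj.range) = 3 := by rw [← index_eq_card, StdO8.Aut.index_range]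
  by_cases hn : Fintype.card Ω = 960
  · refine ⟨3, Or.inr ⟨ht, hn, rfl⟩, ?_⟩
    obtain ⟨D, d1, d2, d3⟩ := h9
    rw [← c3, ← Set.ncard_univ]
    refine cnt_mod (X₀ := X₀) (H := H) (ι := rs u₀ φ₀) (a := a) d2 _ fun M hM => ?_
    obtain ⟨Y, U, W, m, c, h2, h3 | h3⟩ := key M hM
    · have h4 := Nat.le_of_dvd (by norm_num) h3.1
      rw [hn] at h2
      omega
    · obtain ⟨α, hα⟩ := d3 Y h3.2
      exact ⟨α⁻¹, trivial, eq_im c hI d1 hα ▸ m⟩
  · refine ⟨2, Or.inl ⟨ht, rfl⟩, ?_⟩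
    have : Fact (Nat.Prime 5) := ⟨by norm_num⟩
    obtain ⟨P₀, hP₀⟩ := Sylow.exists_subgroup_card_pow_prime (G := Om) 5 (n := 2) (by rw [card_Om]; norm_num)
    have d2 : ∀ {Q : Subgroup Om}, Nat.card Q = 25 → ∃ g : Om, SS (Z5 Q) = im (MulAut.conj g) (SS (Z5 P₀)) := fun {Q} hQ => by
      obtain ⟨g, rfl⟩ := conj25 hP₀ hQ
      exact ⟨g, by rw [← cj_up, im_Z5]⟩
    have : Finite (MulAut Om ⧸ cj.range) := Nat.finite_of_card_ne_zero (by omega)
    have c2 : ({((1 : MulAut Om) : MulAut Om ⧸ cj.range)}ᶜ : Set _).ncard = 2 := by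
      have := Set.ncard_add_ncard_compl ({((1 : MulAut Om) : MulAut Om ⧸ cj.range)} : Set _)
      rw [Set.ncard_singleton, c3] at this
      omega
    rw [← c2]
    refine cnt_mod (X₀ := X₀) (H := H) (ι := rs u₀ φ₀) (a := a) (D := SS (Z5 P₀))
      (fun N => by rw [im_Z5]; exact d2 ((card_im _ _).trans hP₀)) _ fun M hM => ?_
    obtain ⟨Y, U, W, m, c, h2, ⟨-, -, α, Q, hQ, hα⟩ | h3⟩ := key M hM
    · have d1 : SS (Z5 Q) ≠ ⊤ := fun e => not_tr h5 hQ fun g => ⟨1, one_mem _, g, e ▸ mem_top g, (one_mul g).symm⟩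
      have h4 := eq_im c hI d1 hα
      obtain ⟨g, hg⟩ := d2 hQ
      rw [hg, ← im_mul] at h4
      refine ⟨α⁻¹ * MulAut.conj g, fun e => ?_, h4 ▸ m⟩
      obtain ⟨N, hN⟩ := inv_mem (QuotientGroup.eq.1 (Set.mem_singleton_iff.1 e))
      rw [mul_one, inv_inv] at hN
      rw [← hN, im_Z5] at h4
      exact not_tr h5 ((card_im _ _).trans hP₀) (h4 ▸ c.pd)
    · rw [h3.1] at h2
      omega

end Cfsg.Agent.SM.O8.Two
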