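import Cfsg.Agent.SM.O8.Two.Defs
import Cfsg.Agent.StdO8.Gen

/-!
# SM (S3570), socle `Ω⁺₈(2)`: the objects form one orbit, and a reflection is even on them (helper84)
-/

set_option autoImplicit false

namespace Cfsg.Agent.SM.O8.Two

open Module Subgroup Equiv
open Cfsg.Agent.StdO8.Model Cfsg.Agent.StdO8.Code
open Cfsg.Agent.StdO8.Aut (cj cj_coe)
open Cfsg.Agent.StdO8.Gen (refl_notMem refl_dec)
open Cfsg.Agent.LieClassical.OrthCore (refl refl_mem_O refl_mul_self)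

namespace Par

/-! ### permutation groups -/

theorem exists_equiv {G Ω X : Type*} [Group G] (ρ : G →* Perm Ω) (ψ : G →* Perm X) {a : Ω} {x : X}
    (h1 : ∀ ω, ∃ g, ρ g a = ω) (h2 : ∀ y, ∃ g, ψ g x = y) (h : ∀ g, ρ g a = a ↔ ψ g x = x) :
    ∃ e : Ω ≃ X, ∀ g ω, e (ρ g ω) = ψ g (e ω) := by
  choose w hw using h1
  have key : ∀ g g', ρ g a = ρ g' a ↔ ψ g x = ψ g' x := fun g g' => by
    have := h (g'⁻¹ * g)
    rw [map_mul, map_inv, map_mul, map_inv, Perm.mul_apply, Perm.mul_apply, Perm.inv_eq_iff_eq,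
      Perm.inv_eq_iff_eq] at this
    exact this
  have hf : ∀ g, ψ (w (ρ g a)) x = ψ g x := fun g => (key _ _).1 (hw _)
  have bij : Function.Bijective fun ω => ψ (w ω) x := by
    refine ⟨fun y z e => ?_, fun y => ?_⟩
    · rw [← hw y, ← hw z]
      exact (key _ _).2 e
    · obtain ⟨g, rfl⟩ := h2 y
      exact ⟨ρ g a, hf g⟩
  refine ⟨Equiv.ofBijective _ bij, fun g ω => ?_⟩
  show ψ (w (ρ g ω)) x = ψ g (ψ (w ω) x)
  conv_lhs => rw [← hw ω, ← Perm.mul_apply, ← map_mul, hf, map_mul, Perm.mul_apply]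

theorem sign_of {X : Type*} [Fintype X] [DecidableEq X] {σ : Perm X} (h : σ ^ 2 = 1)
    (h4 : 4 ∣ Nat.card {x // σ x ≠ x}) : Perm.sign σ = 1 := by
  rw [Perm.sign_of_pow_two_eq_one h]
  have e : Fintype.card X - Fintype.card (Function.fixedPoints σ) = Nat.card {x // σ x ≠ x} := by
    rw [Nat.card_eq_fintype_card, Fintype.card_subtype_compl]
    rfl
  obtain ⟨c, hc⟩ := h4
  rw [e, hc, show 4 * c / 2 = 2 * c by omega, pow_mul]
  simp

/-! ### the action on the objects -/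

/-- a plane without its zero vector -/
def tri (a b : V) : Set V := {a, b, a + b}

theorem mem_tri {a b v : V} : v ∈ tri a b ↔ v = a ∨ v = b ∨ v = a + b := by simp [tri]

theorem tri_comm (a b : V) : tri b a = tri a b := by
  ext v
  rw [mem_tri, mem_tri, add_comm b a]
  tauto

theorem aab (a b : V) : a + (a + b) = b := by rw [← add_assoc, add_self, zero_add]

theorem tri_add (a b : V) : tri a (a + b) = tri a b := by
  ext v
  rw [mem_tri, mem_tri, aab]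
  tauto

theorem im_tri (M : V ≃ₗ[ZMod 2] V) (a b : V) : M '' tri a b = tri (M a) (M b) := by
  rw [tri, tri, Set.image_insert_eq, Set.image_insert_eq, Set.image_singleton, map_add]

theorem obj_im {k : ℕ} {Z : Set V} (h : Obj k Z) {M : V ≃ₗ[ZMod 2] V} (hM : M ∈ O8) : Obj k (M '' Z) := by
  rcases h with ⟨hk, u, h0, hu, rfl⟩ | ⟨hk, u, hu, rfl⟩ | ⟨hk, a, b, ha, hb, hab, rfl⟩
  · exact .inl ⟨hk, M u, fun e => h0 (M.map_eq_zero_iff.1 e), by rw [O8_q hM, hu], Set.image_singleton⟩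
  · exact .inr (.inl ⟨hk, M u, by rw [O8_q hM, hu], Set.image_singleton⟩)
  · exact .inr (.inr ⟨hk, M a, M b, by rw [O8_q hM, ha], by rw [O8_q hM, hb], by rw [O8_B hM, hab], im_tri M a b⟩)

/-- the objects -/
abbrev Ob (k : ℕ) : Type := {Z : Set V // Obj k Z}

theorem im_mul (M N : V ≃ₗ[ZMod 2] V) (Z : Set V) : (M * N : V ≃ₗ[ZMod 2] V) '' Z = M '' (N '' Z) := by
  rw [Set.image_image]
  rfl

theorem im_one (Z : Set V) : (1 : V ≃ₗ[ZMod 2] V) '' Z = Z := Set.image_id Z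

/-- the action of an isometry -/
def ph (k : ℕ) : O8 →* Perm (Ob k) where
  toFun M :=
    { toFun := fun Z => ⟨(M : V ≃ₗ[ZMod 2] V) '' Z.1, obj_im Z.2 M.2⟩
      invFun := fun Z => ⟨((M⁻¹ : O8) : V ≃ₗ[ZMod 2] V) '' Z.1, obj_im Z.2 (M⁻¹).2⟩
      left_inv := fun Z => Subtype.ext (by
        show _ '' (_ '' _) = _
        rw [← im_mul, ← Subgroup.coe_mul, inv_mul_cancel, Subgroup.coe_one, im_one])
      right_inv := fun Z => Subtype.ext (by
        show _ '' (_ '' _) = _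
        rw [← im_mul, ← Subgroup.coe_mul, mul_inv_cancel, Subgroup.coe_one, im_one]) }
  map_one' := Equiv.ext fun Z => Subtype.ext (im_one Z.1)
  map_mul' M N := Equiv.ext fun Z => Subtype.ext (im_mul M.1 N.1 Z.1)

theorem ph_eq {k : ℕ} (M : O8) (Z Z' : Ob k) : ph k M Z = Z' ↔ (M : V ≃ₗ[ZMod 2] V) '' Z.1 = Z'.1 := Subtype.ext_iff

theorem im_iff (M : V ≃ₗ[ZMod 2] V) (Z Z' : Set V) : M '' Z = Z' ↔ ∀ v, v ∈ Z ↔ M v ∈ Z' := by
  constructor
  · rintro rfl v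
    exact (M.injective.mem_set_image).symm
  · intro h
    ext v
    obtain ⟨u, rfl⟩ := M.surjective v
    rw [M.injective.mem_set_image, h]

/-! ### transitivity -/

theorem ne_of_q {v : V} (h : q v = 1) : q v ≠ 0 := by rw [h]; decide

theorem ne_zero_of_q {v : V} (h : q v = 1) : v ≠ 0 := by
  rintro rfl
  exact ne_of_q h q_zero

theorem refl_eq {n : V} (hn : q n = 1) (v : V) : refl q n (ne_of_q hn) v = v + B n v • n := by
  rw [Cfsg.Agent.LieClassical.OrthCore.refl_apply, hn, inv_one, one_mul, sub_eq]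

theorem q_add_one {a b : V} (ha : q a = 1) (hb : q b = 1) (h : B a b = 1) : q (a + b) = 1 := by
  rw [q_add, ha, hb, h]; decide

theorem step {a b c : V} (ha : q a = 1) (hb : q b = 1) (hc : q c = 1) (hab : B a b = 1) (hac : B a c = 1)
    (hbc : B b c = 1) : ∃ g ∈ Om, g '' tri a b = tri a c := by
  have hn := q_add_one hb hc hbc
  refine ⟨_, good.refl_mul_refl_mem (ne_of_q hn) (ne_of_q ha) (hn.trans ha.symm), ?_⟩
  have e1 : refl q (b + c) (ne_of_q hn) a = a := by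
    rw [refl_eq hn, B_add_left, B_comm b a, B_comm c a, hab, hac, show (1 + 1 : ZMod 2) = 0 by decide, zero_smul, add_zero]
  have e2 : refl q (b + c) (ne_of_q hn) b = c := by
    rw [refl_eq hn, B_add_left, B_self, B_comm c b, hbc, zero_add, one_smul, aab]
  have e3 : refl q a (ne_of_q ha) a = a := by rw [refl_eq ha, B_self, zero_smul, add_zero]
  have e4 : refl q a (ne_of_q ha) c = a + c := by rw [refl_eq ha, hac, one_smul, add_comm]
  rw [im_mul, im_tri, e1, e2, im_tri, e3, e4, tri_add]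

theorem trans {k : ℕ} {Z Z' : Set V} (h : Obj k Z) (h' : Obj k Z') : ∃ g ∈ Om, g '' Z = Z' := by
  rcases h with ⟨rfl, u, h0, hu, rfl⟩ | ⟨rfl, u, hu, rfl⟩ | ⟨rfl, a, b, ha, hb, hab, rfl⟩
  · rcases h' with ⟨-, u', h0', hu', rfl⟩ | ⟨hk, -⟩ | ⟨hk, -⟩
    · obtain ⟨g, hg, e⟩ := good.trans_norm h0 h0' (hu.trans hu'.symm)
      exact ⟨g, hg, by rw [Set.image_singleton, e]⟩
    all_goals omega
  · rcases h' with ⟨hk, -⟩ | ⟨-, u', hu', rfl⟩ | ⟨hk, -⟩
    · omega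
    · obtain ⟨g, hg, e⟩ := good.trans_norm (ne_zero_of_q hu) (ne_zero_of_q hu') (hu.trans hu'.symm)
      exact ⟨g, hg, by rw [Set.image_singleton, e]⟩
    · omega
  · rcases h' with ⟨hk, -⟩ | ⟨hk, -⟩ | ⟨-, a', b', ha', hb', hab', rfl⟩
    · omega
    · omega
    obtain ⟨g, hg, e⟩ := good.trans_norm (ne_zero_of_q ha) (ne_zero_of_q ha') (ha.trans ha'.symm)
    have h1 : q (g b) = 1 := by rw [O8_q (Om_le hg), hb]
    have h2 : B a' (g b) = 1 := by rw [← e, O8_B (Om_le hg), hab]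
    have : ∃ g' ∈ Om, g' '' tri a' (g b) = tri a' b' := by
      rcases z2 (B (g b) b') with h3 | h3
      · rw [← tri_add a' b']
        refine step ha' h1 (q_add_one ha' hb' hab') h2 ?_ ?_
        · rw [B_add_right, B_self, hab', zero_add]
        · rw [B_add_right, h3, B_comm, h2, add_zero]
      · exact step ha' h1 hb' h2 hab' h3
    obtain ⟨g', hg', e'⟩ := this
    refine ⟨g' * g, Om.mul_mem hg' hg, ?_⟩
    show _ '' tri a b = tri a' b'
    rw [im_mul, im_tri, e, e']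

/-! ### counting the moved objects -/

theorem q17 : q (dec 17) = 1 := by rw [q_dec]; decide

/-- the reflection -/
noncomputable def r0 : O8 := ⟨refl q (dec 17) (ne_of_q q17), refl_mem_O _⟩

/-- the reflection on codes -/
def rn (v : ℕ) : ℕ := v ^^^ (if Bn 17 v then 17 else 0)

theorem r0_dec (v : ℕ) : (r0 : V ≃ₗ[ZMod 2] V) (dec v) = dec (rn v) := refl_dec 17 (ne_of_q q17) v

theorem xor_lt {a b : ℕ} (ha : a < 256) (hb : b < 256) : a ^^^ b < 256 := Nat.xor_lt_two_pow (n := 8) ha hb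

theorem rn_lt {v : ℕ} (h : v < 256) : rn v < 256 := xor_lt h (by split_ifs <;> omega)

theorem r0_sq (k : ℕ) : ph k r0 ^ 2 = 1 := by
  rw [← map_pow, pow_two, show r0 * r0 = 1 from Subtype.ext (refl_mul_self (ne_of_q q17)), map_one]

theorem cnt0 : Fintype.card {c : Fin 256 // (c.1 != 0 && !qn c.1 && rn c.1 != c.1) = true} = 72 := by decide +kernel

theorem cnt1 : Fintype.card {c : Fin 256 // (qn c.1 && rn c.1 != c.1) = true} = 56 := by decide +kernel

/-- sorted pairs whose plane is moved -/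
def ok2 (a b : ℕ) : Bool := decide (a < b) && decide (b < a ^^^ b) && qn a && qn b && Bn a b &&
  !((rn a == a || rn a == b || rn a == a ^^^ b) && (rn b == a || rn b == b || rn b == a ^^^ b))

theorem cnt2 : Fintype.card {c : Fin 256 × Fin 256 // ok2 c.1.1 c.2.1 = true} = 756 := by decide +kernel

theorem cc_true : cc true = 1 := rfl

theorem mv0 : 4 ∣ Nat.card {x // ph 0 r0 x ≠ x} := by
  let f : {c : Fin 256 // (c.1 != 0 && !qn c.1 && rn c.1 != c.1) = true} → {x // ph 0 r0 x ≠ x} := fun c =>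
    ⟨⟨{dec c.1.1}, .inl ⟨rfl, _, by
      have := c.2
      simp only [Bool.and_eq_true, bne_iff_ne, ne_eq, Bool.not_eq_eq_eq_not, Bool.not_true] at this
      exact ⟨StdO8.Gen.dec_ne_zero c.1.2 this.1.1, by rw [q_dec, this.1.2]; rfl, rfl⟩⟩⟩, by
      have := c.2
      simp only [Bool.and_eq_true, bne_iff_ne, ne_eq] at this
      rw [Ne, ph_eq, Set.image_singleton, r0_dec, Set.singleton_eq_singleton_iff]
      exact fun e => this.2 (dec_inj (rn_lt c.1.2) c.1.2 e)⟩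
  have : Function.Bijective f := by
    refine ⟨fun c d e => ?_, ?_⟩
    · have e' : ({dec c.1.1} : Set V) = {dec d.1.1} := congrArg (fun x => x.1.1) e
      exact Subtype.ext (Fin.ext (dec_inj c.1.2 d.1.2 (Set.singleton_eq_singleton_iff.1 e')))
    · rintro ⟨⟨Z, ⟨hk, u, h0, hu, rfl⟩ | ⟨hk, -⟩ | ⟨hk, -⟩⟩, hm⟩
      · obtain ⟨c, hc, rfl⟩ := dec_surj u
        refine ⟨⟨⟨c, hc⟩, ?_⟩, rfl⟩
        rw [Ne, ph_eq, Set.image_singleton, r0_dec, Set.singleton_eq_singleton_iff] at hm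
        rw [q_dec] at hu
        simp only [Bool.and_eq_true, bne_iff_ne, ne_eq, Bool.not_eq_eq_eq_not, Bool.not_true]
        exact ⟨⟨fun e => h0 (by rw [e, dec_zero]), cc_eq_zero hu⟩, fun e => hm (by rw [e])⟩
      all_goals omega
  rw [← Nat.card_congr (Equiv.ofBijective f this), Nat.card_eq_fintype_card, cnt0]
  norm_num

theorem mv1 : 4 ∣ Nat.card {x // ph 1 r0 x ≠ x} := by
  let f : {c : Fin 256 // (qn c.1 && rn c.1 != c.1) = true} → {x // ph 1 r0 x ≠ x} := fun c =>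
    ⟨⟨{dec c.1.1}, .inr (.inl ⟨rfl, _, by
      have := c.2
      simp only [Bool.and_eq_true, bne_iff_ne, ne_eq] at this
      exact ⟨by rw [q_dec, this.1]; rfl, rfl⟩⟩)⟩, by
      have := c.2
      simp only [Bool.and_eq_true, bne_iff_ne, ne_eq] at this
      rw [Ne, ph_eq, Set.image_singleton, r0_dec, Set.singleton_eq_singleton_iff]
      exact fun e => this.2 (dec_inj (rn_lt c.1.2) c.1.2 e)⟩
  have : Function.Bijective f := by
    refine ⟨fun c d e => ?_, ?_⟩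
    · have e' : ({dec c.1.1} : Set V) = {dec d.1.1} := congrArg (fun x => x.1.1) e
      exact Subtype.ext (Fin.ext (dec_inj c.1.2 d.1.2 (Set.singleton_eq_singleton_iff.1 e')))
    · rintro ⟨⟨Z, ⟨hk, -⟩ | ⟨hk, u, hu, rfl⟩ | ⟨hk, -⟩⟩, hm⟩
      · omega
      · obtain ⟨c, hc, rfl⟩ := dec_surj u
        refine ⟨⟨⟨c, hc⟩, ?_⟩, rfl⟩
        rw [Ne, ph_eq, Set.image_singleton, r0_dec, Set.singleton_eq_singleton_iff] at hm
        rw [q_dec] at hu
        simp only [Bool.and_eq_true, bne_iff_ne, ne_eq]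
        exact ⟨cc_eq_one hu, fun e => hm (by rw [e])⟩
      · omega
  rw [← Nat.card_congr (Equiv.ofBijective f this), Nat.card_eq_fintype_card, cnt1]
  norm_num

theorem mem_dec {a b c : ℕ} (ha : a < 256) (hb : b < 256) (hc : c < 256) :
    dec c ∈ tri (dec a) (dec b) ↔ c = a ∨ c = b ∨ c = a ^^^ b := by
  rw [mem_tri, ← dec_xor]
  exact or_congr ⟨dec_inj hc ha, fun e => by rw [e]⟩
    (or_congr ⟨dec_inj hc hb, fun e => by rw [e]⟩ ⟨dec_inj hc (xor_lt ha hb), fun e => by rw [e]⟩)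

theorem tri_le {a b c d : V} (hc : c ∈ tri a b) (hd : d ∈ tri a b) (h : c ≠ d) : tri c d = tri a b := by
  rcases mem_tri.1 hc with rfl | rfl | rfl <;> rcases mem_tri.1 hd with e | e | e <;> rw [e] at h ⊢ <;>
    try exact absurd rfl h
  · exact tri_add _ _
  · exact tri_comm _ _
  · rw [add_comm, tri_add, tri_comm]
  · rw [tri_comm, tri_add]
  · rw [tri_comm, add_comm, tri_add, tri_comm]

theorem fix_iff {a b : ℕ} (ha : a < 256) (hb : b < 256) (h : a ≠ b) :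
    (r0 : V ≃ₗ[ZMod 2] V) '' tri (dec a) (dec b) = tri (dec a) (dec b) ↔
      (rn a = a ∨ rn a = b ∨ rn a = a ^^^ b) ∧ (rn b = a ∨ rn b = b ∨ rn b = a ^^^ b) := by
  rw [im_tri, ← mem_dec ha hb (rn_lt ha), ← mem_dec ha hb (rn_lt hb), ← r0_dec, ← r0_dec]
  constructor
  · intro e
    rw [← e]
    exact ⟨mem_tri.2 (.inl rfl), mem_tri.2 (.inr (.inl rfl))⟩
  · exact fun e => tri_le e.1 e.2 fun e' => h (dec_inj ha hb ((r0 : V ≃ₗ[ZMod 2] V).injective e'))

theorem ok2_iff {a b : ℕ} : ok2 a b = true ↔ a < b ∧ b < a ^^^ b ∧ qn a = true ∧ qn b = true ∧ Bn a b = true ∧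
    ¬ ((rn a = a ∨ rn a = b ∨ rn a = a ^^^ b) ∧ (rn b = a ∨ rn b = b ∨ rn b = a ^^^ b)) := by
  simp only [ok2, Bool.and_eq_true, decide_eq_true_eq, Bool.not_eq_true', ← Bool.not_eq_true, Bool.or_eq_true, beq_iff_eq,
    and_assoc, or_assoc]

theorem q_of_mem {a b c : V} (ha : q a = 1) (hb : q b = 1) (hab : B a b = 1) (hc : c ∈ tri a b) : q c = 1 := by
  rcases mem_tri.1 hc with rfl | rfl | rfl
  exacts [ha, hb, q_add_one ha hb hab]

theorem sorted {a b : V} (ha : q a = 1) (hb : q b = 1) (hab : B a b = 1) :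
    ∃ c < 256, ∃ d < 256, c < d ∧ d < c ^^^ d ∧ qn c = true ∧ qn d = true ∧ Bn c d = true ∧
      tri (dec c) (dec d) = tri a b := by
  have key : ∀ c < 256, ∀ d < 256, c < d → d < c ^^^ d → dec c ∈ tri a b → dec d ∈ tri a b →
      ∃ c < 256, ∃ d < 256, c < d ∧ d < c ^^^ d ∧ qn c = true ∧ qn d = true ∧ Bn c d = true ∧
        tri (dec c) (dec d) = tri a b := fun c hc d hd h1 h2 h3 h4 => by
    have e := tri_le h3 h4 fun e => h1.ne (dec_inj hc hd e)
    have q1 := q_of_mem ha hb hab h3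
    have q2 := q_of_mem ha hb hab h4
    have q3 := q_of_mem ha hb hab (e ▸ mem_tri.2 (.inr (.inr rfl)))
    rw [q_add, q1, q2, show (1 + 1 : ZMod 2) = 0 by decide, zero_add, B_dec] at q3
    rw [q_dec] at q1 q2
    exact ⟨c, hc, d, hd, h1, h2, cc_eq_one q1, cc_eq_one q2, cc_eq_one q3, e⟩
  obtain ⟨x, hx, rfl⟩ := dec_surj a
  obtain ⟨y, hy, rfl⟩ := dec_surj b
  have hz := xor_lt hx hy
  have m1 := (mem_dec hx hy hx).2 (.inl rfl)
  have m2 := (mem_dec hx hy hy).2 (.inr (.inl rfl))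
  have m3 := (mem_dec hx hy hz).2 (.inr (.inr rfl))
  have n1 : x ≠ y := by
    rintro rfl
    rw [B_self] at hab
    exact absurd hab (by decide)
  have e1 : y ^^^ x = x ^^^ y := Nat.xor_comm _ _
  have e2 : x ^^^ (x ^^^ y) = y := Nat.xor_xor_cancel_left _ _
  have e3 : y ^^^ (x ^^^ y) = x := by rw [← e1]; exact Nat.xor_xor_cancel_left _ _
  have e4 : (x ^^^ y) ^^^ x = y := by rw [Nat.xor_comm, e2]
  have e5 : (x ^^^ y) ^^^ y = x := by rw [Nat.xor_comm, e3]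
  have n2 : x ≠ x ^^^ y := fun e => by
    rw [← e, Nat.xor_self] at e2
    rw [← e2, dec_zero] at hb
    exact ne_zero_of_q hb rfl
  have n3 : y ≠ x ^^^ y := fun e => by
    rw [← e, Nat.xor_self] at e3
    rw [← e3, dec_zero] at ha
    exact ne_zero_of_q ha rfl
  by_cases c1 : x < y <;> by_cases c2 : x < x ^^^ y <;> by_cases c3 : y < x ^^^ y
  · exact key x hx y hy c1 c3 m1 m2
  · exact key x hx _ hz c2 (by omega) m1 m3
  · omega
  · exact key _ hz x hx (by omega) (by omega) m3 m1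
  · exact key y hy x hx (by omega) (by omega) m2 m1
  · omega
  · exact key y hy _ hz c3 (by omega) m2 m3
  · exact key _ hz y hy (by omega) (by omega) m3 m2

theorem mv2 : 4 ∣ Nat.card {x // ph 2 r0 x ≠ x} := by
  let f : {c : Fin 256 × Fin 256 // ok2 c.1.1 c.2.1 = true} → {x // ph 2 r0 x ≠ x} := fun c =>
    ⟨⟨tri (dec c.1.1.1) (dec c.1.2.1), .inr (.inr ⟨rfl, _, _, by
      obtain ⟨-, -, h1, h2, h3, -⟩ := ok2_iff.1 c.2
      exact ⟨by rw [q_dec, h1]; rfl, by rw [q_dec, h2]; rfl, by rw [B_dec, h3]; rfl, rfl⟩⟩)⟩, by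
      obtain ⟨h1, -, -, -, -, h2⟩ := ok2_iff.1 c.2
      rw [Ne, ph_eq, fix_iff c.1.1.2 c.1.2.2 h1.ne]
      exact h2⟩
  have : Function.Bijective f := by
    refine ⟨?_, ?_⟩
    · rintro ⟨⟨⟨a, ha⟩, ⟨b, hb⟩⟩, h⟩ ⟨⟨⟨c, hc⟩, ⟨d, hd⟩⟩, h'⟩ e
      have e' : tri (dec a) (dec b) = tri (dec c) (dec d) := congrArg (fun x => x.1.1) e
      obtain ⟨h1, h2, -⟩ := ok2_iff.1 h
      obtain ⟨h3, h4, -⟩ := ok2_iff.1 h'
      have m1 := (mem_dec ha hb hc).1 (e' ▸ (mem_dec hc hd hc).2 (.inl rfl))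
      have m2 := (mem_dec ha hb hd).1 (e' ▸ (mem_dec hc hd hd).2 (.inr (.inl rfl)))
      have m3 := (mem_dec ha hb (xor_lt hc hd)).1 (e' ▸ (mem_dec hc hd (xor_lt hc hd)).2 (.inr (.inr rfl)))
      dsimp only at h1 h2 h3 h4
      have : a = c ∧ b = d := by omega
      obtain ⟨rfl, rfl⟩ := this
      rfl
    · rintro ⟨⟨Z, ⟨hk, -⟩ | ⟨hk, -⟩ | ⟨hk, a, b, ha, hb, hab, rfl⟩⟩, hm⟩
      · omega
      · omega
      obtain ⟨c, hc, d, hd, h1, h2, h3, h4, h5, e⟩ := sorted ha hb hab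
      refine ⟨⟨(⟨c, hc⟩, ⟨d, hd⟩), ok2_iff.2 ⟨h1, h2, h3, h4, h5, ?_⟩⟩, Subtype.ext (Subtype.ext e)⟩
      rw [← fix_iff hc hd h1.ne, e]
      rw [Ne, ph_eq] at hm
      exact hm
  rw [← Nat.card_congr (Equiv.ofBijective f this), Nat.card_eq_fintype_card, cnt2]
  norm_num

end Par

open Par in
theorem boxPar : BoxPar := by
  intro k Z hZ
  refine ⟨fun Z' hZ' => ?_, fun Ω _ _ ρ a ht hs => ?_⟩
  · obtain ⟨g, hg, e⟩ := trans hZ hZ'
    exact ⟨⟨g, hg⟩, (im_iff g Z Z').1 e⟩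
  classical
  let ψ : Om →* Perm (Ob k) := (ph k).comp (Subgroup.inclusion Om_le)
  have hψ : ∀ (g : Om) (Y Y' : Ob k), ψ g Y = Y' ↔ (g : V ≃ₗ[ZMod 2] V) '' Y.1 = Y'.1 := fun g Y Y' => Subtype.ext_iff
  obtain ⟨e, he⟩ := exists_equiv ρ ψ (x := ⟨Z, hZ⟩) ht
    (fun Y => by
      obtain ⟨g, hg, e⟩ := trans hZ Y.2
      exact ⟨⟨g, hg⟩, (hψ _ _ _).2 e⟩)
    (fun g => by rw [hs, hψ, im_iff, mem_SS])
  letI : Fintype (Ob k) := Fintype.ofEquiv Ω e
  have h4 : 4 ∣ Nat.card {x // ph k r0 x ≠ x} := by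
    rcases hZ with ⟨rfl, -⟩ | ⟨rfl, -⟩ | ⟨rfl, -⟩
    exacts [mv0, mv1, mv2]
  refine ⟨r0, e.symm.permCongr (ph k r0), refl_notMem _ (ne_of_q q17), ?_, fun g => ?_⟩
  · rw [Perm.sign_permCongr, sign_of (r0_sq k) h4]
  · have e1 : ψ (cj r0 g) = ph k r0 * ψ g * (ph k r0)⁻¹ := by
      show ph k _ = ph k r0 * ph k _ * _
      rw [← map_inv, ← map_mul, ← map_mul]
      exact congrArg _ (Subtype.ext (cj_coe r0 g))
    rw [mul_inv_eq_iff_eq_mul]
    ext ω
    apply e.injective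
    simp only [Perm.mul_apply, Equiv.permCongr_apply, Equiv.symm_symm, Equiv.apply_symm_apply, he, e1,
      Perm.coe_inv, Equiv.symm_apply_apply]

end Cfsg.Agent.SM.O8.Two
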