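import Cfsg.Agent.SM.O8.Two.Defs
import Cfsg.Agent.H201.O8.Cover
import Cfsg.Agent.H320.O8.Geo
import Cfsg.Agent.StdO8.Triality

/-!
# SM (S3570), socle `Ω⁺₈(2)`: elements of order three (helper61)
-/

set_option autoImplicit false

namespace Cfsg.Agent.SM.O8.Two.Rot

open Module Subgroup
open Cfsg.Agent.StdO8.Model Cfsg.Agent.StdO8.Code Cfsg.Agent.H612.Ore Cfsg.Agent.H201.O8 Cfsg.Agent.H320.O8
open Cfsg.Agent.StdO8.Aut (cj)

/-- the number of fixed vectors -/
noncomputable def nO (g : O8) : ℕ := Nat.card {v : V // (g : LV) v = v}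

/-- the number of fixed singular vectors -/
noncomputable def nS (g : O8) : ℕ := Nat.card {v : V // (g : LV) v = v ∧ q v = 0}

/-- the inclusion -/
def up (g : Om) : O8 := ⟨g, Om_le g.2⟩

theorem up_pow (g : Om) (k : ℕ) : up g ^ k = up (g ^ k) := rfl

theorem up_eq_one {g : Om} : up g = 1 ↔ g = 1 := ⟨fun h => Subtype.ext (congrArg (fun x : O8 => (x : LV)) h), fun h => h ▸ rfl⟩

theorem nO_up (g : Om) : nO (up g) = nf g := rfl

theorem conj_fix (h x : O8) (v : V) : ((h * x * h⁻¹ : O8) : LV) ((h : LV) v) = (h : LV) v ↔ (x : LV) v = v := by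
  show (h : LV) ((x : LV) ((h : LV).symm ((h : LV) v))) = (h : LV) v ↔ _
  rw [LinearEquiv.symm_apply_apply, (h : LV).injective.eq_iff]

theorem nO_conj (h x : O8) : nO (h * x * h⁻¹) = nO x :=
  (Nat.card_congr (Equiv.subtypeEquiv (h : LV).toEquiv fun v => (conj_fix h x v).symm)).symm

theorem nS_conj (h x : O8) : nS (h * x * h⁻¹) = nS x :=
  (Nat.card_congr (Equiv.subtypeEquiv (h : LV).toEquiv fun v =>
    and_congr (conj_fix h x v).symm (by rw [← O8_q h.2 v]; rfl))).symm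

theorem card_dec {P : V → Prop} {p : ℕ → Bool} (h : ∀ v < 256, P (dec v) ↔ p v = true) :
    Nat.card {v : V // P v} = (List.range 256).countP p := by
  have e : {a : Fin 256 // p a.1 = true} ≃ {v : V // P v} := Equiv.subtypeEquiv decE fun a => (h a.1 a.2).symm
  rw [← Nat.card_congr e, Nat.card_eq_fintype_card, Fintype.card_subtype, List.countP_eq_length_filter,
    ← List.toFinset_card_of_nodup (List.nodup_range.filter _)]
  refine Finset.card_bij (fun a _ => a.1) (fun a ha => ?_) (fun a _ b _ e => Fin.ext e) fun b hb => ?_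
  · rw [List.mem_toFinset, List.mem_filter, List.mem_range]
    exact ⟨a.2, (Finset.mem_filter.1 ha).2⟩
  · rw [List.mem_toFinset, List.mem_filter, List.mem_range] at hb
    exact ⟨⟨b, hb.1⟩, Finset.mem_filter.2 ⟨Finset.mem_univ _, hb.2⟩, rfl⟩

/-- the iterates -/
def it (c : ℕ) : ℕ → ℕ → ℕ
  | 0, v => v
  | k + 1, v => it c k (apc 8 c v)

/-- the power is trivial -/
def one (c k : ℕ) : Bool := basis.all fun b => it c k b == b

/-- the fixed vectors of the power -/
def cO (c k : ℕ) : ℕ := (List.range 256).countP fun v => it c k v == v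

/-- the fixed singular vectors of the power -/
def cS (c k : ℕ) : ℕ := (List.range 256).countP fun v => (it c k v == v) && !qn v

theorem ap_pow {x : O8} {c : ℕ} (h : act8.Rep x c) (k : ℕ) : ∀ v < 256, act8.ap (x ^ k) v = it c k v := by
  induction k with
  | zero => exact fun v hv => by rw [pow_zero]; exact act8.one v hv
  | succ k ih =>
    intro v hv
    rw [pow_succ, act8.mul _ _ _ hv, ih _ (act8.lt x v hv), act8.ap_eq h hv]
    rfl

theorem fix_iff {x : O8} {c : ℕ} (h : act8.Rep x c) (k : ℕ) {v : ℕ} (hv : v < 256) :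
    ((x ^ k : O8) : LV) (dec v) = dec v ↔ (it c k v == v) = true := by
  rw [beq_iff_eq, ← ap_pow h k v hv, act8_ap]
  exact ⟨fun e => by rw [e, cd_dec hv], fun e => by rw [← dec_cd (((x ^ k : O8) : LV) (dec v)), e]⟩

theorem data (g : O8) : ∃ r ∈ reps, ∃ h x : O8, act8.Rep x r ∧ g = h * x * h⁻¹ ∧
    ∀ k, (g ^ k = 1 ↔ one r k = true) ∧ nO (g ^ k) = cO r k ∧ nS (g ^ k) = cS r k := by
  obtain ⟨r, hr, h, x, hx, rfl⟩ := cover g
  refine ⟨r, hr, h, x, hx, rfl, fun k => ⟨?_, ?_, ?_⟩⟩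
  · rw [conj_pow, conj_eq_one_iff, one, List.all_eq_true]
    have hb : ∀ b ∈ basis, b < 256 := by decide
    refine ⟨fun e b hb' => (fix_iff hx k (hb b hb')).1 (by rw [e]; rfl), fun e => Subtype.ext (lin_ext fun b hb' => ?_)⟩
    exact (fix_iff hx k (hb b hb')).2 (e b hb')
  · rw [conj_pow, nO_conj]
    exact card_dec fun v hv => fix_iff hx k hv
  · rw [conj_pow, nS_conj]
    refine card_dec fun v hv => ?_
    rw [fix_iff hx k hv, q_dec, cc_eq_zero_iff, Bool.and_eq_true, Bool.not_eq_true']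

theorem t3 : ∀ r ∈ reps, one r 3 = true → one r 1 = true ∨ (r = 439924361429221765 ∧ cO r 1 = 1 ∧ cS r 1 = 1) ∨
    (cO r 1 = 4 ∧ cS r 1 = 1) ∨ cO r 1 = 16 ∨ cO r 1 = 64 := by decide +kernel

theorem t15 : ∀ r ∈ reps, one r 15 = true → one r 5 = true ∨ one r 3 = true ∨ cO r 10 = 1 ∨ cO r 10 = 64 := by
  decide +kernel

theorem t7 : ∀ r ∈ reps, one r 7 = true → one r 1 = true ∨ (cO r 1 = 4 ∧ cS r 1 = 3) := by decide +kernel

theorem t21 : ∀ r ∈ reps, one r 21 = true → one r 7 = true ∨ one r 3 = true := by decide +kernel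

theorem f3 {g : O8} (h3 : g ^ 3 = 1) (h1 : g ≠ 1) :
    (nO g = 1 ∧ nS g = 1 ∧ ∃ h x : O8, act8.Rep x 439924361429221765 ∧ g = h * x * h⁻¹) ∨ (nO g = 4 ∧ nS g = 1) ∨
      nO g = 16 ∨ nO g = 64 := by
  obtain ⟨r, hr, h, x, hx, e, H⟩ := data g
  obtain ⟨a1, a2, a3⟩ := H 1
  rw [pow_one] at a1 a2 a3
  rw [a2, a3]
  rcases t3 r hr ((H 3).1.1 h3) with k | ⟨k1, k2, k3⟩ | k | k | k
  · exact absurd (a1.2 k) h1
  · exact Or.inl ⟨k2, k3, h, x, k1 ▸ hx, e⟩
  · exact Or.inr (Or.inl k)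
  · exact Or.inr (Or.inr (Or.inl k))
  · exact Or.inr (Or.inr (Or.inr k))

theorem f15 {g : O8} (h : g ^ 15 = 1) (h5 : g ^ 5 ≠ 1) (h3 : g ^ 3 ≠ 1) : nO (g ^ 10) = 1 ∨ nO (g ^ 10) = 64 := by
  obtain ⟨r, hr, -, -, -, -, H⟩ := data g
  rw [(H 10).2.1]
  exact ((t15 r hr ((H 15).1.1 h)).resolve_left fun k => h5 ((H 5).1.2 k)).resolve_left fun k => h3 ((H 3).1.2 k)

theorem f7 {g : O8} (h : g ^ 7 = 1) (h1 : g ≠ 1) : nO g = 4 ∧ nS g = 3 := by
  obtain ⟨r, hr, -, -, -, -, H⟩ := data g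
  obtain ⟨a1, a2, a3⟩ := H 1
  rw [pow_one] at a1 a2 a3
  rw [a2, a3]
  exact (t7 r hr ((H 7).1.1 h)).resolve_left fun k => h1 (a1.2 k)

theorem f21 {g : O8} (h : g ^ 21 = 1) : g ^ 7 = 1 ∨ g ^ 3 = 1 := by
  obtain ⟨r, hr, -, -, -, -, H⟩ := data g
  exact (t21 r hr ((H 21).1.1 h)).imp (H 7).1.2 (H 3).1.2

theorem f3' {x : Om} (h : orderOf x = 3) :
    (nf x = 1 ∧ nS (up x) = 1 ∧ ∃ h y : O8, act8.Rep y 439924361429221765 ∧ up x = h * y * h⁻¹) ∨
      (nf x = 4 ∧ nS (up x) = 1) ∨ nf x = 16 ∨ nf x = 64 :=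
  f3 (g := up x) (by rw [up_pow, ← h, pow_orderOf_eq_one]; rfl) fun e => by
    rw [up_eq_one.1 e, orderOf_one] at h
    omega

/-! ### the triality image of a rotation -/

open Cfsg.Agent.StdO8.DataOf (xm) in
theorem xm_eq (s : StdO8.D4Root.E) : xm s = gen (2 ^ (StdO8.Bas.hd s).1.1, 2 ^ (StdO8.Bas.hd s).2.1) := by
  have h : ∀ i : Fin 8, StdO8.Bas.bv i = dec (2 ^ i.1) := by decide +kernel
  apply Subtype.ext
  show X (StdO8.Bas.bv _) (StdO8.Bas.bv _) = X (dec _) (dec _)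
  rw [h, h]

/-- a rotation -/
def ly : List (ℕ × ℕ) := [(1, 2), (16, 32), (1, 32), (2, 16)]

/-- its image -/
def lx : List (ℕ × ℕ) := [(1, 2), (16, 32), (4, 128), (8, 64)]

open Cfsg.Agent.StdO8.DataOf (xm) in
theorem tri_ly : StdO8.Tri.tri (word ly) = word lx := by
  have k : ∀ (s : StdO8.D4Root.E) (a b : ℕ × ℕ), s ∈ StdO8.D4Root.roots →
      (2 ^ (StdO8.Bas.hd s).1.1, 2 ^ (StdO8.Bas.hd s).2.1) = a →
      (2 ^ (StdO8.Bas.hd (StdO8.Tri.rho s)).1.1, 2 ^ (StdO8.Bas.hd (StdO8.Tri.rho s)).2.1) = b →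
      StdO8.Tri.tri (gen a) = gen b := by
    rintro s a b hs rfl rfl
    rw [← xm_eq, ← xm_eq, StdO8.Tri.tri_xm hs]
  simp only [ly, lx, word_cons, word_nil, map_mul, map_one]
  rw [k ![1, 1, 0, 0] (1, 2) (1, 2) (by decide +kernel) (by decide +kernel) (by decide +kernel),
    k ![-1, -1, 0, 0] (16, 32) (16, 32) (by decide +kernel) (by decide +kernel) (by decide +kernel),
    k ![1, -1, 0, 0] (1, 32) (4, 128) (by decide +kernel) (by decide +kernel) (by decide +kernel),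
    k ![-1, 1, 0, 0] (2, 16) (8, 64) (by decide +kernel) (by decide +kernel) (by decide +kernel)]

theorem nf_word {l : List (ℕ × ℕ)} (h : l.all ok = true) (hl : ∀ v < 256, ev l v < 256) :
    nf (word l) = (List.range 256).countP fun v => ev l v == v :=
  card_dec fun v hv => by
    show ((word l : Om) : LV) (dec v) = dec v ↔ _
    rw [word_dec h, beq_iff_eq]
    exact ⟨dec_inj (hl v hv) hv, fun e => by rw [e]⟩

theorem nf_ly : nf (word ly) = 64 := by
  rw [nf_word (by decide +kernel) (by decide +kernel)]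
  decide +kernel

theorem nf_lx : nf (word lx) = 1 := by
  rw [nf_word (by decide +kernel) (by decide +kernel)]
  decide +kernel

theorem order_lx : orderOf (word lx) = 3 := by
  have : Fact (Nat.Prime 3) := ⟨Nat.prime_three⟩
  refine orderOf_eq_prime ?_ fun e => ?_
  · rw [pow_three, ← word_append, ← word_append]
    exact word_eq (l' := []) (by decide +kernel)
  · have h := word_dec (l := lx) (by decide +kernel) 1
    rw [e] at h
    exact absurd (dec_inj (by norm_num) (by decide +kernel) h) (by decide +kernel)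

theorem rot_one {x : Om} (h3 : orderOf x = 3) (h1 : nf x = 1) : Rot x := by
  have key : ∀ z : Om, orderOf z = 3 → nf z = 1 → ∃ h y : O8, act8.Rep y 439924361429221765 ∧ up z = h * y * h⁻¹ := by
    intro z a b
    rcases f3' a with k | k | k | k
    · exact k.2.2
    all_goals omega
  obtain ⟨h, y, hy, e⟩ := key x h3 h1
  obtain ⟨h', y', hy', e'⟩ := key _ order_lx nf_lx
  obtain rfl : y = y' := act8.ext fun i hi => (hy i hi).trans (hy' i hi).symm
  have e2 : h' * h⁻¹ * up x * (h' * h⁻¹)⁻¹ = up (word lx) := by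
    rw [e, e']
    group
  have e3 : cj (h' * h⁻¹) x = word lx := Subtype.ext (congrArg (fun x : O8 => (x : LV)) e2)
  refine ⟨(cj (h' * h⁻¹)).trans StdO8.Tri.tri.symm, ?_⟩
  rw [MulEquiv.trans_apply, e3, ← tri_ly, MulEquiv.symm_apply_apply, nf_ly]

theorem rot_five {x f : Om} (h3 : orderOf x = 3) (h5 : orderOf f = 5) (h : x * f = f * x) : Rot x := by
  have c : Commute x f := h
  have x3 : x ^ 3 = 1 := by rw [← h3, pow_orderOf_eq_one]
  have f5 : f ^ 5 = 1 := by rw [← h5, pow_orderOf_eq_one]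
  have e10 : (x * f) ^ 10 = x := by
    rw [c.mul_pow, show 10 = 5 * 2 from rfl, pow_mul f, f5, one_pow, mul_one, show 5 * 2 = 3 * 3 + 1 from rfl, pow_succ,
      pow_mul, x3, one_pow, one_mul]
  have k := f15 (g := up (x * f)) (by
    rw [up_pow, up_eq_one, c.mul_pow, show 15 = 3 * 5 from rfl, pow_mul, x3, one_pow, one_mul, mul_comm, pow_mul, f5,
      one_pow]) (by
    rw [up_pow, Ne, up_eq_one, c.mul_pow, f5, mul_one, ← orderOf_dvd_iff_pow_eq_one, h3]
    norm_num) (by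
    rw [up_pow, Ne, up_eq_one, c.mul_pow, x3, one_mul, ← orderOf_dvd_iff_pow_eq_one, h5]
    norm_num)
  rw [up_pow, e10, nO_up] at k
  exact k.elim (rot_one h3) fun k => ⟨1, k⟩

theorem nf_eq (g : Om) : nf g = 2 ^ finrank (ZMod 2) (fxS (g : LV)) := by
  have h := Module.natCard_eq_pow_finrank (K := ZMod 2) (V := fxS (g : LV))
  rw [Nat.card_zmod] at h
  exact h

theorem fr_six {g : Om} (h : nf g = 64) : finrank (ZMod 2) (fxS (g : LV)) = 6 :=
  Nat.pow_right_injective (le_refl 2) ((nf_eq g).symm.trans h)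

theorem fr_inf (A C : Submodule (ZMod 2) V) : finrank (ZMod 2) A + finrank (ZMod 2) C ≤ finrank (ZMod 2) ↥(A ⊓ C) + 8 := by
  have h1 := Submodule.finrank_sup_add_finrank_inf_eq A C
  have h2 := Submodule.finrank_le (A ⊔ C)
  rw [finrank_V] at h2
  omega

theorem ap_mul (g h : Om) (v : V) : ap (g * h) v = ap g (ap h v) := rfl

theorem nf_conj (h x : Om) : nf (h * x * h⁻¹) = nf x := nO_conj (up h) (up x)

theorem nf_inv (x : Om) : nf x⁻¹ = nf x :=
  Nat.card_congr (Equiv.subtypeEquivRight fun v => by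
    show (x : LV).symm v = v ↔ (x : LV) v = v
    rw [LinearEquiv.symm_apply_eq, eq_comm])

theorem nf_seven {z w : Om} (h3 : orderOf z = 3) (h7 : orderOf w = 7) (h : z * w * z⁻¹ ∈ zpowers w) : nf z = 16 := by
  have z3 : z ^ 3 = 1 := by rw [← h3, pow_orderOf_eq_one]
  have w7 : w ^ 7 = 1 := by rw [← h7, pow_orderOf_eq_one]
  have hw := f7 (g := up w) (by rw [up_pow, w7]; rfl) fun e => by
    rw [up_eq_one.1 e, orderOf_one] at h7
    omega
  have back : ∀ v, ap w (ap z v) = ap z v → ap w v = v := fun v hv => by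
    have h1 : zpowers w ≤ MulAction.stabilizer Om (ap z v) := zpowers_le.2 hv
    have h2 : ap (z * w * z⁻¹) (ap z v) = ap z v := h1 h
    rw [← ap_mul, inv_mul_cancel_right, ap_mul] at h2
    exact (z : LV).injective h2
  have hP : ∀ v, ((w : LV) ((z : LV) v) = (z : LV) v ∧ q ((z : LV) v) = 0) ↔ ((w : LV) v = v ∧ q v = 0) := fun v => by
    refine and_congr ⟨back v, fun hv => back _ (back _ ?_)⟩ (by rw [O8_q (Om_le z.2)])
    have h1 : ap z (ap z (ap z v)) = v := by
      rw [← ap_mul, ← ap_mul, ← pow_three', z3]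
      rfl
    exact h1.symm ▸ hv
  have h1 := fix_mod Nat.prime_three (sp (z : LV) (fun v => (w : LV) v = v ∧ q v = 0) hP)
    (sp_pow_eq_one (congrArg Subtype.val z3))
  have h2 : Nat.card {a : {v : V // (w : LV) v = v ∧ q v = 0} // sp (z : LV) _ hP a = a} ≤ nS (up z) :=
    Nat.card_le_card_of_injective (fun a => ⟨a.1.1, congrArg Subtype.val a.2, a.1.2.2⟩) fun a b e =>
      Subtype.ext (Subtype.ext (Subtype.mk.inj e))
  have h4 : 0 < Nat.card {a : {v : V // (w : LV) v = v ∧ q v = 0} // sp (z : LV) _ hP a = a} := by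
    have : Nonempty {a : {v : V // (w : LV) v = v ∧ q v = 0} // sp (z : LV) _ hP a = a} :=
      ⟨⟨⟨0, map_zero _, q_zero⟩, Subtype.ext (map_zero (z : LV))⟩⟩
    exact Nat.card_pos
  have h5 : Nat.card {v : V // (w : LV) v = v ∧ q v = 0} = 3 := hw.2
  rw [h5, Nat.ModEq] at h1
  rcases f3' h3 with k | k | k | k
  · omega
  · omega
  · exact k
  exfalso
  by_cases hc : z * w * z⁻¹ * w⁻¹ = 1
  · have c : Commute z w := by
      rw [mul_inv_eq_one, mul_inv_eq_iff_eq_mul] at hc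
      exact hc
    rcases f21 (g := up (z * w)) (by
      rw [up_pow, up_eq_one, c.mul_pow, show 21 = 3 * 7 from rfl, pow_mul, z3, one_pow, one_mul, mul_comm, pow_mul, w7,
        one_pow]) with e | e
    · rw [up_pow, up_eq_one, c.mul_pow, w7, mul_one, ← orderOf_dvd_iff_pow_eq_one, h3] at e
      omega
    · rw [up_pow, up_eq_one, c.mul_pow, z3, one_mul, ← orderOf_dvd_iff_pow_eq_one, h7] at e
      omega
  · have m : z * w * z⁻¹ * w⁻¹ ∈ zpowers w := mul_mem h (inv_mem (mem_zpowers w))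
    have c7 : (z * w * z⁻¹ * w⁻¹) ^ 7 = 1 := by
      rw [← orderOf_dvd_iff_pow_eq_one, ← h7]
      exact orderOf_dvd_of_mem_zpowers m
    have c4 : nf (z * w * z⁻¹ * w⁻¹) = 4 := (f7 (g := up _) (by rw [up_pow, c7]; rfl) fun e => hc (up_eq_one.1 e)).1
    have c2 : finrank (ZMod 2) (fxS ((z * w * z⁻¹ * w⁻¹ : Om) : LV)) = 2 :=
      Nat.pow_right_injective (le_refl 2) ((nf_eq _).symm.trans c4)
    have a1 := fr_six k
    have a2 := fr_six (g := w * z⁻¹ * w⁻¹) (by rw [nf_conj, nf_inv, k])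
    have a3 := fr_inf (fxS (z : LV)) (fxS ((w * z⁻¹ * w⁻¹ : Om) : LV))
    have a4 : fxS (z : LV) ⊓ fxS ((w * z⁻¹ * w⁻¹ : Om) : LV) ≤ fxS ((z * w * z⁻¹ * w⁻¹ : Om) : LV) := fun v hv => by
      show ap (z * w * z⁻¹ * w⁻¹) v = v
      have e : z * w * z⁻¹ * w⁻¹ = z * (w * z⁻¹ * w⁻¹) := by group
      rw [e, ap_mul, show ap (w * z⁻¹ * w⁻¹) v = v from hv.2]
      exact hv.1
    have a5 := Submodule.finrank_mono a4
    omega

/-- the powers of an element of order three -/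
def pw (x : Om) (h : x ^ 3 = 1) : Multiplicative (ZMod 3) →* Om where
  toFun a := x ^ (Multiplicative.toAdd a).val
  map_one' := rfl
  map_mul' a b := by
    rw [toAdd_mul, ZMod.val_add, ← pow_add]
    exact (pow_eq_pow_mod _ h).symm

theorem burn {x y : Om} (hx : x ^ 3 = 1) (hy : y ^ 3 = 1) (h : x * y = y * x) :
    (nf x + nf y + nf (x * y) + nf (x * y⁻¹)) % 9 = 7 := by
  classical
  have c : Commute x y := h
  let φ : Multiplicative (ZMod 3) × Multiplicative (ZMod 3) →* Om :=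
    (pw x hx).noncommCoprod (pw y hy) fun a b => c.pow_pow _ _
  let _ : MulAction (Multiplicative (ZMod 3) × Multiplicative (ZMod 3)) V := MulAction.compHom V φ
  let _ : ∀ g : Multiplicative (ZMod 3) × Multiplicative (ZMod 3), Fintype (MulAction.fixedBy V g) := fun _ =>
    Fintype.ofFinite _
  let _ : Fintype (MulAction.orbitRel.Quotient (Multiplicative (ZMod 3) × Multiplicative (ZMod 3)) V) := Fintype.ofFinite _
  have h1 := MulAction.sum_card_fixedBy_eq_card_orbits_mul_card_group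
    (Multiplicative (ZMod 3) × Multiplicative (ZMod 3)) V
  have h2 : ∀ g : Multiplicative (ZMod 3) × Multiplicative (ZMod 3), Fintype.card (MulAction.fixedBy V g) =
      nf (x ^ (Multiplicative.toAdd g.1).val * y ^ (Multiplicative.toAdd g.2).val) := fun g => by
    rw [← Nat.card_eq_fintype_card]
    rfl
  have h3 : Fintype.card (Multiplicative (ZMod 3) × Multiplicative (ZMod 3)) = 9 := by simp
  have h4 : ∀ F : ℕ → ℕ, ∑ a : Multiplicative (ZMod 3), F (Multiplicative.toAdd a).val = F 0 + F 1 + F 2 := fun F =>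
    Fin.sum_univ_three fun a : Fin 3 => F a.1
  rw [Finset.sum_congr rfl fun g _ => h2 g, h3, Fintype.sum_prod_type,
    h4 fun i => ∑ b : Multiplicative (ZMod 3), nf (x ^ i * y ^ (Multiplicative.toAdd b).val),
    h4 fun j => nf (x ^ 0 * y ^ j), h4 fun j => nf (x ^ 1 * y ^ j), h4 fun j => nf (x ^ 2 * y ^ j)] at h1
  have ex : x ^ 2 = x⁻¹ := eq_inv_of_mul_eq_one_left (by rw [← pow_succ, hx])
  have ey : y ^ 2 = y⁻¹ := eq_inv_of_mul_eq_one_left (by rw [← pow_succ, hy])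
  have e1 : nf 1 = 256 := by
    rw [← card_true]
    exact card_subtype_congr fun v => ⟨fun _ => trivial, fun _ => rfl⟩
  have e2 : nf (x⁻¹ * y) = nf (x * y⁻¹) := by rw [← nf_inv, mul_inv_rev, inv_inv, c.inv_right.eq]
  have e3 : nf (x⁻¹ * y⁻¹) = nf (x * y) := by rw [← nf_inv, mul_inv_rev, inv_inv, inv_inv, h]
  simp only [pow_zero, pow_one, one_mul, mul_one, ex, ey, e1, e2, e3, nf_inv] at h1
  omega

/-! ### four rotations -/

theorem sup_ne {x y : Om} (hx : x ^ 3 = 1) (hy : y ^ 3 = 1) (nx : nf x = 64) (h : (x * y) ^ 2 = 1) :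
    fxS (x : LV) ⊔ fxS (y : LV) ≠ ⊤ := by
  intro ht
  have two : ∀ a : ZMod 2, a + a = 0 := by decide
  have cube : ∀ g : Om, g ^ 3 = 1 → ∀ v, ap g (ap g (ap g v)) = v := fun g hg v => by
    rw [← ap_mul, ← ap_mul, ← pow_three', hg]
    rfl
  have pe : ∀ (g : Om) (u a : V), ap g a = a → B (ap g u + u) a = 0 := fun g u a ha => by
    have h1 : B (ap g u) (ap g a) = B u a := O8_B (Om_le g.2) u a
    rw [ha] at h1
    rw [B_add_left, h1, two]
  have zero : ∀ v, (∀ a, ap x a = a → B v a = 0) → (∀ a, ap y a = a → B v a = 0) → v = 0 := fun v h1 h2 =>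
    nondeg fun u => by
      obtain ⟨a, ha, b, hb, rfl⟩ := Submodule.mem_sup.1 (ht ▸ Submodule.mem_top : u ∈ fxS (x : LV) ⊔ fxS (y : LV))
      rw [B_add_right, h1 a ha, h2 b hb, add_zero]
  have e0 : x * y = y * y * (x * x) := by
    have a1 : x * y = y⁻¹ * x⁻¹ := by rw [← mul_inv_rev, eq_inv_iff_mul_eq_one, ← pow_two, h]
    have a2 : x * x = x⁻¹ := eq_inv_of_mul_eq_one_left (by rw [← pow_three', hx])
    have a3 : y * y = y⁻¹ := eq_inv_of_mul_eq_one_left (by rw [← pow_three', hy])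
    rw [a1, a2, a3]
  have star : ∀ w, ap x (ap y w) + ap y w = ap x (ap x w) + w := fun w => by
    apply eq_of_add_eq_zero
    refine zero _ (fun a ha => ?_) fun a ha => ?_
    · rw [B_add_left, pe x _ a ha, zero_add]
      exact pe (x * x) w a (by rw [ap_mul, ha, ha])
    · have a1 : ap x (ap y w) = ap (y * y) (ap x (ap x w)) := by rw [← ap_mul, e0]; rfl
      have a2 : ap x (ap y w) + ap y w + (ap x (ap x w) + w) =
          (ap (y * y) (ap x (ap x w)) + ap x (ap x w)) + (ap y w + w) := by rw [a1]; abel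
      rw [a2, B_add_left, pe y _ a ha, pe (y * y) _ a (by rw [ap_mul, ha, ha]), add_zero]
  have keep : ∀ a, ap x a = a → ap x (ap y a) = ap y a := fun a ha => by
    have a1 := star a
    rw [ha, ha, add_self] at a1
    exact eq_of_add_eq_zero a1
  have fixy : ∀ v, (∀ a, ap x a = a → B v a = 0) → ap x v = v := fun v hv => by
    have a1 : ap y v = v := by
      apply eq_of_add_eq_zero
      refine zero _ (fun a ha => ?_) fun a ha => pe y v a ha
      have a2 : B (ap y v) (ap y (ap y (ap y a))) = B v (ap y (ap y a)) := O8_B (Om_le y.2) _ _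
      rw [cube y hy, hv _ (keep _ (keep a ha))] at a2
      rw [B_add_left, a2, hv a ha, add_zero]
    have a2 := star v
    rw [a1] at a2
    exact ((x : LV).injective (add_right_cancel a2)).symm
  have all : ∀ u, ap x u = u := fun u => by
    have a1 := fixy (ap x u + u) fun a ha => pe x u a ha
    have a2 : ap x (ap x u + u) = ap x (ap x u) + ap x u := map_add _ _ _
    rw [a2, add_comm (ap x u) u] at a1
    have a3 : ap x (ap x u) = u := add_right_cancel a1
    have a4 := cube x hx u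
    rwa [a3] at a4
  have e1 : nf x = 256 := by
    rw [← card_true]
    exact card_subtype_congr fun v => ⟨fun _ => trivial, fun _ => all v⟩
  omega

end Cfsg.Agent.SM.O8.Two.Rot

namespace Cfsg.Agent.SM.O8.Two

open Module Cfsg.Agent.StdO8.Model Cfsg.Agent.H320.O8

theorem boxRot : BoxRot := by
  refine ⟨fun x h => ?_, fun x => Rot.rot_one, fun x f => Rot.rot_five, fun z w => Rot.nf_seven,
    fun x y hx hy h _ => Rot.burn (by rw [← hx, pow_orderOf_eq_one]) (by rw [← hy, pow_orderOf_eq_one]) h⟩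
  rcases Rot.f3' h with k | k | k | k
  · exact Or.inl k.1
  · exact Or.inr (Or.inl k.1)
  · exact Or.inr (Or.inr (Or.inl k))
  · exact Or.inr (Or.inr (Or.inr k))

theorem boxGen : BoxGen := by
  intro x₁ x₂ x₃ x₄ h1 h2 _ _ n1 n2 n3 n4 h
  have a1 := Submodule.finrank_lt (Rot.sup_ne h1 h2 n1 h)
  have a2 := Submodule.finrank_sup_add_finrank_inf_eq (fxS (x₁ : LV)) (fxS (x₂ : LV))
  have a3 := Rot.fr_inf (fxS (x₁ : LV) ⊓ fxS (x₂ : LV)) (fxS (x₃ : LV))
  have a4 := Rot.fr_inf (fxS (x₁ : LV) ⊓ fxS (x₂ : LV) ⊓ fxS (x₃ : LV)) (fxS (x₄ : LV))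
  rw [finrank_V] at a1
  rw [Rot.fr_six n1, Rot.fr_six n2] at a2
  rw [Rot.fr_six n3] at a3
  rw [Rot.fr_six n4] at a4
  have a5 : fxS (x₁ : LV) ⊓ fxS (x₂ : LV) ⊓ fxS (x₃ : LV) ⊓ fxS (x₄ : LV) ≠ ⊥ := fun e => by
    rw [e, finrank_bot] at a4
    omega
  obtain ⟨v, hv, h0⟩ := Submodule.exists_mem_ne_zero_of_ne_bot a5
  exact ⟨v, h0, hv.1.1.1, hv.1.1.2, hv.1.2, hv.2⟩

end Cfsg.Agent.SM.O8.Two
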