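import Cfsg.Agent.SM.O8.Two.Defs
import Cfsg.Agent.H245.O8Refl

/-!
# SM (S3570), socle `Ω⁺₈(2)`: the common fixed space of the elements of order five (helper38)

`boxSRY_of`, `boxSRX_of`.
-/

set_option autoImplicit false

namespace Cfsg.Agent.SM.O8.Two

open Module Subgroup
open Cfsg.Agent.StdO8.Model (V q B O8 Om good q_apply z2 add_self eq_of_add_eq_zero B_comm q_add q_zero B_self B_add_left
  B_add_right B_zero_left B_zero_right B_smul_left B_smul_right nondeg O8_q O8_B X_apply X_mem Om_le X_conj X_mul X_zero_right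
  X_inv exists_B)
open Cfsg.Agent.StdO8.Aut (cj cj_coe)
open Cfsg.Agent.LieClassical.OrthCore (refl refl_apply refl_conj refl_mul_self)

namespace SRf

/-- an additively closed set of vectors without totally singular line -/
structure NL (W : Set V) : Prop where
  add : ∀ u ∈ W, ∀ w ∈ W, u + w ∈ W
  nl : ∀ u ∈ W, ∀ w ∈ W, q u = 0 → q w = 0 → B u w = 0 → u = 0 ∨ w = 0 ∨ u = w

/-- `M` stabilises `Z` -/
def St (M : V ≃ₗ[ZMod 2] V) (Z : Set V) : Prop := ∀ w, w ∈ Z ↔ M w ∈ Z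

theorem st_one {M : V ≃ₗ[ZMod 2] V} {u : V} (h : M u = u) : St M {u} := fun w =>
  ⟨fun hw => by rw [Set.mem_singleton_iff.1 hw, h]; rfl, fun hw => M.injective ((Set.mem_singleton_iff.1 hw).trans h.symm)⟩

theorem St.inv {M : V ≃ₗ[ZMod 2] V} {Z : Set V} (h : St M Z) : St M⁻¹ Z := fun w => by
  have h1 := h (M⁻¹ w)
  rw [show M (M⁻¹ w) = w from M.apply_symm_apply w] at h1
  exact h1.symm

/-- basis vectors -/
def ee (i : Fin 4) : V := fun j => if j = .inl i then 1 else 0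

/-- a nonsingular vector -/
def nn : V := fun j => if j = .inl 2 ∨ j = .inr 2 then 1 else 0

theorem q_e0 : q (ee 0) = 0 := by rw [q_apply]; decide
theorem q_e1 : q (ee 1) = 0 := by rw [q_apply]; decide
theorem B_e : B (ee 0) (ee 1) = 0 := by
  have h : q (ee 0 + ee 1) = 0 := by rw [q_apply]; decide
  rwa [q_add, q_e0, q_e1, zero_add, zero_add] at h
theorem e0_ne : ee 0 ≠ 0 := by decide
theorem e1_ne : ee 1 ≠ 0 := by decide
theorem e_ne : ee 0 ≠ ee 1 := by decide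
theorem q_n : q nn = 1 := by rw [q_apply]; decide
theorem q_n0 : q (nn + ee 0) = 1 := by rw [q_apply]; decide
theorem q_n1 : q (nn + ee 1) = 1 := by rw [q_apply]; decide

theorem ne_of_q {v : V} (h : q v = 1) : v ≠ 0 := H245.O8Refl.ns_ne h

theorem add_add (u v : V) : u + (u + v) = v := by rw [← add_assoc, add_self, zero_add]

theorem NL.zero {W : Set V} (h : NL W) {v : V} (hv : v ∈ W) : (0 : V) ∈ W := add_self v ▸ h.add v hv v hv

theorem NL.smul {W : Set V} (h : NL W) {v : V} (hv : v ∈ W) (a : ZMod 2) : a • v ∈ W := by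
  rcases z2 a with e | e <;> rw [e]
  · rw [zero_smul]; exact h.zero hv
  · rw [one_smul]; exact hv

/-- the stabiliser of a subset is proper -/
theorem NL.ne_top {W Z : Set V} (h : NL W) (hZ : Z ⊆ W) {u : V} (hu : u ∈ Z) (h0 : u ≠ 0) : SS Z ≠ ⊤ := by
  intro ht
  have key : ∀ w, w ≠ 0 → q u = q w → w ∈ W := fun w hw e => by
    obtain ⟨g, hg, rfl⟩ := good.trans_norm h0 hw e
    have h1 : (⟨g, hg⟩ : Om) ∈ SS Z := by rw [ht]; trivial
    exact hZ ((h1 u).1 hu)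
  have h2 : ee 0 ∈ W ∧ ee 1 ∈ W := by
    rcases z2 (q u) with e | e
    · exact ⟨key _ e0_ne (e.trans q_e0.symm), key _ e1_ne (e.trans q_e1.symm)⟩
    · have a := key _ (ne_of_q q_n) (e.trans q_n.symm)
      exact ⟨add_add nn (ee 0) ▸ h.add _ a _ (key _ (ne_of_q q_n0) (e.trans q_n0.symm)),
        add_add nn (ee 1) ▸ h.add _ a _ (key _ (ne_of_q q_n1) (e.trans q_n1.symm))⟩
  rcases h.nl _ h2.1 _ h2.2 q_e0 q_e1 B_e with e | e | e
  exacts [e0_ne e, e1_ne e, e_ne e]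

theorem rad_map {W : Set V} {M : V ≃ₗ[ZMod 2] V} (hM : M ∈ O8) (h : St M W) {s : V} (hs : ∀ w ∈ W, B s w = 0) :
    ∀ w ∈ W, B (M s) w = 0 := fun w hw => by
  obtain ⟨w, rfl⟩ := M.surjective w
  rw [O8_B hM]
  exact hs w ((h w).2 hw)

/-- two hyperbolic pairs of the polar form give sixteen vectors -/
theorem NL.big {W : Set V} (h : NL W) {a b c d : V} (ha : a ∈ W) (hb : b ∈ W) (hc : c ∈ W) (hd : d ∈ W) (hab : B a b = 1)
    (hcd : B c d = 1) (hac : B a c = 0) (had : B a d = 0) (hbc : B b c = 0) (hbd : B b d = 0) : 16 ≤ W.ncard := by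
  let F : ZMod 2 × ZMod 2 × ZMod 2 × ZMod 2 → V := fun x => x.1 • a + x.2.1 • b + x.2.2.1 • c + x.2.2.2 • d
  have e1 : ∀ x, B b (F x) = x.1 := fun x => by
    simp only [F, B_add_right, B_smul_right, B_self, hbc, hbd, B_comm b a, hab]; ring
  have e2 : ∀ x, B a (F x) = x.2.1 := fun x => by
    simp only [F, B_add_right, B_smul_right, B_self, hac, had, hab]; ring
  have e3 : ∀ x, B d (F x) = x.2.2.1 := fun x => by
    simp only [F, B_add_right, B_smul_right, B_self, B_comm d a, B_comm d b, B_comm d c, had, hbd, hcd]; ring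
  have e4 : ∀ x, B c (F x) = x.2.2.2 := fun x => by
    simp only [F, B_add_right, B_smul_right, B_self, B_comm c a, B_comm c b, hac, hbc, hcd]; ring
  have hF : Function.Injective F := fun x y e =>
    Prod.ext (by rw [← e1, ← e1, e]) (Prod.ext (by rw [← e2, ← e2, e]) (Prod.ext (by rw [← e3, ← e3, e]) (by rw [← e4, ← e4, e])))
  have h1 : Set.range F ⊆ W := by
    rintro _ ⟨x, rfl⟩
    exact h.add _ (h.add _ (h.add _ (h.smul ha _) _ (h.smul hb _)) _ (h.smul hc _)) _ (h.smul hd _)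
  have h2 := Set.ncard_le_ncard h1 (Set.toFinite _)
  rw [← Set.image_univ, Set.ncard_image_of_injective _ hF, Set.ncard_univ, Nat.card_prod, Nat.card_prod, Nat.card_prod,
    Nat.card_zmod] at h2
  exact h2

/-- the projection to the complement of a hyperbolic pair -/
theorem NL.proj {W : Set V} (h : NL W) {a b c : V} (ha : a ∈ W) (hb : b ∈ W) (hc : c ∈ W) (hab : B a b = 1) :
    c + B b c • a + B a c • b ∈ W ∧ B a (c + B b c • a + B a c • b) = 0 ∧ B b (c + B b c • a + B a c • b) = 0 := by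
  have t : ∀ x : ZMod 2, x + x = 0 := by decide
  refine ⟨h.add _ (h.add _ hc _ (h.smul ha _)) _ (h.smul hb _), ?_, ?_⟩
  · simp only [B_add_right, B_smul_right, B_self, hab, mul_zero, add_zero, mul_one, t]
  · simp only [B_add_right, B_smul_right, B_self, B_comm b a, hab, mul_zero, mul_one, t]

/-- **the canonical object** -/
theorem NL.obj {W : Set V} (h : NL W) {v : V} (hv : v ∈ W) (h0 : v ≠ 0) :
    (∃ k Z, Obj k Z ∧ Z ⊆ W ∧ (∃ u ∈ Z, u ≠ 0) ∧ ∀ M ∈ O8, St M W → St M Z) ∨ 16 ≤ W.ncard := by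
  by_cases h1 : ∃ s ∈ W, s ≠ 0 ∧ q s = 0 ∧ ∀ w ∈ W, B s w = 0
  · obtain ⟨s, hs, s0, qs, rs⟩ := h1
    refine Or.inl ⟨0, {s}, Or.inl ⟨rfl, s, s0, qs, rfl⟩, Set.singleton_subset_iff.2 hs, ⟨s, rfl, s0⟩, fun M hM hW => st_one ?_⟩
    have h2 := (hW s).1 hs
    rcases h.nl _ hs _ h2 qs (by rw [O8_q hM, qs]) (rs _ h2) with e | e | e
    · exact absurd e s0
    · exact absurd (M.map_eq_zero_iff.1 e) s0
    · exact e.symm
  have one : ∀ n ∈ W, q n = 1 → (∀ M ∈ O8, St M W → M n = n) →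
      ∃ k Z, Obj k Z ∧ Z ⊆ W ∧ (∃ u ∈ Z, u ≠ 0) ∧ ∀ M ∈ O8, St M W → St M Z := fun n hn qn hf =>
    ⟨1, {n}, Or.inr (Or.inl ⟨rfl, n, qn, rfl⟩), Set.singleton_subset_iff.2 hn, ⟨n, rfl, ne_of_q qn⟩,
      fun M hM hW => st_one (hf M hM hW)⟩
  by_cases h2 : ∃ n ∈ W, n ≠ 0 ∧ ∀ w ∈ W, B n w = 0
  · obtain ⟨n, hn, n0, rn⟩ := h2
    have qn : q n = 1 := (z2 _).resolve_left fun e => h1 ⟨n, hn, n0, e, rn⟩
    refine Or.inl (one n hn qn fun M hM hW => ?_)
    have h3 := (hW n).1 hn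
    by_contra hne
    refine h1 ⟨M n + n, h.add _ h3 _ hn, fun e => hne (eq_of_add_eq_zero e), ?_, fun w hw => ?_⟩
    · rw [q_add, O8_q hM, qn, B_comm, rn _ h3]; decide
    · rw [B_add_left, rad_map hM hW rn w hw, rn w hw, add_zero]
  have pair : ∀ a ∈ W, a ≠ 0 → ∃ b ∈ W, B a b = 1 := fun a ha a0 => by
    by_contra hc
    exact h2 ⟨a, ha, a0, fun w hw => (z2 _).resolve_right fun e => hc ⟨w, hw, e⟩⟩
  obtain ⟨b, hb, hvb⟩ := pair v hv h0
  by_cases h3 : ∃ c ∈ W, c + B b c • v + B v c • b ≠ 0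
  · obtain ⟨c, hc, c0⟩ := h3
    obtain ⟨k1, k2, k3⟩ := h.proj hv hb hc hvb
    obtain ⟨d, hd, hcd⟩ := pair _ k1 c0
    obtain ⟨l1, l2, l3⟩ := h.proj hv hb hd hvb
    refine Or.inr (h.big hv hb k1 l1 hvb ?_ k2 l2 k3 l3)
    rw [B_add_right, B_add_right, hcd, B_smul_right, B_smul_right, B_comm _ v, k2, B_comm _ b, k3]
    ring
  have all : ∀ c ∈ W, c = 0 ∨ c = v ∨ c = b ∨ c = v + b := fun c hc => by
    have e : c + B b c • v + B v c • b = 0 := by
      by_contra hne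
      exact h3 ⟨c, hc, hne⟩
    rw [add_assoc] at e
    have e' := eq_of_add_eq_zero e
    rcases z2 (B b c) with x | x <;> rcases z2 (B v c) with y | y <;> rw [x, y] at e' <;> simp [e']
  have qvb : q (v + b) = q v + q b + 1 := by rw [q_add, hvb]
  have uniq : ∀ n ∈ W, q n = 1 → (∀ w ∈ W, q w = 1 → w = n) → ∀ M ∈ O8, St M W → M n = n := fun n hn qn u M hM hW =>
    u _ ((hW n).1 hn) (by rw [O8_q hM, qn])
  have z01 : (0 : ZMod 2) ≠ 1 := by decide
  left
  rcases z2 (q v) with x | x <;> rcases z2 (q b) with y | y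
  · rw [x, y, zero_add, zero_add] at qvb
    refine one _ (h.add _ hv _ hb) qvb (uniq _ (h.add _ hv _ hb) qvb fun w hw qw => ?_)
    rcases all w hw with e | e | e | e
    · exact absurd e (ne_of_q qw)
    · exact absurd ((e ▸ x).symm.trans qw) z01
    · exact absurd ((e ▸ y).symm.trans qw) z01
    · exact e
  · have qvb' : q (v + b) = 0 := by rw [qvb, x, y]; decide
    refine one _ hb y (uniq _ hb y fun w hw qw => ?_)
    rcases all w hw with e | e | e | e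
    · exact absurd e (ne_of_q qw)
    · exact absurd ((e ▸ x).symm.trans qw) z01
    · exact e
    · exact absurd ((e ▸ qvb').symm.trans qw) z01
  · have qvb' : q (v + b) = 0 := by rw [qvb, x, y]; decide
    refine one _ hv x (uniq _ hv x fun w hw qw => ?_)
    rcases all w hw with e | e | e | e
    · exact absurd e (ne_of_q qw)
    · exact e
    · exact absurd ((e ▸ y).symm.trans qw) z01
    · exact absurd ((e ▸ qvb').symm.trans qw) z01
  · have qvb' : q (v + b) = 1 := by rw [qvb, x, y]; decide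
    have mem : ∀ w, w ∈ ({v, b, v + b} : Set V) ↔ w ∈ W ∧ w ≠ 0 := fun w => by
      simp only [Set.mem_insert_iff, Set.mem_singleton_iff]
      constructor
      · rintro (e | e | e) <;> rw [e]
        exacts [⟨hv, h0⟩, ⟨hb, ne_of_q y⟩, ⟨h.add _ hv _ hb, ne_of_q qvb'⟩]
      · exact fun e => (all w e.1).resolve_left e.2
    refine ⟨2, {v, b, v + b}, Or.inr (Or.inr ⟨rfl, v, b, x, y, hvb, rfl⟩), fun w hw => ((mem w).1 hw).1,
      ⟨v, Or.inl rfl, h0⟩, fun M _ hW w => ?_⟩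
    rw [mem, mem, ← hW w, Ne, Ne, M.map_eq_zero_iff]

/-! ### the fixed space -/

/-- the common fixed vectors of the elements of order five -/
def WW (R : Subgroup Om) : Set V := {v | ∀ g ∈ R, g ^ 5 = 1 → ap g v = v}

theorem exists_five {R : Subgroup Om} (h5 : 5 ∣ Nat.card R) : ∃ f ∈ R, orderOf f = 5 := by
  have : Fact (Nat.Prime 5) := ⟨by norm_num⟩
  obtain ⟨f, hf⟩ := exists_prime_orderOf_dvd_card' (G := R) 5 h5
  exact ⟨f, f.2, by rw [Subgroup.orderOf_coe, hf]⟩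

theorem ww_fix {R : Subgroup Om} {f : Om} (hf : f ∈ R) (h5 : orderOf f = 5) {v : V} (hv : v ∈ WW R) : ap f v = v :=
  hv f hf (h5 ▸ pow_orderOf_eq_one f)

theorem nl_ww (C5 : BoxC5) {R : Subgroup Om} (h5 : 5 ∣ Nat.card R) : NL (WW R) := by
  obtain ⟨f, hf, o5⟩ := exists_five h5
  exact ⟨fun u hu w hw g hg e => by rw [ap, map_add]; exact congrArg₂ (· + ·) (hu g hg e) (hw g hg e),
    fun u hu w hw => (C5.1 f o5).2.2.1 u w (ww_fix hf o5 hu) (ww_fix hf o5 hw)⟩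

theorem ap_cj (M : O8) (g : Om) (v : V) : ap (cj M g) ((M : V ≃ₗ[ZMod 2] V) v) = (M : V ≃ₗ[ZMod 2] V) (ap g v) := by
  change (M : V ≃ₗ[ZMod 2] V) ((g : V ≃ₗ[ZMod 2] V) ((M : V ≃ₗ[ZMod 2] V).symm ((M : V ≃ₗ[ZMod 2] V) v))) = _
  rw [LinearEquiv.symm_apply_apply]

theorem conj_eq (g : Om) : MulAut.conj g = cj ⟨g, Om_le g.2⟩ := by
  ext x : 1
  exact Subtype.ext rfl

theorem st_ww {R : Subgroup Om} {M : O8} (h : ∀ x, x ∈ R ↔ cj M x ∈ R) : St (M : V ≃ₗ[ZMod 2] V) (WW R) := fun w =>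
  ⟨fun hw g hg e => by
    obtain ⟨g, rfl⟩ := (cj M).surjective g
    rw [ap_cj, hw g ((h g).2 hg) ((cj M).injective (by rw [map_pow, e, map_one]))],
   fun hw g hg e => (M : V ≃ₗ[ZMod 2] V).injective (by
    rw [← ap_cj]
    exact hw _ ((h g).1 hg) (by rw [← map_pow, e, map_one]))⟩

theorem iv_iff {U : Subgroup (MulAut Om)} {R : Subgroup Om} (h : Iv U R) {β : MulAut Om} (hβ : β ∈ U) (x : Om) :
    x ∈ R ↔ β x ∈ R := ⟨h β hβ x, fun hx => by
  have h1 := h β⁻¹ (inv_mem hβ) _ hx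
  rwa [MulAut.inv_apply_self] at h1⟩

theorem st_self {R : Subgroup Om} {g : Om} (hg : g ∈ R) : St (g : V ≃ₗ[ZMod 2] V) (WW R) :=
  st_ww (M := ⟨g, Om_le g.2⟩) fun x => by
    rw [← conj_eq, MulAut.conj_apply]
    exact ⟨fun hx => mul_mem (mul_mem hg hx) (inv_mem hg), fun hx => by
      have h1 := mul_mem (mul_mem (inv_mem hg) hx) hg
      rwa [show g⁻¹ * (g * x * g⁻¹) * g = x by group] at h1⟩

/-- the automorphisms normalising `R` are linear -/
theorem lin (Nt : BoxNt) {U : Subgroup (MulAut Om)} {R : Subgroup Om} (h : Iv U R) (h5 : 5 ∣ Nat.card R) {v : V}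
    (hv : v ∈ WW R) (h0 : v ≠ 0) {β : MulAut Om} (hβ : β ∈ U) :
    ∃ M : O8, cj M = β ∧ St (M : V ≃ₗ[ZMod 2] V) (WW R) := by
  obtain ⟨f, hf, o5⟩ := exists_five h5
  obtain ⟨M, rfl⟩ := Nt.2.1 β f o5 ⟨v, h0, ww_fix hf o5 hv⟩
    ⟨v, h0, ww_fix (h β hβ f hf) (by rw [MulEquiv.orderOf_eq, o5]) hv⟩
  exact ⟨M, rfl, st_ww (iv_iff h hβ)⟩

theorem iv_ss {U : Subgroup (MulAut Om)} {Z : Set V} (h : ∀ β ∈ U, ∃ M : O8, cj M = β ∧ St (M : V ≃ₗ[ZMod 2] V) Z) :
    Iv U (SS Z) := fun β hβ g hg w => by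
  obtain ⟨M, rfl, hM⟩ := h β hβ
  obtain ⟨w, rfl⟩ := (M : V ≃ₗ[ZMod 2] V).surjective w
  rw [ap_cj, ← hM, ← hM]
  exact hg w

theorem mem_ww {α : MulAut Om} {L : Subgroup Om} {v : V} (h : ∀ g ∈ L, g ^ 5 = 1 → ap (α g) v = v) : v ∈ WW (im α L) := by
  rintro _ ⟨g, hg, rfl⟩ e
  exact h g hg (α.injective (by rw [map_pow, map_one]; exact e))

theorem card_im (α : MulAut Om) (L : Subgroup Om) : Nat.card (im α L) = Nat.card L :=
  (Nat.card_congr (α.subgroupMap L).toEquiv).symm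

/-- a Sylow 5-subgroup centralising an element of order five -/
theorem exists_sylow {f : Om} (o5 : orderOf f = 5) :
    ∃ P : Subgroup Om, Nat.card P = 25 ∧ ∀ g ∈ P, g * f = f * g := by
  have : Fact (Nat.Prime 5) := ⟨by norm_num⟩
  have h1 : IsPGroup 5 (zpowers f) := IsPGroup.of_card (n := 1) (by rw [Nat.card_zpowers, o5, pow_one])
  obtain ⟨P, hP⟩ := h1.exists_le_sylow
  have h2 : Nat.card P = 5 ^ 2 := by
    rw [P.card_eq_multiplicity, H245.O8Refl.card_Om]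
    congr 1
    rw [show (174182400 : ℕ) = 5 ^ 2 * 6967296 by norm_num,
      Nat.factorization_mul (by norm_num) (by norm_num), Finsupp.add_apply, Nat.Prime.factorization_pow (by norm_num),
      Nat.factorization_eq_zero_of_not_dvd (by norm_num)]
    simp
  have h3 := IsPGroup.isMulCommutative_of_card_eq_prime_sq h2
  exact ⟨P, h2, fun g hg => congrArg Subtype.val (h3.is_comm.comm (⟨g, hg⟩ : P) ⟨f, hP (mem_zpowers f)⟩)⟩

/-! ### the second factor -/

theorem sry (C5 : BoxC5) (Nt : BoxNt) {X Y : Subgroup Om} {U W : Subgroup (MulAut Om)} (c : Cf X Y U W)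
    (h5 : 5 ∣ Nat.card Y) {v : V} (hv : v ∈ WW Y) (h0 : v ≠ 0) : ∃ k Z, Obj k Z ∧ Y = SS Z := by
  have n := nl_ww C5 h5
  have key : ∀ Z ⊆ WW Y, (∃ u ∈ Z, u ≠ 0) → (∀ M ∈ O8, St M (WW Y) → St M Z) → Y = SS Z := by
    rintro Z hZ ⟨u, hu, u0⟩ h
    refine le_antisymm (fun y hy => h _ (Om_le y.2) (st_self hy)) (c.maxV _ (n.ne_top hZ hu u0) (iv_ss fun β hβ => ?_))
    obtain ⟨M, e, hM⟩ := lin Nt c.vY h5 hv h0 hβ
    exact ⟨M, e, h _ M.2 hM⟩
  rcases n.obj hv h0 with ⟨k, Z, o, hZ, hu, h⟩ | h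
  · exact ⟨k, Z, o, key Z hZ hu h⟩
  · exfalso
    obtain ⟨f, hf, o5⟩ := exists_five h5
    have h1 : WW Y ⊆ {w | ap f w = w} := fun w hw => ww_fix hf o5 hw
    have h2 : ({w | ap f w = w} : Set V).ncard ≤ 16 := by
      rw [← Nat.card_coe_set_eq]
      have := (C5.1 f o5).1
      change nf f ≤ 16
      omega
    have h3 : WW Y = {w | ap f w = w} := Set.eq_of_subset_of_ncard_le h1 (h2.trans h) (Set.toFinite _)
    obtain ⟨P, hP, hc⟩ := exists_sylow o5
    have h4 : P ≤ Y := by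
      rw [key (WW Y) subset_rfl ⟨v, hv, h0⟩ fun _ _ h => h, h3]
      intro g hg w
      have e : ap f (ap g w) = ap g (ap f w) := congrArg (fun x : Om => ap x w) (hc g hg).symm
      change ap f w = w ↔ ap f (ap g w) = ap g w
      rw [e]
      exact (g : V ≃ₗ[ZMod 2] V).injective.eq_iff.symm
    exact h0 (C5.2.1 Y (hP ▸ card_dvd_of_le h4) v hv)

/-! ### the first factor -/

theorem card_ss {v : V} (hv : q v = 1) : Nat.card (SS {v}) = 1451520 := by
  have h0 : SS {v} = MulAction.stabilizer Om v := by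
    ext g
    exact ⟨fun h => (h v).1 rfl, fun h => st_one h⟩
  have h1 := Nat.card_congr (MulAction.orbitProdStabilizerEquivGroup Om v)
  have h2 : MulAction.orbit Om v = {w : V | q w = 1} := by
    ext w
    constructor
    · rintro ⟨g, rfl⟩
      change q ((g : V ≃ₗ[ZMod 2] V) v) = 1
      rw [O8_q (Om_le g.2), hv]
    · intro h
      obtain ⟨g, hg, hgv⟩ := good.trans_norm (ne_of_q hv) (ne_of_q h) (hv.trans h.symm)
      exact ⟨⟨g, hg⟩, hgv⟩
  have h3 : Nat.card (MulAction.orbit Om v) = 120 := by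
    rw [h2]
    exact H245.O8Refl.card_ns
  rw [Nat.card_prod, h3, H245.O8Refl.card_Om] at h1
  rw [h0]
  omega

/-- the unipotent radical of the stabiliser of a singular vector -/
def EE (s : V) (hs : q s = 0) : Subgroup Om where
  carrier := {g | ∃ w, B s w = 0 ∧ (g : V ≃ₗ[ZMod 2] V) = StdO8.Model.X s w}
  one_mem' := ⟨0, B_zero_right s, (X_zero_right s).symm⟩
  mul_mem' := by
    rintro a b ⟨w, hw, e⟩ ⟨w', hw', e'⟩
    exact ⟨w + w', by rw [B_add_right, hw, hw', add_zero], by rw [Subgroup.coe_mul, e, e', X_mul hs hw hw']⟩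
  inv_mem' := by
    rintro a ⟨w, hw, e⟩
    exact ⟨w, hw, by rw [Subgroup.coe_inv, e, X_inv]⟩

theorem ee_comm {s : V} {hs : q s = 0} {a b : Om} (ha : a ∈ EE s hs) (hb : b ∈ EE s hs) : a * b = b * a := by
  obtain ⟨w, hw, e⟩ := ha
  obtain ⟨w', hw', e'⟩ := hb
  exact Subtype.ext (by rw [Subgroup.coe_mul, Subgroup.coe_mul, e, e', X_mul hs hw hw', X_mul hs hw' hw, add_comm])

theorem ee_fix {s : V} {hs : q s = 0} {a : Om} (ha : a ∈ EE s hs) : ap a s = s := by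
  obtain ⟨w, hw, e⟩ := ha
  rw [ap, e, StdO8.Model.X_apply' hs hw, B_self, B_comm w s, hw]
  simp

theorem ee_conj {s : V} {hs : q s = 0} {x a : Om} (hx : ap x s = s) (ha : a ∈ EE s hs) : x * a * x⁻¹ ∈ EE s hs := by
  obtain ⟨w, hw, e⟩ := ha
  refine ⟨ap x w, by rw [← hx, O8_B (Om_le x.2), hw], ?_⟩
  rw [Subgroup.coe_mul, Subgroup.coe_mul, Subgroup.coe_inv, e, X_conj (Om_le x.2)]
  exact congrArg (fun t => StdO8.Model.X t (ap x w)) hx

theorem ee_ne {s : V} (hs : q s = 0) (h0 : s ≠ 0) : EE s hs ≠ ⊥ := by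
  obtain ⟨g, hg, rfl⟩ := good.trans_norm e0_ne h0 (q_e0.trans hs.symm)
  have h1 : B (g (ee 0)) (g (ee 1)) = 0 := by rw [O8_B (Om_le hg), B_e]
  have h2 : q (g (ee 1)) = 0 := by rw [O8_q (Om_le hg), q_e1]
  have h3 : g (ee 1) ≠ 0 := fun e => e1_ne (g.map_eq_zero_iff.1 e)
  intro h
  have h4 : (⟨_, X_mem (g (ee 0)) (g (ee 1))⟩ : Om) ∈ EE _ hs := ⟨_, h1, rfl⟩
  rw [h, mem_bot] at h4
  obtain ⟨v, a, b⟩ := exists_B h0 h3 (fun e => e_ne (g.injective e)) 1 0
  have h5 : StdO8.Model.X (g (ee 0)) (g (ee 1)) v = v := congrArg (fun x : Om => ap x v) h4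
  rw [X_apply hs h2 h1, a, b, one_smul, zero_smul, add_zero] at h5
  exact h3 (add_eq_left.1 h5)

theorem srx (C5 : BoxC5) (Nt : BoxNt) {X Y : Subgroup Om} {U W : Subgroup (MulAut Om)} (c : Cf X Y U W)
    (h5 : 5 ∣ Nat.card X) {v : V} (hv : v ∈ WW X) (h0 : v ≠ 0) :
    1451520 ∣ Nat.card (MulAut X) ∧ ∃ v : V, q v = 1 ∧ X ≤ SS {v} := by
  have n := nl_ww C5 h5
  -- `X` fixes `WW X` pointwise
  have fx : ∀ x ∈ X, ∀ w ∈ WW X, ap x w = w := by
    let C : Subgroup Om :=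
      { carrier := {x | x ∈ X ∧ ∀ w ∈ WW X, ap x w = w}
        one_mem' := ⟨one_mem _, fun _ _ => rfl⟩
        mul_mem' := fun {a b} ha hb => ⟨mul_mem ha.1 hb.1, fun w hw =>
          (congrArg (ap a) (hb.2 w hw)).trans (ha.2 w hw)⟩
        inv_mem' := fun {a} ha => ⟨inv_mem ha.1, fun w hw =>
          (congrArg (ap a⁻¹) (ha.2 w hw).symm).trans ((a : V ≃ₗ[ZMod 2] V).symm_apply_apply w)⟩ }
    obtain ⟨f, hf, o5⟩ := exists_five h5
    have h1 : C = X := by
      refine c.eq_of_conj (fun x hx => hx.1) (fun h => ?_) fun x hx e he =>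
        ⟨mul_mem (mul_mem hx he.1) (inv_mem hx), fun w hw => ?_⟩
      · have h2 : f ∈ C := ⟨hf, fun w hw => ww_fix hf o5 hw⟩
        rw [h, mem_bot] at h2
        rw [h2, orderOf_one] at o5
        exact absurd o5 (by norm_num)
      · have h2 := he.2 _ ((st_self (inv_mem hx) w).1 hw)
        exact (congrArg (ap x) h2).trans ((x : V ≃ₗ[ZMod 2] V).apply_symm_apply w)
    exact fun x hx => (h1.ge hx).2
  -- a vector fixed by everything
  have key : ∀ u ∈ WW X, u ≠ 0 → (∀ w ∈ WW X, w ≠ 0 → q w = q u → w = u) → ∀ d ∈ SS {u}, MulAut.conj d ∈ U := by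
    intro u hu u0 h
    refine c.maxU _ (n.ne_top (Set.singleton_subset_iff.2 hu) rfl u0) (iv_ss fun β hβ => ?_)
    obtain ⟨M, e, hM⟩ := lin Nt c.uX h5 hv h0 hβ
    exact ⟨M, e, st_one (h _ ((hM u).1 hu) (fun e => u0 ((M : V ≃ₗ[ZMod 2] V).map_eq_zero_iff.1 e)) (O8_q M.2 u))⟩
  have z10 : (1 : ZMod 2) ≠ 0 := by decide
  by_cases h1 : ∃ a ∈ WW X, q a = 1
  · obtain ⟨a, ha, qa⟩ := h1
    have qa' : q a ≠ 0 := qa ▸ z10
    have uq : ∀ w ∈ WW X, w ≠ 0 → q w = q a → w = a := by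
      intro b hb _ qb
      have qb1 : q b = 1 := qb.trans qa
      have qb' : q b ≠ 0 := qb1 ▸ z10
      have cm : ∀ x ∈ X, ∀ u ∈ WW X, ∀ hu : q u ≠ 0,
          (x : V ≃ₗ[ZMod 2] V) * refl q u hu = refl q u hu * (x : V ≃ₗ[ZMod 2] V) := fun x hx u hu qu => by
        have e : (x : V ≃ₗ[ZMod 2] V) u = u := fx x hx u hu
        rw [← mul_inv_eq_iff_eq_mul, refl_conj (Om_le x.2) qu (by rw [e]; exact qu)]
        congr 1
      have h2 : (⟨_, good.refl_mul_refl_mem qa' qb' qb.symm⟩ : Om) = 1 := c.cen _ fun x hx => Subtype.ext (by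
        change refl q b qb' * refl q a qa' * (x : V ≃ₗ[ZMod 2] V) = (x : V ≃ₗ[ZMod 2] V) * (refl q b qb' * refl q a qa')
        rw [mul_assoc, ← cm x hx a ha, ← mul_assoc, ← cm x hx b hb, mul_assoc])
      have h3 : refl q b qb' = refl q a qa' := by
        have h4 : refl q b qb' * refl q a qa' = 1 := congrArg Subtype.val h2
        rw [← refl_mul_self qa'] at h4
        exact mul_right_cancel h4
      obtain ⟨t, ht⟩ := good.nondeg.exists_polar_ne (ne_of_q qa)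
      have h4 : refl q b qb' t = refl q a qa' t := by rw [h3]
      rw [refl_apply, refl_apply, qa, qb1, inv_one, one_mul, one_mul, (z2 _).resolve_left ht, one_smul, sub_right_inj] at h4
      rcases z2 (QuadraticMap.polar q b t) with e | e <;> rw [e] at h4
      · rw [zero_smul] at h4
        exact absurd h4.symm (ne_of_q qa)
      · rwa [one_smul] at h4
    have k := key a ha (ne_of_q qa) uq
    refine ⟨?_, a, qa, fun x hx => st_one (fx x hx a ha)⟩
    have h2 : SS {a} ≤ normalizer (X : Set Om) := fun d hd => mem_normalizer_iff.2 (iv_iff c.uX (k d hd))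
    rw [← card_ss qa]
    refine card_dvd_of_injective (X.normalizerMonoidHom.comp (inclusion h2)) ((injective_iff_map_eq_one _).2 fun d hd => ?_)
    refine Subtype.ext (c.cen _ fun x hx => ?_)
    have h3 : (d : Om) * x * (d : Om)⁻¹ = x := congrArg (fun β : MulAut X => ((β ⟨x, hx⟩ : X) : Om)) hd
    exact mul_inv_eq_iff_eq_mul.1 h3
  · exfalso
    have sg : ∀ w ∈ WW X, q w = 0 := fun w hw => (z2 _).resolve_right fun e => h1 ⟨w, hw, e⟩
    have k := key v hv h0 fun w hw w0 _ => by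
      have h2 := q_add w v
      rw [sg _ (n.add _ hw _ hv), sg _ hw, sg _ hv, zero_add, zero_add] at h2
      rcases n.nl _ hw _ hv (sg _ hw) (sg _ hv) h2.symm with e | e | e
      exacts [absurd e w0, absurd e h0, e]
    have h2 : X ≤ EE v (sg v hv) := c.minU _ (ee_ne _ h0) (fun e he => k e (st_one (ee_fix he)))
      fun x hx e he => ee_conj (fx x hx v hv) he
    exact c.nab ⟨⟨fun a b => Subtype.ext (ee_comm (h2 a.2) (h2 b.2))⟩⟩

end SRf

open SRf

theorem boxSRY_of (C5 : BoxC5) (Nt : BoxNt) : BoxSRY := by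
  rintro X Y U W c h5 ⟨α, v, h0, hv⟩
  have h5' : 5 ∣ Nat.card (im α Y) := by rwa [card_im]
  obtain ⟨k, Z, o, e⟩ := sry C5 Nt (c.map α) h5' (mem_ww hv) h0
  refine ⟨α, k, Z, o, e, fun β hβ => ?_⟩
  obtain ⟨M, e, -⟩ := lin Nt (c.map α).vY h5' (mem_ww hv) h0 (mem_map_of_mem (MulAut.conj α).toMonoidHom hβ)
  exact ⟨M, e⟩

theorem boxSRX_of (C5 : BoxC5) (Nt : BoxNt) : BoxSRX := by
  rintro X Y U W c h5 ⟨α, v, h0, hv⟩
  obtain ⟨h1, u, qu, h2⟩ := srx C5 Nt (c.map α) (by rwa [card_im]) (mem_ww hv) h0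
  exact ⟨by rwa [Nat.card_congr (MulAut.congr (α.subgroupMap X)).toEquiv], α, u, qu, h2⟩

end Cfsg.Agent.SM.O8.Two
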