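import Cfsg.Agent.Lib.MinNormal
import Cfsg.Agent.Lib.SubnormalJoin

/-!
# SM (S3570), socle `Ω⁺₈(2)`: finite groups without three commuting simple subgroups (helper39)

* `Yb.str` : an invariant elementary abelian subgroup, or a self-centralising simple normal subgroup, or a pair.
-/

set_option autoImplicit false
set_option linter.unusedSectionVars false

namespace Cfsg.Agent.SM.O8.Two.Yb

open Subgroup Cfsg.Agent.Lib.MinNormal

variable {G : Type} [Group G]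

/-- commuting subgroups -/
def Cm (A B : Subgroup G) : Prop := ∀ a ∈ A, ∀ b ∈ B, a * b = b * a

/-- non-abelian simple -/
structure NS (L : Subgroup G) : Prop where
  simple : IsSimpleGroup L
  nab : ¬ IsMulCommutative L

/-- conjugates -/
abbrev cn (g : G) (L : Subgroup G) : Subgroup G := L.map (MulAut.conj g).toMonoidHom

/-- a non-trivial invariant elementary abelian subgroup -/
def Ab (Y : Subgroup G) : Prop :=
  ∃ (A : Subgroup G) (p : ℕ), A ≠ ⊥ ∧ Y ≤ normalizer (A : Set G) ∧ p.Prime ∧ (∀ x ∈ A, x ^ p = 1) ∧ Cm A A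

/-- a pair of commuting simple subgroups which is permuted by `Y` -/
structure Pr (Y L L' : Subgroup G) : Prop where
  le : L ≤ Y
  le' : L' ≤ Y
  ns : NS L
  ns' : NS L'
  cm : Cm L L'
  perm : ∀ g ∈ Y, (cn g L = L ∧ cn g L' = L') ∨ (cn g L = L' ∧ cn g L' = L)

theorem Cm.symm {A B : Subgroup G} (h : Cm A B) : Cm B A := fun b hb a ha => (h a ha b hb).symm

theorem Cm.map {H : Type} [Group H] {A B : Subgroup G} (h : Cm A B) (f : G →* H) : Cm (A.map f) (B.map f) := by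
  rintro _ ⟨a, ha, rfl⟩ _ ⟨b, hb, rfl⟩
  rw [← map_mul, ← map_mul, h a ha b hb]

theorem NS.map {H : Type} [Group H] {L : Subgroup G} (h : NS L) {f : G →* H} (hf : Function.Injective f) : NS (L.map f) := by
  have := h.simple
  let e := L.equivMapOfInjective f hf
  exact ⟨e.symm.isSimpleGroup, fun k => h.nab ⟨⟨fun a b => e.injective (by rw [map_mul, map_mul]; exact k.1.1 _ _)⟩⟩⟩

theorem NS.not_cm {L : Subgroup G} (h : NS L) : ¬ Cm L L := fun k => h.nab ⟨⟨fun a b => Subtype.ext (k a a.2 b b.2)⟩⟩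

theorem NS.le_of {L K : Subgroup G} (h : NS L) {z : G} (hz : z ∈ L) (hK : z ∈ K) (h1 : z ≠ 1)
    (hn : ∀ g ∈ L, ∀ x ∈ L, x ∈ K → g * x * g⁻¹ ∈ K) : L ≤ K := by
  have := h.simple
  have h2 : (K.subgroupOf L).Normal := ⟨fun x hx g => hn g g.2 x x.2 hx⟩
  refine subgroupOf_eq_top.1 (h2.eq_bot_or_eq_top.resolve_left fun e => h1 ?_)
  have h3 : (⟨z, hz⟩ : L) ∈ K.subgroupOf L := hK
  rw [e, mem_bot] at h3
  exact congrArg Subtype.val h3

theorem NS.cen {L : Subgroup G} (h : NS L) {z : G} (hz : z ∈ L) (hc : z ∈ centralizer (L : Set G)) : z = 1 :=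
  by_contra fun h1 => h.not_cm fun a ha b hb => mem_centralizer_iff.1 (h.le_of hz hc h1 (fun g hg x _ hx => by
    rw [mem_centralizer_iff.1 hx g hg, mul_inv_cancel_right]
    exact hx) hb) a ha

theorem NS.disj {L L' : Subgroup G} (h : NS L) (hc : Cm L L') : L ⊓ L' = ⊥ :=
  eq_bot_iff.2 fun z hz => h.cen hz.1 (mem_centralizer_iff.2 fun a ha => hc a ha z hz.2)

theorem prod {A B : Subgroup G} (hc : Cm A B) (hd : A ⊓ B = ⊥) :
    ∃ K : Subgroup G, Nat.card K = Nat.card A * Nat.card B ∧ ∀ x, x ∈ K ↔ ∃ a ∈ A, ∃ b ∈ B, a * b = x := by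
  let f : A × B →* G := A.subtype.noncommCoprod B.subtype fun a b => hc a a.2 b b.2
  have hf : Function.Injective f := (MonoidHom.noncommCoprod_injective _ _ _).2
    ⟨A.subtype_injective, B.subtype_injective, by rw [range_subtype, range_subtype]; exact disjoint_iff.2 hd⟩
  refine ⟨f.range, by rw [← Nat.card_congr (MonoidHom.ofInjective hf).toEquiv, Nat.card_prod], fun x => ⟨?_, ?_⟩⟩
  · rintro ⟨⟨a, b⟩, rfl⟩
    exact ⟨a, a.2, b, b.2, rfl⟩
  · rintro ⟨a, ha, b, hb, rfl⟩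
    exact ⟨(⟨a, ha⟩, ⟨b, hb⟩), rfl⟩

theorem prod_dvd {A B C : Subgroup G} (hc : Cm A B) (hd : A ⊓ B = ⊥) (hA : A ≤ C) (hB : B ≤ C) :
    Nat.card A * Nat.card B ∣ Nat.card C := by
  obtain ⟨K, h1, h2⟩ := prod hc hd
  rw [← h1]
  refine card_dvd_of_le fun x hx => ?_
  obtain ⟨a, ha, b, hb, rfl⟩ := (h2 x).1 hx
  exact mul_mem (hA ha) (hB hb)

theorem card_dvd_aut {Y L : Subgroup G} (h : Y ≤ normalizer (L : Set G)) :
    Nat.card Y ∣ Nat.card ↥(Y ⊓ centralizer (L : Set G)) * Nat.card (MulAut L) := by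
  let φ := L.normalizerMonoidHom.comp (inclusion h)
  have h1 : φ.ker = (Y ⊓ centralizer (L : Set G)).subgroupOf Y := by
    rw [← MonoidHom.comap_ker, normalizerMonoidHom_ker]
    ext x
    exact ⟨fun hx => ⟨x.2, hx⟩, fun hx => hx.2⟩
  rw [← φ.ker.card_mul_index, h1, Nat.card_congr (subgroupOfEquivOfLe inf_le_left).toEquiv, ← h1, index_ker]
  exact mul_dvd_mul_left _ (card_subgroup_dvd_card _)

theorem mem_normalizer_of {g : G} {L : Subgroup G} (h : cn g L = L) : g ∈ normalizer (L : Set G) :=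
  mem_normalizer_iff_map_conj_eq.2 h

theorem cn_le {Y L : Subgroup G} (h : L ≤ Y) {g : G} (hg : g ∈ Y) : cn g L ≤ Y := by
  rintro _ ⟨x, hx, rfl⟩
  exact mul_mem (mul_mem hg (h hx)) (inv_mem hg)

variable [Finite G]

theorem comp0 (M : Subgroup G) (hM : M.Normal) (h0 : M ≠ ⊥) :
    Ab (⊤ : Subgroup G) ∨ ∃ L ≤ M, NS L ∧ ∀ g : G, cn g L = L ∨ Cm L (cn g L) := by
  obtain ⟨N, hN, hNM, hN0, hmin⟩ := Lib.SubnormalJoin.exists_minimal_normal_le M hM h0
  obtain ⟨T, s, -, -, ⟨S, hS⟩, hI, hsup, hs⟩ := exists_set_decomposition N hN0 hmin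
  obtain ⟨h1, h2, h3, h4, h5⟩ := hs S hS
  by_cases hc : IsMulCommutative S
  · left
    have hp : (Nat.card S).Prime := by
      let _ : CommGroup S := { (inferInstance : Group S) with mul_comm := hc.1.1 }
      exact IsSimpleGroup.prime_card
    let A : Subgroup G :=
      { carrier := {x | x ∈ N ∧ (∀ y ∈ N, x * y = y * x) ∧ x ^ Nat.card S = 1}
        one_mem' := ⟨one_mem _, fun y _ => by rw [one_mul, mul_one], one_pow _⟩
        mul_mem' := fun {a b} ha hb => ⟨mul_mem ha.1 hb.1, fun y hy => by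
          rw [mul_assoc, hb.2.1 y hy, ← mul_assoc, ha.2.1 y hy, mul_assoc], by
          rw [Commute.mul_pow (ha.2.1 b hb.1), ha.2.2, hb.2.2, one_mul]⟩
        inv_mem' := fun {a} ha => ⟨inv_mem ha.1, fun y hy => (Commute.inv_left (ha.2.1 y hy)).eq, by
          rw [inv_pow, ha.2.2, inv_one]⟩ }
    have h6 : N ≤ centralizer (S : Set G) := by
      rw [← hsup]
      refine sSup_le fun R hR y hy => mem_centralizer_iff.2 fun x hx => ?_
      by_cases e : S = R
      · subst e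
        exact congrArg Subtype.val (hc.1.1 ⟨x, hx⟩ ⟨y, hy⟩)
      · exact commute_of_mem hI (fun R hR => (hs R hR).2.2.1) (fun R hR => (hs R hR).1) hS hR e hx hy
    have h7 : S ≤ A := fun x hx => ⟨h1 hx, fun y hy => mem_centralizer_iff.1 (h6 hy) x hx,
      congrArg Subtype.val (pow_card_eq_one' (x := (⟨x, hx⟩ : S)))⟩
    have h8 : A.Normal := ⟨fun x hx g => ⟨hN.conj_mem x hx.1 g, fun y hy => by
      have h9 := hx.2.1 _ (hN.conj_mem y hy g⁻¹)
      calc g * x * g⁻¹ * y = g * (x * (g⁻¹ * y * g⁻¹⁻¹)) * g⁻¹ := by group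
        _ = g * (g⁻¹ * y * g⁻¹⁻¹ * x) * g⁻¹ := by rw [h9]
        _ = y * (g * x * g⁻¹) := by group, by rw [conj_pow, hx.2.2, mul_one, mul_inv_cancel]⟩⟩
    exact ⟨A, _, fun e => h2 (eq_bot_iff.2 (e ▸ h7)), (normalizer_eq_top A).ge, hp, fun x hx => hx.2.2,
      fun a ha b hb => ha.2.1 b hb.1⟩
  · refine Or.inr ⟨S, h1.trans hNM, ⟨h5, hc⟩, fun g => ?_⟩
    have h6 := le_normalizer_map_conj h3 g
    rcases h4 (S ⊓ cn g S) inf_le_left (le_normalizer_inf h3 h6) with h7 | h7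
    · exact Or.inr fun a ha b hb => commute_of_disjoint (h1.trans h6)
        (((map_mono h1).trans (map_conj_normal g N).le).trans h3) (disjoint_iff.2 h7) ha hb
    · exact Or.inl (eq_of_le_of_card_ge (inf_eq_left.1 h7)
        (Nat.card_congr (S.equivMapOfInjective _ (MulAut.conj g).injective).toEquiv).ge).symm

omit [Finite G] in
theorem cn_map (Y : Subgroup G) (L : Subgroup Y) (g : Y) : cn (g : G) (L.map Y.subtype) = (cn g L).map Y.subtype :=
  (map_map _ _ _).trans (map_map L Y.subtype (MulAut.conj g).toMonoidHom).symm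

theorem comp {Y M : Subgroup G} (hM : M ≤ Y) (hn : ∀ g ∈ Y, ∀ x ∈ M, g * x * g⁻¹ ∈ M) (h0 : M ≠ ⊥) :
    Ab Y ∨ ∃ L ≤ M, NS L ∧ ∀ g ∈ Y, cn g L = L ∨ Cm L (cn g L) := by
  rcases comp0 (M.subgroupOf Y) ⟨fun x hx g => hn g g.2 x hx⟩ (fun e => h0 (by
    rw [← map_subgroupOf_eq_of_le hM, e, Subgroup.map_bot])) with ⟨A, p, h1, h2, h3, h4, h5⟩ | ⟨L, h1, h2, h3⟩
  · refine Or.inl ⟨A.map Y.subtype, p, fun e => h1 ((map_eq_bot_iff_of_injective A Y.subtype_injective).1 e),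
      fun g hg => mem_normalizer_of ?_, h3, ?_, h5.map _⟩
    · rw [cn_map Y A ⟨g, hg⟩]
      exact congrArg _ (mem_normalizer_iff_map_conj_eq.1 (h2 (mem_top _)))
    · rintro _ ⟨x, hx, rfl⟩
      rw [← map_pow, h4 x hx, map_one]
  · refine Or.inr ⟨L.map Y.subtype, map_le_iff_le_comap.2 h1, h2.map Y.subtype_injective, fun g hg => ?_⟩
    rw [cn_map Y L ⟨g, hg⟩]
    exact (h3 ⟨g, hg⟩).imp (congrArg _) fun h => h.map _

/-- **the structure** -/
theorem str {Y : Subgroup G} (hY : Y ≠ ⊥)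
    (h3 : ∀ A ≤ Y, ∀ B ≤ Y, ∀ C ≤ Y, NS A → NS B → NS C → Cm A B → Cm A C → Cm B C → False) :
    Ab Y ∨ (∃ L ≤ Y, NS L ∧ Y ≤ normalizer (L : Set G) ∧ Y ⊓ centralizer (L : Set G) = ⊥) ∨ ∃ L L', Pr Y L L' := by
  rcases comp le_rfl (fun g hg x hx => mul_mem (mul_mem hg hx) (inv_mem hg)) hY with h | ⟨L, h1, h2, h4⟩
  · exact Or.inl h
  by_cases hn : ∀ g ∈ Y, cn g L = L
  · by_cases hc : Y ⊓ centralizer (L : Set G) = ⊥
    · exact Or.inr (Or.inl ⟨L, h1, h2, fun g hg => mem_normalizer_of (hn g hg), hc⟩)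
    rcases comp (Y := Y) inf_le_left (fun g hg x hx => ⟨Y.mul_mem (Y.mul_mem hg hx.1) (Y.inv_mem hg),
      mem_centralizer_iff.2 fun y hy => by
        have h5 : g⁻¹ * y * g⁻¹⁻¹ ∈ L := (hn g⁻¹ (Y.inv_mem hg)).le ⟨y, hy, rfl⟩
        have h6 := mem_centralizer_iff.1 hx.2 _ h5
        calc y * (g * x * g⁻¹) = g * (g⁻¹ * y * g⁻¹⁻¹ * x) * g⁻¹ := by group
          _ = g * (x * (g⁻¹ * y * g⁻¹⁻¹)) * g⁻¹ := by rw [h6]
          _ = g * x * g⁻¹ * y := by group⟩) hc with h | ⟨L', h5, h6, h7⟩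
    · exact Or.inl h
    have h8 : Cm L L' := fun a ha b hb => mem_centralizer_iff.1 (h5 hb).2 a ha
    have h9 : L' ≤ Y := h5.trans inf_le_left
    refine Or.inr (Or.inr ⟨L, L', h1, h9, h2, h6, h8, fun g hg => Or.inl ⟨hn g hg, (h7 g hg).resolve_right fun h => ?_⟩⟩)
    have h10 : Cm (cn g L) (cn g L') := h8.map _
    rw [hn g hg] at h10
    exact h3 L h1 L' h9 _ (cn_le h9 hg) h2 h6 (h6.map (MulAut.conj g).injective) h8 h10 h
  · push Not at hn
    obtain ⟨t, ht, hne⟩ := hn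
    have h5 := (h4 t ht).resolve_left hne
    have key : ∀ g ∈ Y, cn g L = L ∨ cn g L = cn t L := fun g hg => (h4 g hg).imp_right fun h6 => by
      have e : cn t (cn (t⁻¹ * g) L) = cn g L := (map_conj_map_conj _ _ _).trans (by rw [mul_inv_cancel_left])
      rcases h4 _ (mul_mem (inv_mem ht) hg) with h7 | h7
      · rw [← e, h7]
      · have h8 : Cm (cn t L) (cn t (cn (t⁻¹ * g) L)) := h7.map _
        rw [e] at h8
        exact (h3 L h1 _ (cn_le h1 ht) _ (cn_le h1 hg) h2 (h2.map (MulAut.conj t).injective)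
          (h2.map (MulAut.conj g).injective) h5 h6 h8).elim
    refine Or.inr (Or.inr ⟨L, cn t L, h1, cn_le h1 ht, h2, h2.map (MulAut.conj t).injective, h5, fun g hg => ?_⟩)
    have h6 : cn g L ≠ cn g (cn t L) := fun e => hne (map_injective (MulAut.conj g).injective e).symm
    have h7 := key _ (mul_mem hg ht)
    rw [cn, ← map_conj_map_conj] at h7
    rcases key g hg with h8 | h8
    · exact Or.inl ⟨h8, h7.resolve_left fun e => h6 (h8.trans e.symm)⟩
    · exact Or.inr ⟨h8, h7.resolve_right fun e => h6 (h8.trans e.symm)⟩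

end Cfsg.Agent.SM.O8.Two.Yb
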