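import Cfsg.Agent.SM.O8.Two.Defs
import Cfsg.Agent.SM.O8.Two.YA
import Cfsg.Agent.H320.O8.Arith
import Cfsg.Agent.H951.Lin

/-!
# SM (S3570), socle `Ω⁺₈(2)`: the proper subgroups of order divisible by five, `boxY_of` (helper39)
-/

set_option autoImplicit false
set_option linter.unusedSectionVars false

namespace Cfsg.Agent.SM.O8.Two

open Module Subgroup
open Cfsg.Agent.StdO8.Model (V q B O8 Om)
open Cfsg.Agent.H951 (fx cm Inv mem_fx mem_cm)
open Cfsg.Agent.H320.O8 (Fct card_eq_pow)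

namespace Yb

theorem fct : Fct Om := by
  obtain ⟨e⟩ := StdO8.Model.exists_equiv (F := ZMod 2) (ZMod.card 2)
  exact Fct.congr e.symm (H320.O8.fct_T (ZMod.card 2))

instance finOm : Finite Om := fct.finite

instance fact5 : Fact (Nat.Prime 5) := ⟨by norm_num⟩

/-- the linear map -/
abbrev en (g : Om) : Module.End (ZMod 2) V := (g : V ≃ₗ[ZMod 2] V)

theorem ap_mul (a b : Om) (v : V) : ap (a * b) v = ap a (ap b v) := rfl

theorem en_mul (a b : Om) : en (a * b) = en a * en b := rfl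

theorem en_five {f : Om} (hf : orderOf f = 5) : en f ^ 5 = 1 := by
  have h : ∀ n : ℕ, en (f ^ n) = en f ^ n := fun n => by
    induction n with
    | zero => rfl
    | succ n ih => rw [pow_succ, pow_succ, en_mul, ih]
  rw [← h, ← hf, pow_orderOf_eq_one]
  rfl

theorem five_ne : ((5 : ℕ) : ZMod 2) ≠ 0 := by decide

theorem fx_four (hC : BoxC5) {f : Om} (hf : orderOf f = 5) (hv : fx (en f) ≠ ⊥) :
    finrank (ZMod 2) (fx (en f)) = 4 ∧ finrank (ZMod 2) (cm (en f)) = 4 := by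
  have h1 : nf f = 2 ^ finrank (ZMod 2) (fx (en f)) := by
    rw [← card_eq_pow]
    exact Nat.card_congr (Equiv.subtypeEquivRight fun v => (mem_fx (x := en f)).symm)
  have h2 : finrank (ZMod 2) (fx (en f)) + finrank (ZMod 2) (cm (en f)) = 8 :=
    (H951.finrank_fx_add_cm five_ne (en_five hf)).trans (by simp)
  have h3 : finrank (ZMod 2) (fx (en f)) ≠ 0 := fun e => hv (Submodule.finrank_eq_zero.1 e)
  have h4 : finrank (ZMod 2) (fx (en f)) = 4 := by
    rcases (hC.1 f hf).1 with h | h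
    · exact absurd (Nat.pow_right_injective le_rfl (h1.symm.trans h : 2 ^ _ = 2 ^ 0)) h3
    · exact Nat.pow_right_injective le_rfl (h1.symm.trans h : 2 ^ _ = 2 ^ 4)
  omega

theorem ap_cm {a f : Om} (h : a * f = f * a) {w : V} (hw : w ∈ cm (en f)) : ap a w ∈ cm (en f) := by
  obtain ⟨u, rfl⟩ := mem_cm.1 hw
  refine mem_cm.2 ⟨ap a u, ?_⟩
  change ap (f * a) u - _ = _
  rw [← h]
  exact (map_sub (en a) _ _).symm

/-- the centraliser of `f` acts on `[V, f]` as an abelian group -/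
theorem comm_cm (hC : BoxC5) {f : Om} (hf : orderOf f = 5) (hv : fx (en f) ≠ ⊥) {a b : Om} (ha : a * f = f * a)
    (hb : b * f = f * b) {w : V} (hw : w ∈ cm (en f)) : ap (a * b) w = ap (b * a) w := by
  by_cases h0 : w = 0
  · rw [h0]
    exact (map_zero (en (a * b))).trans (map_zero (en (b * a))).symm
  let S := Submodule.span (ZMod 2) (Set.range fun n : ℕ => (en f ^ n) w)
  have h1 : S ≤ cm (en f) := Submodule.span_le.2 (by
    rintro _ ⟨n, rfl⟩
    exact H951.inv_cm.pow n w hw)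
  have h2 : Inv (en f) S := H951.inv_iff_map.2 (by
    rw [Submodule.map_span]
    refine Submodule.span_mono ?_
    rintro _ ⟨_, ⟨n, rfl⟩, rfl⟩
    exact ⟨n + 1, by change (en f ^ (n + 1)) w = _; rw [pow_succ']; rfl⟩)
  have h3 := H951.ord_dvd_finrank (en_five hf) h2 (H951.inf_fx_of_le_cm five_ne (en_five hf) h1)
  have h4 : orderOf ((Fintype.card (ZMod 2) : ℕ) : ZMod 5) = 2 ^ (1 + 1) := by
    rw [ZMod.card]
    exact orderOf_eq_prime_pow (by decide) (by decide)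
  have h5 : finrank (ZMod 2) S ≠ 0 := fun e => h0 (by
    have h6 : w ∈ S := Submodule.subset_span ⟨0, rfl⟩
    rwa [Submodule.finrank_eq_zero.1 e, Submodule.mem_bot] at h6)
  rw [h4] at h3
  have h6 : S = cm (en f) := Submodule.eq_of_le_of_finrank_le h1 (by
    rw [(fx_four hC hf hv).2]
    exact Nat.le_of_dvd (Nat.pos_of_ne_zero h5) h3)
  have key : ∀ u ∈ S, ∃ T : Module.End (ZMod 2) V, (∀ R, R * en f = en f * R → R * T = T * R) ∧ T w = u := fun u hu => by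
    induction hu using Submodule.span_induction with
    | mem x hx =>
      obtain ⟨n, rfl⟩ := hx
      exact ⟨en f ^ n, fun R hR => (Commute.pow_right hR n).eq, rfl⟩
    | zero => exact ⟨0, fun R _ => by rw [mul_zero, zero_mul], rfl⟩
    | add x y _ _ hx hy =>
      obtain ⟨T, h7, rfl⟩ := hx
      obtain ⟨T', h8, rfl⟩ := hy
      exact ⟨T + T', fun R hR => by rw [mul_add, add_mul, h7 R hR, h8 R hR], rfl⟩
    | smul c x _ hx =>
      obtain ⟨T, h7, rfl⟩ := hx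
      exact ⟨c • T, fun R hR => by rw [mul_smul_comm, smul_mul_assoc, h7 R hR], rfl⟩
  obtain ⟨T, h7, h8⟩ := key _ (h6 ▸ ap_cm ha hw)
  obtain ⟨T', h9, h10⟩ := key _ (h6 ▸ ap_cm hb hw)
  have h11 := LinearMap.congr_fun (h9 (en a) (congrArg en ha)) w
  have h12 := LinearMap.congr_fun (h7 (en b) (congrArg en hb)) w
  have h13 := LinearMap.congr_fun (h7 T' (h9 _ rfl).symm) w
  simp only [Module.End.mul_apply] at h11 h12 h13
  change en a (ap b w) = en b (ap a w)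
  rw [← h10, ← h8, h11, h12]
  change T' (ap a w) = T (ap b w)
  rw [← h8, ← h10, h13]

/-- the vectors fixed by `L` -/
def Fi (L : Subgroup Om) (v : V) : Prop := ∀ g ∈ L, ap g v = v

theorem fix_cm (hC : BoxC5) {f : Om} (hf : orderOf f = 5) (hv : fx (en f) ≠ ⊥) {L : Subgroup Om} (hL : NS L)
    (hc : ∀ g ∈ L, g * f = f * g) {w : V} (hw : w ∈ cm (en f)) : Fi L w := by
  let K : Subgroup Om :=
    { carrier := {g | ∀ w ∈ cm (en f), ap g w = w}
      one_mem' := fun _ _ => rfl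
      mul_mem' := fun {a b} ha hb w hw => by rw [ap_mul, hb w hw, ha w hw]
      inv_mem' := fun {a} ha w hw => by
        conv_lhs => rw [← ha w hw, ← ap_mul, inv_mul_cancel]
        rfl }
  obtain ⟨a, ha, b, hb, hab⟩ : ∃ a ∈ L, ∃ b ∈ L, a * b ≠ b * a := by
    by_contra h
    push Not at h
    exact hL.not_cm h
  have h1 : L ≤ K := hL.le_of (z := (b * a)⁻¹ * (a * b)) (mul_mem (inv_mem (mul_mem hb ha)) (mul_mem ha hb))
    (fun w hw => by
      rw [ap_mul, comm_cm hC hf hv (hc a ha) (hc b hb) hw, ← ap_mul, inv_mul_cancel]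
      rfl) (fun e => hab (inv_mul_eq_one.1 e).symm) fun g hg x _ hx w hw => by
      rw [ap_mul, ap_mul, hx _ (ap_cm (hc _ (inv_mem hg)) hw), ← ap_mul, mul_inv_cancel]
      rfl
  exact fun g hg => h1 hg w hw

theorem fx_eq (hC : BoxC5) {f f' : Om} (hf : orderOf f = 5) (hf' : orderOf f' = 5) (hv : fx (en f) ≠ ⊥) {L : Subgroup Om}
    (hL : NS L) (hc : ∀ g ∈ L, g * f = f * g) (hm : f' ∈ L) :
    fx (en f') ≠ ⊥ ∧ cm (en f) = fx (en f') ∧ ∀ v, v ∈ fx (en f') ↔ Fi L v := by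
  have h1 : cm (en f) ≤ fx (en f') := fun w hw => mem_fx.2 (fix_cm hC hf hv hL hc hw f' hm)
  have h2 := (fx_four hC hf hv).2
  have h3 : fx (en f') ≠ ⊥ := fun e => by
    rw [eq_bot_iff.2 (e ▸ h1 : cm (en f) ≤ ⊥), finrank_bot] at h2
    omega
  have h4 := Submodule.eq_of_le_of_finrank_le h1 (by rw [h2, (fx_four hC hf' h3).1])
  exact ⟨h3, h4, fun v => ⟨fun h => fix_cm hC hf hv hL hc (h4 ▸ h), fun h => mem_fx.2 (h f' hm)⟩⟩

theorem fix_of_pow {f b : Om} (hf : orderOf f = 5) (hb : b ∈ zpowers f) (h1 : b ≠ 1) {v : V} (hv : ap b v = v) :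
    ap f v = v := by
  have h2 : (⟨f, mem_zpowers f⟩ : zpowers f) ∈ zpowers (⟨b, hb⟩ : zpowers f) :=
    mem_zpowers_of_prime_card (p := 5) (by rw [Nat.card_zpowers, hf]) fun e => h1 (congrArg Subtype.val e)
  obtain ⟨k, hk⟩ := mem_zpowers_iff.1 h2
  have h3 : b ^ k ∈ MulAction.stabilizer Om v := zpow_mem (show b ∈ MulAction.stabilizer Om v from hv) k
  have h4 : b ^ k = f := congrArg Subtype.val hk
  rwa [h4] at h3

theorem pow_fix {f b : Om} (hb : b ∈ zpowers f) {v : V} (hv : ap f v = v) : ap b v = v :=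
  zpowers_le.2 (show f ∈ MulAction.stabilizer Om v from hv) hb

theorem geo (hC : BoxC5) {L L' : Subgroup Om} (hL : NS L) (hL' : NS L') (hc : Cm L L') {f f' : Om} (hf : orderOf f = 5)
    (hf' : orderOf f' = 5) (hm : f ∈ L) (hm' : f' ∈ L') (hv : fx (en f) ≠ ⊥) :
    ∃ P : Subgroup Om, Nat.card P = 25 ∧ ∀ v, v ∈ Z5 P ↔ Fi L v ∨ Fi L' v := by
  obtain ⟨h1, h2, h3⟩ := fx_eq hC hf hf' hv hL' (fun g hg => (hc f hm g hg).symm) hm'
  obtain ⟨-, -, h4⟩ := fx_eq hC hf' hf h1 hL (fun g hg => hc g hg f' hm') hm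
  have h5 := H951.isCompl_fx_cm five_ne (en_five hf)
  rw [h2] at h5
  have hz : zpowers f ≤ L := zpowers_le.2 hm
  have hz' : zpowers f' ≤ L' := zpowers_le.2 hm'
  obtain ⟨P, h6, h7⟩ := prod (A := zpowers f) (B := zpowers f') (fun a ha b hb => hc a (hz ha) b (hz' hb))
    (eq_bot_iff.2 ((inf_le_inf hz hz').trans (hL.disj hc).le))
  refine ⟨P, by rw [h6, Nat.card_zpowers, Nat.card_zpowers, hf, hf'], fun v => ⟨?_, ?_⟩⟩
  · rintro ⟨g, hg, hg1, hgv⟩
    obtain ⟨a, ha, b, hb, rfl⟩ := (h7 g).1 hg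
    by_cases hb1 : b = 1
    · rw [hb1, mul_one] at hg1 hgv
      exact Or.inl ((h4 v).1 (mem_fx.2 (fix_of_pow hf ha hg1 hgv)))
    obtain ⟨u, hu, w, hw, rfl⟩ := Submodule.mem_sup.1 (h5.sup_eq_top ▸ Submodule.mem_top : v ∈ fx (en f) ⊔ fx (en f'))
    have h8 : ap b u ∈ fx (en f) := mem_fx.2 (by
      change ap (f * b) u = _
      rw [hc f hm b (hz' hb), ap_mul, show ap f u = u from mem_fx.1 hu])
    have h9 : ap a w ∈ fx (en f') := h2 ▸ ap_cm (Commute.zpow_left rfl ha.choose |>.eq |> fun e => ha.choose_spec ▸ e) (h2 ▸ hw)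
    have h10 : ap b u + ap a w = u + w := by
      rw [← hgv, ap_mul]
      change _ = en a (en b (u + w))
      rw [map_add, map_add, show en b w = w from pow_fix hb (mem_fx.1 hw), show en a (en b u) = ap b u from
        pow_fix ha (mem_fx.1 h8)]
      rfl
    have h11 : ap b u - u ∈ fx (en f) ⊓ fx (en f') := ⟨sub_mem h8 hu, by
      rw [show ap b u - u = w - ap a w by rw [sub_eq_sub_iff_add_eq_add, h10, add_comm]]
      exact sub_mem hw h9⟩
    rw [h5.inf_eq_bot, Submodule.mem_bot, sub_eq_zero] at h11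
    have h12 : u ∈ fx (en f) ⊓ fx (en f') := ⟨hu, mem_fx.2 (fix_of_pow hf' hb hb1 h11)⟩
    rw [h5.inf_eq_bot, Submodule.mem_bot] at h12
    rw [h12, zero_add]
    exact Or.inr ((h3 w).1 hw)
  · have h8 : ∀ {x : Om}, orderOf x = 5 → x ≠ 1 := fun h e => by
      rw [e, orderOf_one] at h
      omega
    rintro (h | h)
    · exact ⟨f, (h7 f).2 ⟨f, mem_zpowers f, 1, one_mem _, mul_one f⟩, h8 hf, h f hm⟩
    · exact ⟨f', (h7 f').2 ⟨1, one_mem _, f', mem_zpowers f', one_mul f'⟩, h8 hf', h f' hm'⟩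

theorem exists_elt {L : Subgroup Om} {p : ℕ} (hp : p.Prime) (h : p ∣ Nat.card L) : ∃ f ∈ L, orderOf f = p := by
  have := Fact.mk hp
  obtain ⟨x, hx⟩ := exists_prime_orderOf_dvd_card' p h
  exact ⟨x, x.2, by rw [orderOf_coe, hx]⟩

theorem le_cent {L L' : Subgroup Om} (hc : Cm L L') {f : Om} (hf : f ∈ L) : L' ≤ centralizer ({f} : Set Om) :=
  fun b hb => mem_centralizer_singleton_iff.2 (hc f hf b hb).symm

theorem five_dvd (hL : BoxList) {L L' : Subgroup Om} (h0 : L ≠ ⊤) (h0' : L' ≠ ⊤) (h : NS L) (h' : NS L') (hc : Cm L L') :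
    5 ∣ Nat.card L := by
  obtain ⟨⟨x, hx, h1, -⟩, -⟩ := hL L h0 h.simple h.nab
  obtain ⟨⟨y, hy, h2, -⟩, -⟩ := hL L' h0' h'.simple h'.nab
  have h3 : ∀ x ∈ tab, 5 ∣ x.1 ∨ 7 ∣ x.1 := by decide
  have h4 : ∀ x ∈ tab, ¬ x.1 ∣ 7 := by decide
  refine h1 ▸ (h3 x hx).resolve_right fun h5 => h4 y hy ?_
  obtain ⟨f, hf, h6⟩ := exists_elt (by norm_num) (h1 ▸ h5 : 7 ∣ Nat.card L)
  rw [← h2, ← fct.c7 f h6]
  exact card_dvd_of_le (le_cent hc hf)

theorem sixty (hC : BoxC5) (hL : BoxList) {L L' : Subgroup Om} (h0 : L ≠ ⊤) (h0' : L' ≠ ⊤) (h : NS L) (h' : NS L')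
    (hc : Cm L L') : Nat.card L' = 60 ∧ Nat.card (MulAut L') ∣ 120 := by
  obtain ⟨f, hf, h1⟩ := exists_elt (by norm_num) (five_dvd hL h0 h0' h h' hc)
  obtain ⟨⟨y, hy, h2, h3⟩, -⟩ := hL L' h0' h'.simple h'.nab
  have h4 : ∀ x ∈ tab, x.1 ∣ 300 → x = (60, 120) := by decide
  obtain rfl := h4 y hy (h2 ▸ (card_dvd_of_le (le_cent hc hf)).trans (hC.1 f h1).2.1)
  exact ⟨h2, h3⟩

theorem case_ab (hC : BoxC5) (h2 : BoxTwo) (h3 : BoxThree) {Y : Subgroup Om} (h5 : 5 ∣ Nat.card Y) (h : Ab Y) :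
    SR Y ∨ Nat.card Y ∣ 1200 ∨ Nat.card Y ∣ 800 := by
  obtain ⟨A, p, h0, hn, hp, he, hc⟩ := h
  have := Fact.mk hp
  have hP : IsPGroup p A := fun x => ⟨1, Subtype.ext (by rw [pow_one]; exact he x x.2)⟩
  obtain ⟨k, hk⟩ := hP.exists_card_eq
  have hk0 : k ≠ 0 := by
    rintro rfl
    exact h0 (card_eq_one.1 hk)
  have h1 : p ^ k ∣ 2 ^ 12 * 3 ^ 5 * 5 ^ 2 * 7 := by
    rw [← hk, show 2 ^ 12 * 3 ^ 5 * 5 ^ 2 * 7 = 174182400 by norm_num, ← fct.card]
    exact card_subgroup_dvd_card A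
  have h4 : p ∣ 2 ^ 12 * 3 ^ 5 * 5 ^ 2 * 7 := (dvd_pow_self p hk0).trans h1
  have h6 : p = 2 ∨ p = 3 ∨ p = 5 ∨ p = 7 := by
    rcases (hp.dvd_mul.1 h4).imp_left hp.dvd_mul.1 with (h | h) | h
    · rcases hp.dvd_mul.1 h with h | h
      · exact Or.inl ((Nat.prime_dvd_prime_iff_eq hp (by norm_num)).1 (hp.dvd_of_dvd_pow h))
      · exact Or.inr (Or.inl ((Nat.prime_dvd_prime_iff_eq hp (by norm_num)).1 (hp.dvd_of_dvd_pow h)))
    · exact Or.inr (Or.inr (Or.inl ((Nat.prime_dvd_prime_iff_eq hp (by norm_num)).1 (hp.dvd_of_dvd_pow h))))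
    · exact Or.inr (Or.inr (Or.inr ((Nat.prime_dvd_prime_iff_eq hp (by norm_num)).1 h)))
  rcases h6 with rfl | rfl | rfl | rfl
  · exact Or.inl (h2 Y A h0 hP hn h5).sr
  · exact Or.inl (h3 Y A h0 he hc hn h5)
  · have h7 : k < 3 := by
      by_contra h8
      exact absurd ((pow_dvd_pow 5 (by omega : 3 ≤ k)).trans h1) (by norm_num)
    obtain rfl | rfl : k = 1 ∨ k = 2 := by omega
    · obtain ⟨f, hf, h8⟩ := exists_elt hp (hk ▸ dvd_pow_self 5 hk0 : 5 ∣ Nat.card A)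
      have : IsCyclic A := isCyclic_of_prime_card (p := 5) hk
      have h9 := card_dvd_aut hn
      rw [IsCyclic.card_mulAut, hk] at h9
      have h10 : Y ⊓ centralizer (A : Set Om) ≤ centralizer ({f} : Set Om) :=
        inf_le_right.trans (centralizer_le (Set.singleton_subset_iff.2 hf))
      exact Or.inr (Or.inl (h9.trans (mul_dvd_mul ((card_dvd_of_le h10).trans (hC.1 f h8).2.1)
        (by decide : Nat.totient (5 ^ 1) ∣ 4))))
    · exact Or.inr (Or.inr ((card_dvd_of_le hn).trans (hC.2.2 A hk).1))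
  · have h7 : k < 2 := by
      by_contra h8
      exact absurd ((pow_dvd_pow 7 (by omega : 2 ≤ k)).trans h1) (by norm_num)
    obtain rfl : k = 1 := by omega
    exact absurd ((h5.trans (card_dvd_of_le hn)).trans ((fct.sub (MonoidHom.id Om) fun _ _ e => e).card_normalizer hk))
      (by norm_num)

theorem sr_of {Y L : Subgroup Om} (hle : L ≤ Y) (hn : Y ≤ normalizer (L : Set Om)) (hd : Nat.card Y ∣ Nat.card L * 2)
    (hF : FixM L) : SR Y := by
  obtain ⟨α, v, h0, hv⟩ := hF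
  refine ⟨α, v, h0, fun g hg h5 => hv g ?_⟩
  have : (L.subgroupOf Y).Normal := (normal_subgroupOf_iff_le_normalizer hle).2 hn
  have h1 := (L.subgroupOf Y).card_mul_index
  rw [Nat.card_congr (subgroupOfEquivOfLe hle).toEquiv] at h1
  obtain ⟨c, hc⟩ := Nat.dvd_of_mul_dvd_mul_left Nat.card_pos (h1 ▸ hd)
  have h2 : g ^ (L.subgroupOf Y).index ∈ L := (L.subgroupOf Y).pow_index_mem ⟨g, hg⟩
  have h3 : g = ((g ^ (L.subgroupOf Y).index) ^ c) ^ 3 := by
    rw [← pow_mul g, ← hc, ← pow_mul, show 2 * 3 = 5 + 1 from rfl, pow_succ, h5, one_mul]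
  rw [h3]
  exact pow_mem (pow_mem h2 c) 3

theorem case_pr (hC : BoxC5) (hN : BoxNt) (hL : BoxList) {Y L L' : Subgroup Om} (hY : Y ≠ ⊤) (h : Pr Y L L') : Dt Y := by
  have h0 : L ≠ ⊤ := fun e => hY (top_le_iff.1 (e ▸ h.le))
  have h0' : L' ≠ ⊤ := fun e => hY (top_le_iff.1 (e ▸ h.le'))
  obtain ⟨h1, -⟩ := sixty hC hL h0' h0 h.ns' h.ns h.cm.symm
  obtain ⟨h2, h3⟩ := sixty hC hL h0 h0' h.ns h.ns' h.cm
  obtain ⟨f, hf, h4⟩ := exists_elt (L := L) (p := 5) (by norm_num) (by rw [h1]; norm_num)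
  obtain ⟨f', hf', h5⟩ := exists_elt (L := L') (p := 5) (by norm_num) (by rw [h2]; norm_num)
  refine ⟨?_, ?_, ?_⟩
  · have h6 : centralizer (L' : Set Om) ≤ centralizer ({f'} : Set Om) := centralizer_le (Set.singleton_subset_iff.2 hf')
    have h7 : 60 ∣ Nat.card (centralizer (L' : Set Om)) :=
      h1 ▸ card_dvd_of_le fun a ha => mem_centralizer_iff.2 fun b hb => (h.cm a ha b hb).symm
    have h8 := (hC.1 f' h5).2.1
    have h9 : Nat.card (centralizer (L' : Set Om)) ≠ 300 := fun e => by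
      have h10 := eq_of_le_of_card_ge h6 (e ▸ Nat.le_of_dvd (by norm_num) h8)
      have h11 := h.ns'.cen hf' (h10 ▸ mem_centralizer_singleton_iff.2 rfl)
      rw [h11, orderOf_one] at h5
      omega
    have h10 : Nat.card (centralizer (L' : Set Om)) = 60 := by
      obtain ⟨c, hc⟩ := h7
      have h11 := (card_dvd_of_le h6).trans h8
      rw [hc] at h9 h11 ⊢
      have h12 : c ∣ 5 := Nat.dvd_of_mul_dvd_mul_left (by norm_num : 0 < 60) h11
      rcases (Nat.dvd_prime (by norm_num)).1 h12 with rfl | rfl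
      · rfl
      · exact absurd rfl h9
    have h11 := card_dvd_aut (Y := Y ⊓ normalizer (L' : Set Om)) inf_le_right
    have h12 : Nat.card ↥(Y ⊓ normalizer (L' : Set Om)) ∣ 60 * 120 :=
      h11.trans (mul_dvd_mul (h10 ▸ card_dvd_of_le inf_le_right) h3)
    have h13 : ((Y ⊓ normalizer (L' : Set Om)).subgroupOf Y).index ∣ 2 := by
      rw [index_dvd_two_iff]
      by_cases hn : ∀ g ∈ Y, cn g L' = L'
      · exact ⟨1, fun b => Or.inr ⟨b.2, mem_normalizer_of (hn b b.2)⟩⟩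
      · push Not at hn
        obtain ⟨t, ht, hne⟩ := hn
        have h14 := ((h.perm t ht).resolve_left fun e => hne e.2).2
        refine ⟨⟨t, ht⟩, fun b => ?_⟩
        rcases h.perm b b.2 with h15 | h15
        · exact Or.inr ⟨b.2, mem_normalizer_of h15.2⟩
        · refine Or.inl ⟨Y.mul_mem b.2 ht, mem_normalizer_of ?_⟩
          refine (Lib.MinNormal.map_conj_map_conj (b : Om) t L').symm.trans ?_
          exact (congrArg (cn (b : Om)) h14).trans h15.1
    rw [← ((Y ⊓ normalizer (L' : Set Om)).subgroupOf Y).card_mul_index,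
      Nat.card_congr (subgroupOfEquivOfLe inf_le_left).toEquiv]
    exact mul_dvd_mul h12 h13
  · have h6 := prod_dvd h.cm (h.ns.disj h.cm) h.le h.le'
    rwa [h1, h2] at h6
  · obtain ⟨α, v, hv0, hv⟩ := hN.1 f h4
    obtain ⟨P, h6, h7⟩ := geo hC (h.ns.map (f := α.toMonoidHom) α.injective) (h.ns'.map (f := α.toMonoidHom) α.injective)
      (h.cm.map _) (f := α f) (f' := α f') ((α.orderOf_eq f).trans h4) ((α.orderOf_eq f').trans h5) ⟨f, hf, rfl⟩
      ⟨f', hf', rfl⟩ ((Submodule.ne_bot_iff _).2 ⟨v, mem_fx.2 hv, hv0⟩)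
    have h8 : ∀ (g : Om) (A : Subgroup Om) (v : V), Fi (im α A) v → Fi (im α (cn g A)) (ap (α g) v) := by
      rintro g A v hv _ ⟨_, ⟨x, hx, rfl⟩, rfl⟩
      change ap (α (g * x * g⁻¹) * α g) v = _
      rw [← map_mul, inv_mul_cancel_right, map_mul, ap_mul, hv (α x) ⟨x, hx, rfl⟩]
    have h9 : ∀ g ∈ Y, ∀ v, v ∈ Z5 P → ap (α g) v ∈ Z5 P := fun g hg v hv => by
      rw [h7] at hv ⊢
      rcases h.perm g hg with ⟨e, e'⟩ | ⟨e, e'⟩
      · exact hv.imp (fun k => e ▸ h8 g L v k) fun k => e' ▸ h8 g L' v k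
      · exact hv.symm.imp (fun k => e' ▸ h8 g L' v k) fun k => e ▸ h8 g L v k
    refine ⟨α, P, h6, ?_⟩
    rintro _ ⟨g, hg, rfl⟩ v
    refine ⟨h9 g hg v, fun hv => ?_⟩
    have h10 := h9 g⁻¹ (inv_mem hg) _ hv
    change ap (α g⁻¹ * α g) v ∈ _ at h10
    rwa [← map_mul, inv_mul_cancel, map_one] at h10

end Yb

open Yb

/-- **the proper subgroups of order divisible by five** -/
theorem boxY_of (hC : BoxC5) (hN : BoxNt) (h2 : BoxTwo) (h3 : BoxThree) (hA : BoxA78) (hU : BoxU) (hS : BoxS)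
    (hL : BoxList) : BoxY := by
  intro Y hY h5
  have h0 : ∀ A ≤ Y, A ≠ ⊤ := fun A hA e => hY (top_le_iff.1 (e ▸ hA))
  rcases str (Y := Y) (fun e => by rw [e, card_bot] at h5; omega) (fun A hA B hB C hC' h6 h7 h8 h9 h10 h11 => by
    obtain ⟨f, hf, h12⟩ := exists_elt (by norm_num) (five_dvd hL (h0 A hA) (h0 B hB) h6 h7 h9)
    have h13 := (prod_dvd h11 (h7.disj h11) (le_cent h9 hf) (le_cent h10 hf)).trans (hC.1 f h12).2.1
    rw [(sixty hC hL (h0 A hA) (h0 B hB) h6 h7 h9).1, (sixty hC hL (h0 A hA) (h0 C hC') h6 h8 h10).1] at h13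
    exact absurd h13 (by norm_num)) with h | ⟨L, h6, h7, h8, h9⟩ | ⟨L, L', h⟩
  · rcases case_ab hC h2 h3 h5 h with h | h | h
    · exact Or.inl h
    · exact Or.inr (Or.inl h)
    · exact Or.inr (Or.inr (Or.inl h))
  · obtain ⟨⟨x, hx, h10, h11⟩, h12, h13, h14⟩ := hL L (h0 L h6) h7.simple h7.nab
    have h15 := card_dvd_aut h8
    rw [h9, card_bot, one_mul] at h15
    have h16 := h15.trans h11
    simp only [tab, List.mem_cons, List.not_mem_nil, or_false] at hx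
    rcases hx with rfl | rfl | rfl | rfl | rfl | rfl | rfl | rfl | rfl | rfl
    · exact Or.inr (Or.inl (h16.trans (by norm_num)))
    · exact absurd (h5.trans h16) (by norm_num)
    · exact Or.inr (Or.inr (Or.inr (Or.inl h16)))
    · exact absurd (h5.trans h16) (by norm_num)
    · exact Or.inl (sr_of h6 h8 (h10 ▸ h16) (hA L (Or.inl (h12 h10))))
    · exact absurd (h5.trans h16) (by norm_num)
    · exact Or.inl (sr_of h6 h8 (h10 ▸ h16) (hA L (Or.inr (h13 h10))))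
    · exact Or.inl (sr_of h6 h8 (h10 ▸ h16) (hU L h7.simple h10))
    · obtain ⟨c, hc⟩ := card_dvd_of_le h6
      rw [h10] at hc
      have h17 : c ∣ 2 := Nat.dvd_of_mul_dvd_mul_left (by norm_num : 0 < 181440) (hc ▸ h16)
      rcases (Nat.dvd_prime Nat.prime_two).1 h17 with rfl | rfl
      · obtain rfl : L = Y := eq_of_le_of_card_ge h6 (by rw [hc, h10, mul_one])
        exact Or.inr (Or.inr (Or.inr (Or.inr (Or.inr (Or.inr ⟨h10, h14 h10⟩)))))
      · exact Or.inr (Or.inr (Or.inr (Or.inr (Or.inr (Or.inl hc)))))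
    · exact Or.inl (sr_of h6 h8 (h16.trans (h10 ▸ dvd_mul_right _ 2)) (hS L h7.simple h10))
  · exact Or.inr (Or.inr (Or.inr (Or.inr (Or.inl (case_pr hC hN hL hY h)))))

end Cfsg.Agent.SM.O8.Two
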