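import Cfsg.Agent.SM.O8.Defs
import Cfsg.Agent.SM.O8.Two.Main
import Cfsg.Agent.SM.O8.Two.Alt
import Cfsg.Agent.SM.O8.Two.List
import Cfsg.Agent.SM.O8.Two.Loc
import Cfsg.Agent.SM.O8.Two.Par
import Cfsg.Agent.SM.O8.Two.Rot
import Cfsg.Agent.SM.O8.Two.SRf
import Cfsg.Agent.SM.O8.Two.Y

/-!
# SM (S3570), socle `Ω⁺₈(2)`: `Box2` from the boxes (helper88)
-/

set_option autoImplicit false

namespace Cfsg.Agent.SM.O8.Two

theorem box2_pre (hK : O8.Kn) (hT : BoxTS) (hN : BoxNt) (h5 : BoxC5) (hU : BoxU) (hS : BoxS) : Box2 :=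
  have hL : BoxList := boxList_of hK boxRot
  have hA : BoxA78 := boxA78_of boxRot boxGen
  (bnd_of (P := f8q 2) (fun _ _ ⟨_, _, _, hF, ⟨e⟩⟩ => (StdO8.Model.exists_equiv hF).elim fun e' => ⟨e.trans e'⟩) hN h5 hL
    (boxY_of h5 hN (boxTwo_of hT h5) (boxThree_of hN boxRot) hA hU hS hL) (boxSRY_of h5 hN) (boxSRX_of h5 hN) boxPar hA
    (boxA9_of boxRot boxGen) hS).mono fun _ _ k h => ⟨k, le_rfl, h.imp_right Or.inl⟩

end Cfsg.Agent.SM.O8.Two
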