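import Cfsg.Agent.SM.O8.Two.Defs
import Cfsg.Agent.H708.Rg.Tri
import Cfsg.Agent.H739.SK.OmCase
import Cfsg.Agent.ClassicalGeometry.WittQuad

/-!
# SM (S3570), socle `Ω⁺₈(2)`: triality in the model (helper52)

`boxTS : BoxTS`, `boxNt : BoxNt`.
-/

set_option autoImplicit false

namespace Cfsg.Agent.SM.O8.Two

open Module Subgroup
open Cfsg.Agent.StdO8.Model
open Cfsg.Agent.StdO8.Aut (cj cj_coe tra tra_apply coe_P_inj ringEquiv_id)
open Cfsg.Agent.LieClassical.OrthCore Cfsg.Agent.ClassicalGeometry.OrthAut1 Cfsg.Agent.ClassicalGeometry.OrthSemi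
  Cfsg.Agent.ClassicalGeometry.TrialityOct Cfsg.Agent.ClassicalGeometry.Triality
open Cfsg.Agent.ClassicalGeometry.TrialitySpaces (finrank_le_four finrank_leftSp leftSp_sing polarBilin_nondegenerate)
open Cfsg.Agent.H198.Classes (gamO)
open Cfsg.Agent.H198.TriBase (kapG exists_gamO gamO_mem_T1 kapG_not_mem)
open Cfsg.Agent.H198.TriAut (tau tau_mk rho rho_pow_three rho_not_mem aut_cases)

namespace Tri

theorem tra_cj (M : O8) : tra (cj M) = Psi q (gamO q M) := by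
  ext p : 1
  obtain ⟨g, rfl⟩ := QuotientGroup.mk_surjective p
  exact (tra_apply (cj M) g).trans rfl

theorem exists_O8 (M : Gam q) : ∃ x : O8, gamO q x = M := by
  obtain ⟨σ, c, h⟩ := M.2
  have h1 : σ = RingEquiv.refl (ZMod 2) := RingEquiv.ext (ringEquiv_id σ)
  have h2 : c = 1 := (z2 c).resolve_left h.ne
  rw [h1, h2] at h
  exact exists_gamO h

theorem mem_range {α : MulAut Om} (h : tra α ∈ (Psi q).range) : α ∈ cj.range := by
  obtain ⟨M, h⟩ := h
  obtain ⟨x, rfl⟩ := exists_O8 M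
  exact ⟨x, tra.injective ((tra_cj x).trans h)⟩

/-- the triality involution -/
noncomputable def ta : MulAut Om := tra.symm (tau good)

theorem ta_spec (g : Om) : ∃ g₂ : V ≃ₗ[ZMod 2] V, ∀ x y, ap g (omul x y) = omul (ap (ta g) x) (g₂ y) := by
  obtain ⟨g₁, g₂, h⟩ := exists_triple good g.2
  have h1 : ta g = ⟨g₁, h.1.2.1⟩ := by
    apply coe_P_inj
    rw [← tra_apply, ta, MulEquiv.apply_symm_apply]
    exact tau_mk good (g₁ := ⟨g₁, h.1.2.1⟩) h
  rw [h1]
  exact ⟨g₂, h.2⟩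

/-- three vectors of `e₈ 𝕆` -/
def bb (i : Fin 3) : V := Pi.single (.inl i.succ) 1

theorem bb_li : LinearIndependent (ZMod 2) bb :=
  (Pi.linearIndependent_single_one (Fin 4 ⊕ Fin 4) (ZMod 2)).comp (fun i : Fin 3 => Sum.inl i.succ)
    fun _ _ h => Fin.succ_injective _ (Sum.inl_injective h)

theorem bb_mem (i : Fin 3) : bb i ∈ xO (e8 (ZMod 2)) := ⟨bb i, by revert i; decide +kernel⟩

theorem eq_e8 : ∀ z : V, z ≠ 0 → (∀ i, omul (oconj z) (bb i) = 0) → z = e8 (ZMod 2) := by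
  decide +kernel

theorem fix_e8 {W : Submodule (ZMod 2) V} (h1 : W ≤ xO (e8 (ZMod 2))) (h2 : ∀ i, bb i ∈ W) {g : Om}
    (hg : ∀ w ∈ W, ap g w ∈ W) : ap (ta g) (e8 (ZMod 2)) = e8 (ZMod 2) := by
  obtain ⟨g₂, h⟩ := ta_spec g
  refine eq_e8 _ (fun h0 => e8_ne ((ta g : V ≃ₗ[ZMod 2] V).map_eq_zero_iff.1 h0)) fun i => ?_
  have h3 : W.map ((g : V ≃ₗ[ZMod 2] V) : V →ₗ[ZMod 2] V) = W :=
    Submodule.eq_of_le_of_finrank_eq (by rintro _ ⟨w, hw, rfl⟩; exact hg w hw) (LinearEquiv.finrank_map_eq _ W)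
  obtain ⟨w, hw, h4⟩ := h3.symm ▸ h2 i
  obtain ⟨y, rfl⟩ := h1 hw
  have h5 : bb i = omul (ap (ta g) (e8 (ZMod 2))) (g₂ y) := h4.symm.trans (h _ y)
  rw [h5, oconj_omul_omul, O8_q (Om_le (ta g).2), norm_e8, zero_smul]

end Tri

open Tri

/-- **(1a)** -/
theorem boxTS : BoxTS := by
  intro W h3 hW
  obtain ⟨W₀, h1, h2, hd⟩ : ∃ W₀ : Submodule (ZMod 2) V, W₀ ≤ xO (e8 (ZMod 2)) ∧ (∀ i, bb i ∈ W₀) ∧
      finrank (ZMod 2) W = finrank (ZMod 2) W₀ := by
    have h4 : finrank (ZMod 2) W ≤ 4 := finrank_le_four hW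
    rcases (show finrank (ZMod 2) W = 3 ∨ finrank (ZMod 2) W = 4 by omega) with h | h
    · refine ⟨Submodule.span (ZMod 2) (Set.range bb), Submodule.span_le.2 ?_, fun i => Submodule.subset_span ⟨i, rfl⟩, ?_⟩
      · rintro _ ⟨i, rfl⟩
        exact bb_mem i
      · rw [h, finrank_span_eq_card bb_li, Fintype.card_fin]
    · exact ⟨_, le_rfl, bb_mem, h.trans (finrank_leftSp norm_e8 e8_ne).symm⟩
  let φ : W ≃ₗ[ZMod 2] W₀ := LinearEquiv.ofFinrankEq _ _ hd
  obtain ⟨M, hM, hx⟩ := Cfsg.Agent.ClassicalGeometry.WittQuad.extend q polarBilin_nondegenerate W W₀ φ fun x => by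
    rw [hW _ x.2, leftSp_sing norm_e8 _ (h1 (φ x).2)]
  refine ⟨ta * cj ⟨M, hM⟩, e8 (ZMod 2), e8_ne, norm_e8, fun g hg => fix_e8 h1 h2 (g := cj ⟨M, hM⟩ g) fun w hw => ?_⟩
  have h4 : M (φ.symm ⟨w, hw⟩ : W) = w := by rw [hx, LinearEquiv.apply_symm_apply]
  have h5 : ap (cj ⟨M, hM⟩ g) w = M (ap g (φ.symm ⟨w, hw⟩ : W)) := by
    conv_lhs => rw [← h4]
    show M (ap g (M.symm (M _))) = _
    rw [LinearEquiv.symm_apply_apply]
  rw [h5, hx ⟨_, hg _ (φ.symm ⟨w, hw⟩).2⟩]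
  exact (φ _).2

namespace Tri

theorem ap_mul (g h : Om) (v : V) : ap (g * h) v = ap g (ap h v) := rfl

theorem ap_B (g : Om) (u v : V) : B (ap g u) (ap g v) = B u v := O8_B (Om_le g.2) u v

theorem ap_q (g : Om) (v : V) : q (ap g v) = q v := O8_q (Om_le g.2) v

theorem ap_add (g : Om) (u v : V) : ap g (u + v) = ap g u + ap g v := map_add _ u v

/-- a singular vector which is orthogonal to its image -/
theorem exists_iso (f : Om) : ∃ v, v ≠ 0 ∧ q v = 0 ∧ B v (ap f v) = 0 := by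
  by_contra hc
  have h1 : ∀ v, v ≠ 0 → v ∈ xO (e8 (ZMod 2)) → B v (ap f v) = 1 := fun v h0 hv =>
    (z2 _).resolve_left fun h => hc ⟨v, h0, leftSp_sing norm_e8 _ hv, h⟩
  have a0 := h1 (bb 0) (by decide) (bb_mem 0)
  have a1 := h1 (bb 1) (by decide) (bb_mem 1)
  have a2 := h1 (bb 2) (by decide) (bb_mem 2)
  have a3 := h1 (bb 0 + bb 1) (by decide) (add_mem (bb_mem 0) (bb_mem 1))
  have a4 := h1 (bb 0 + bb 2) (by decide) (add_mem (bb_mem 0) (bb_mem 2))
  have a5 := h1 (bb 1 + bb 2) (by decide) (add_mem (bb_mem 1) (bb_mem 2))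
  have a6 := h1 (bb 0 + bb 1 + bb 2) (by decide) (add_mem (add_mem (bb_mem 0) (bb_mem 1)) (bb_mem 2))
  simp only [ap_add, B_add_left, B_add_right] at a3 a4 a5 a6
  have h3 : (1 : ZMod 2) = 0 := by
    linear_combination a3 + a4 + a5 - a6 - a0 - a1 - a2
  exact one_ne_zero h3

theorem ts_span {S : Set V} (h1 : ∀ s ∈ S, q s = 0) (h2 : ∀ s ∈ S, ∀ t ∈ S, B s t = 0) :
    ∀ w ∈ Submodule.span (ZMod 2) S, q w = 0 := by
  have h3 : ∀ w ∈ Submodule.span (ZMod 2) S, ∀ t ∈ S, B w t = 0 := fun w hw t ht => by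
    induction hw using Submodule.span_induction with
    | mem s hs => exact h2 s hs t ht
    | zero => exact B_zero_left t
    | add a b _ _ ha hb => rw [B_add_left, ha, hb, add_zero]
    | smul c a _ ha => rw [B_smul_left, ha, mul_zero]
  have h4 : ∀ w ∈ Submodule.span (ZMod 2) S, ∀ t ∈ Submodule.span (ZMod 2) S, B w t = 0 := fun w hw t ht => by
    induction ht using Submodule.span_induction with
    | mem s hs => exact h3 w hw s hs
    | zero => exact B_zero_right w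
    | add a b _ _ ha hb => rw [B_add_right, ha, hb, add_zero]
    | smul c a _ ha => rw [B_smul_right, ha, mul_zero]
  intro w hw
  induction hw using Submodule.span_induction with
  | mem s hs => exact h1 s hs
  | zero => exact q_zero
  | add a b ha' hb' ha hb => rw [q_add, ha, hb, h4 a ha' b hb', add_zero, add_zero]
  | smul c a _ ha => rw [QuadraticMap.map_smul, ha, smul_zero]

/-- an element of order five without fixed vectors fixes a totally singular space -/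
theorem exists_ts {f : Om} (h5 : f ^ 5 = 1) (h : ∀ v, ap f v = v → v = 0) : ∃ W : Submodule (ZMod 2) V,
    3 ≤ finrank (ZMod 2) W ∧ (∀ w ∈ W, q w = 0) ∧ ∀ w ∈ W, ap f w ∈ W := by
  obtain ⟨v, h0, hq, hB⟩ := exists_iso f
  obtain ⟨v1, e1⟩ : ∃ x, x = ap f v := ⟨_, rfl⟩
  obtain ⟨v2, e2⟩ : ∃ x, x = ap f v1 := ⟨_, rfl⟩
  obtain ⟨v3, e3⟩ : ∃ x, x = ap f v2 := ⟨_, rfl⟩
  obtain ⟨v4, e4⟩ : ∃ x, x = ap f v3 := ⟨_, rfl⟩
  have e5 : v = ap f v4 := by
    have h1 : ap (f ^ 5) v = v := by rw [h5]; rfl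
    rw [e4, e3, e2, e1]
    exact h1.symm
  have hs : v + v1 + v2 + v3 + v4 = 0 := h _ (by
    simp only [ap_add]
    rw [← e1, ← e2, ← e3, ← e4, ← e5]
    abel)
  have q1 : q v1 = 0 := by rw [e1, ap_q, hq]
  have q2 : q v2 = 0 := by rw [e2, ap_q, q1]
  have q3 : q v3 = 0 := by rw [e3, ap_q, q2]
  have q4 : q v4 = 0 := by rw [e4, ap_q, q3]
  have b01 : B v v1 = 0 := by rw [e1, hB]
  have b12 : B v1 v2 = 0 := by rw [e2]; conv_lhs => rw [e1]; rw [ap_B, ← e1, b01]
  have b23 : B v2 v3 = 0 := by rw [e3]; conv_lhs => rw [e2]; rw [ap_B, ← e2, b12]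
  have b34 : B v3 v4 = 0 := by rw [e4]; conv_lhs => rw [e3]; rw [ap_B, ← e3, b23]
  have b04 : B v v4 = 0 := by rw [← b34, B_comm, ← ap_B f v3, ← e4, ← e5]
  have b13 : B v1 v3 = B v v2 := by rw [e1, e3, ap_B]
  have b24 : B v2 v4 = B v v2 := by rw [← b13, e2, e4, ap_B]
  have b03 : B v v3 = B v v2 := by rw [← b24, B_comm, ← ap_B f v2, ← e3, ← e5]
  have b14 : B v1 v4 = B v v2 := by rw [← b03, e1, e4, ap_B]
  have b02 : B v v2 = 0 := by
    have h1 := congrArg q hs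
    simp only [q_add, B_add_left, q_zero, hq, q1, q2, q3, q4, b01, b12, b23, b34, b04, b13, b24, b03, b14] at h1
    have h2 : (2 : ZMod 2) = 0 := rfl
    linear_combination h1 - 2 * B v v2 * h2
  rw [b02] at b13
  have n1 : v1 ≠ v := fun e => h0 (h v (by rw [← e1, e]))
  have n0 : ∀ x, x ≠ 0 → ap f x ≠ 0 := fun x hx e => hx ((f : V ≃ₗ[ZMod 2] V).map_eq_zero_iff.1 e)
  have inj : ∀ x y, ap f x = ap f y → x = y := fun x y e => (f : V ≃ₗ[ZMod 2] V).injective e
  have n2 : v2 ≠ v := fun e => by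
    have a3 : v3 = v1 := by rw [e3, e, e1]
    have a4 : v4 = v := by rw [e4, a3, ← e2, e]
    exact n1 (by rw [e1]; conv_lhs => rw [← a4]; exact e5.symm)
  have n3 : v2 ≠ v + v1 := fun e => by
    have a3 : v3 = v := by rw [e3, e, ap_add, ← e1, ← e2, e, add_comm v, ← add_assoc, add_self, zero_add]
    have a4 : v4 = v1 := by rw [e4, a3, e1]
    exact n2 (by rw [e2, ← a4]; exact e5.symm)
  have n4 : v2 ≠ v1 := fun e => n1 (inj _ _ (by rw [← e2, ← e1, e]))
  let W := Submodule.span (ZMod 2) ({v, v1, v2, v3} : Set V)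
  have m0 : v ∈ W := Submodule.subset_span (by simp)
  have m1 : v1 ∈ W := Submodule.subset_span (by simp)
  have m2 : v2 ∈ W := Submodule.subset_span (by simp)
  have m3 : v3 ∈ W := Submodule.subset_span (by simp)
  have m4 : v4 ∈ W := by
    rw [← eq_of_add_eq_zero hs]
    exact add_mem (add_mem (add_mem m0 m1) m2) m3
  refine ⟨W, ?_, ts_span ?_ ?_, fun w hw => ?_⟩
  · have h1 : LinearIndependent (ZMod 2) ![(⟨v, m0⟩ : W), ⟨v1, m1⟩, ⟨v2, m2⟩] := by
      rw [Fintype.linearIndependent_iff]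
      intro c hc
      have h2 : c 0 • v + c 1 • v1 + c 2 • v2 = 0 := by
        have := congrArg Subtype.val hc
        simpa [Fin.sum_univ_three] using this
      have z1 : v1 ≠ 0 := e1 ▸ n0 v h0
      have z2' : v2 ≠ 0 := e2 ▸ n0 v1 z1
      have h3 : c 0 = 0 ∧ c 1 = 0 ∧ c 2 = 0 := by
        rcases z2 (c 0) with a | a <;> rcases z2 (c 1) with b | b <;> rcases z2 (c 2) with d | d <;>
          simp only [a, b, d, zero_smul, one_smul, add_zero, zero_add] at h2
        · exact ⟨a, b, d⟩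
        · exact absurd h2 z2'
        · exact absurd h2 z1
        · exact absurd (eq_of_add_eq_zero h2).symm n4
        · exact absurd h2 h0
        · exact absurd (eq_of_add_eq_zero h2).symm n2
        · exact absurd (eq_of_add_eq_zero h2).symm n1
        · exact absurd (eq_of_add_eq_zero h2).symm n3
      intro i
      fin_cases i
      exacts [h3.1, h3.2.1, h3.2.2]
    simpa using h1.fintype_card_le_finrank
  · simp only [Set.mem_insert_iff, Set.mem_singleton_iff, forall_eq_or_imp, forall_eq]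
    exact ⟨hq, q1, q2, q3⟩
  · rw [b02] at b03
    simp only [Set.mem_insert_iff, Set.mem_singleton_iff, forall_eq_or_imp, forall_eq]
    exact ⟨⟨B_self _, b01, b02, b03⟩, ⟨(B_comm _ _).trans b01, B_self _, b12, b13⟩,
      ⟨(B_comm _ _).trans b02, (B_comm _ _).trans b12, B_self _, b23⟩,
      ⟨(B_comm _ _).trans b03, (B_comm _ _).trans b13, (B_comm _ _).trans b23, B_self _⟩⟩
  · induction hw using Submodule.span_induction with
    | mem s hs =>
      rcases hs with a | a | a | a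
      · rw [a, ← e1]; exact m1
      · rw [a, ← e2]; exact m2
      · rw [a, ← e3]; exact m3
      · rw [a, ← e4]; exact m4
    | zero => rw [show ap f 0 = 0 from map_zero _]; exact zero_mem _
    | add a b _ _ ha hb => rw [ap_add]; exact add_mem ha hb
    | smul c a _ ha => rw [show ap f (c • a) = c • ap f a from map_smul _ c a]; exact W.smul_mem c ha

/-- the triality automorphism of order three -/
noncomputable def rh : MulAut Om := tra.symm (rho good)

/-- the conjugation of the octonions -/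
def ka : O8 := ⟨kap (ZMod 2), kap_mem⟩

theorem rh_three : rh ^ 3 = 1 := by rw [rh, ← map_pow, rho_pow_three, map_one]

theorem rh_not : rh ∉ cj.range := by
  rintro ⟨M, h⟩
  refine rho_not_mem good ⟨gamO q M, ?_⟩
  rw [← tra_cj, h, rh, MulEquiv.apply_symm_apply]

theorem ka_rh : cj ka * rh * cj ka = rh⁻¹ := by
  apply tra.injective
  rw [map_mul, map_mul, map_inv, tra_cj, rh, MulEquiv.apply_symm_apply]
  exact H198.TriInn.kap_rho_kap good

theorem ka_ka : cj ka * cj ka = 1 := by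
  rw [← map_mul, show ka * ka = 1 from Subtype.ext kap_mul_kap, map_one]

theorem cases (α : MulAut Om) : ∃ (i : ℕ) (M : O8), i < 3 ∧ α = rh ^ i * cj M := by
  obtain ⟨i, M, hi, h⟩ := aut_cases good (tra α)
  obtain ⟨x, rfl⟩ := exists_O8 M
  refine ⟨i, x, hi, tra.injective ?_⟩
  rw [map_mul, map_pow, tra_cj, rh, MulEquiv.apply_symm_apply]
  exact h

theorem cj_om (g : Om) : cj ⟨g, Om_le g.2⟩ = MulAut.conj g := by
  ext x : 1
  rfl

theorem cj_cases (M : O8) : ∃ g : Om, cj M = MulAut.conj g ∨ cj M = cj ka * MulAut.conj g := by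
  have ha : q (one8 (ZMod 2)) ≠ 0 := by rw [norm_one8]; exact one_ne_zero
  rcases H739.SK.Om.mem_E_or rfl good ha M M.2 with h | h
  · exact ⟨⟨M, h⟩, Or.inl (cj_om ⟨M, h⟩)⟩
  · have h1 := (H739.SK.Om.mem_E_or rfl good ha _ kap_mem).resolve_left fun h1 =>
      kapG_not_mem (gamO_mem_T1 good (x := ka) h1)
    have h2 : (kap (ZMod 2))⁻¹ * M ∈ Om := by
      have := mul_mem (inv_mem h1) h
      rwa [mul_inv_rev, mul_assoc, inv_mul_cancel_left] at this
    refine ⟨⟨_, h2⟩, Or.inr ?_⟩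
    rw [← cj_om, ← map_mul]
    congr 1
    exact Subtype.ext (mul_inv_cancel_left _ _).symm

theorem conj_conj (α : MulAut Om) (g : Om) : α * MulAut.conj g * α⁻¹ = MulAut.conj (α g) := by
  ext x : 1
  simp

end Tri

/-- **(1b)** -/
theorem boxNt : BoxNt := by
  refine ⟨fun f hf => ?_, fun β f hf h1 ⟨v, h0, h2⟩ => ?_, ?_⟩
  · by_cases h : ∀ v, ap f v = v → v = 0
    · obtain ⟨W, h1, h2, h3⟩ := exists_ts (hf ▸ pow_orderOf_eq_one f) h
      obtain ⟨α, u, h4, -, h5⟩ := boxTS W h1 h2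
      exact ⟨α, u, h4, h5 f h3⟩
    · push Not at h
      obtain ⟨v, h1, h2⟩ := h
      exact ⟨1, v, h2, h1⟩
  · have h5 : f ^ 5 = 1 := hf ▸ pow_orderOf_eq_one f
    have hr : H884.El.PP (Nat.card (ZMod 2)) 4 5 := ⟨by norm_num, by
      rw [Nat.card_zmod]
      exact (orderOf_eq_iff (by norm_num)).2 (by decide)⟩
    by_contra hβ
    exact h0 (H708.Rg.aut_no_fix good hr h5 (fun e => by rw [e, orderOf_one] at hf; omega) h1
      (fun h => hβ (mem_range h)) (tra_apply β f).symm (by rw [← map_pow, h5, map_one]) v h2)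
  · rintro α _ hα ⟨M, rfl⟩ h
    obtain ⟨i, N, hi, rfl⟩ := cases α
    have hc : ∀ g : Om, MulAut.conj g ∈ cj.range := fun g => ⟨_, cj_om g⟩
    obtain ⟨g, h1 | h1⟩ := cj_cases (N * M * N⁻¹)
    · refine ⟨(cj N)⁻¹ g, ?_⟩
      rw [← conj_conj, ← h1, map_mul, map_mul, map_inv]
      group
    · have h2 : rh ^ i * cj N * cj M * (rh ^ i * cj N)⁻¹ =
          rh ^ i * cj ka * (rh ^ i)⁻¹ * MulAut.conj ((rh ^ i) g) := by
        rw [← conj_conj]
        calc _ = rh ^ i * (cj N * cj M * (cj N)⁻¹) * (rh ^ i)⁻¹ := by group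
          _ = _ := by rw [← map_inv, ← map_mul, ← map_mul, h1]; group
      rw [h2] at h
      have h3 := mul_mem (⟨ka, rfl⟩ : cj ka ∈ cj.range) ((Subgroup.mul_mem_cancel_right _ (hc _)).1 h)
      have h4 : cj ka * rh = rh⁻¹ * cj ka := by rw [← ka_rh, mul_assoc _ (cj ka), ka_ka, mul_one]
      have h5 : rh⁻¹ = rh * rh := by rw [inv_eq_iff_mul_eq_one, ← rh_three, pow_three]
      exfalso
      interval_cases i
      · exact hα (by rw [pow_zero, one_mul]; exact ⟨N, rfl⟩)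
      · refine rh_not ?_
        have h6 : cj ka * (rh ^ 1 * cj ka * (rh ^ 1)⁻¹) = rh := by
          rw [pow_one, ← mul_assoc, ← mul_assoc, ka_rh, ← mul_inv_rev, ← h5, inv_inv]
        rwa [h6] at h3
      · refine rh_not (inv_mem_iff.1 ?_)
        have h6 : cj ka * (rh ^ 2 * cj ka * (rh ^ 2)⁻¹) = rh⁻¹ := by
          have h7 : cj ka * (rh * rh) * cj ka = rh⁻¹ * rh⁻¹ := by
            rw [← mul_assoc, h4, mul_assoc, mul_assoc, ← mul_assoc (cj ka), ka_rh]
          rw [pow_two, ← mul_assoc, ← mul_assoc, h7, ← h5, inv_inv, inv_mul_cancel_right]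
        rwa [h6] at h3

end Cfsg.Agent.SM.O8.Two
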