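import Cfsg.Agent.SM.O8.Two.Defs
import Cfsg.Agent.OrdDiv.Table
import Cfsg.Agent.S0822
import Cfsg.Agent.LieClassical.FieldTransfer
import Cfsg.Agent.SporRec.TwoSp6.Sp
import Cfsg.Agent.H659.Sp4Inst

/-!
# SM (S3570), socle `Ω⁺₈(2)`: `U₄(2)` and `Sp₆(2)` fix a vector (helper99)

`boxU_of : Kn → BoxRot → BoxGen → BoxU`, `boxS_of : Kn → BoxRot → BoxGen → BoxS`.
-/

set_option autoImplicit false

namespace Cfsg.Agent.SM.O8.Two

open Cfsg Subgroup Cfsg.Agent.OrdDiv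
open Cfsg.Agent.StdO8.Model (V Om)

namespace US

/-! ### the number of fixed vectors -/

theorem ap_mul (g h : Om) (v : V) : ap (g * h) v = ap g (ap h v) := rfl

theorem nf_conj {x y : Om} (h : IsConj x y) : nf x = nf y := by
  obtain ⟨g, rfl⟩ := isConj_iff.1 h
  refine Nat.card_congr ((g : V ≃ₗ[ZMod 2] V).toEquiv.subtypeEquiv fun v => ?_)
  show ap x v = v ↔ ap (g * x * g⁻¹) (ap g v) = ap g v
  rw [← ap_mul, inv_mul_cancel_right, ap_mul]
  exact (g : V ≃ₗ[ZMod 2] V).injective.eq_iff.symm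

theorem nf_inv (x : Om) : nf x⁻¹ = nf x :=
  Nat.card_congr (Equiv.subtypeEquivRight fun _ => (x : V ≃ₗ[ZMod 2] V).symm_apply_eq.trans eq_comm)

theorem nf_one : nf 1 = 256 := by
  rw [nf, Nat.card_congr (Equiv.subtypeUnivEquiv (p := fun v : V => ap 1 v = v) fun _ => rfl), Nat.card_eq_fintype_card,
    Fintype.card_fun, ZMod.card, Fintype.card_sum, Fintype.card_fin]
  rfl

theorem burn {E : Type} [Group E] [Fintype E] (ε : E →* Om) : Fintype.card E ∣ ∑ u, nf (ε u) := by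
  classical
  let _ : MulAction E V :=
    { smul := fun u v => ap (ε u) v
      one_smul := fun v => by
        show ap (ε 1) v = v
        rw [map_one]; rfl
      mul_smul := fun a b v => by
        show ap (ε (a * b)) v = ap (ε a) (ap (ε b) v)
        rw [map_mul]; rfl }
  have _ : Fintype (Quotient (MulAction.orbitRel E V)) := Fintype.ofFinite _
  have h := MulAction.sum_card_fixedBy_eq_card_orbits_mul_card_group E V
  rw [show ∑ u, nf (ε u) = ∑ u : E, Fintype.card (MulAction.fixedBy V u) from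
    Finset.sum_congr rfl fun u _ => (Fintype.card_eq_nat_card (α := MulAction.fixedBy V u)).symm, h]
  exact dvd_mul_left _ _

theorem isConj_of {G : Type} [Group G] {g x y : G} (h : g * x = y * g) : IsConj x y :=
  isConj_iff.2 ⟨g, mul_inv_eq_iff_eq_mul.2 h⟩

/-- four conjugate rotations generate -/
theorem fix_of (hG : BoxGen) {G : Type} [Group G] (ψ : G →* Om) {L : Subgroup Om} (hL : ∀ g ∈ L, ∃ s, ψ s = g)
    {x x₁ x₂ x₃ x₄ : G} (h3 : x ^ 3 = 1) (hr : Rot (ψ x)) (c₁ : IsConj x x₁) (c₂ : IsConj x x₂) (c₃ : IsConj x x₃)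
    (c₄ : IsConj x x₄) (h2 : (x₁ * x₂) ^ 2 = 1)
    (hgen : ∀ H : Subgroup G, x₁ ∈ H → x₂ ∈ H → x₃ ∈ H → x₄ ∈ H → H = ⊤) : FixM L := by
  obtain ⟨α, hα⟩ := hr
  let φ : G →* Om := α.toMonoidHom.comp ψ
  have k3 : ∀ {y : G}, IsConj x y → φ y ^ 3 = 1 := fun h => by
    have h1 := h.pow 3
    rw [h3, isConj_one_right] at h1
    rw [← map_pow, h1, map_one]
  have kn : ∀ {y : G}, IsConj x y → nf (φ y) = 64 := fun h => (nf_conj (φ.map_isConj h)).symm.trans hα
  obtain ⟨v, h0, h1, h4, h5, h6⟩ := hG (φ x₁) (φ x₂) (φ x₃) (φ x₄) (k3 c₁) (k3 c₂) (k3 c₃) (k3 c₄) (kn c₁) (kn c₂) (kn c₃)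
    (kn c₄) (by rw [← map_mul, ← map_pow, h2, map_one])
  let H : Subgroup G :=
    { carrier := {g | ap (φ g) v = v}
      one_mem' := by
        show ap (φ 1) v = v
        rw [map_one]; rfl
      mul_mem' := fun {a b} ha hb => by
        show ap (φ (a * b)) v = v
        rw [map_mul, ap_mul, show ap (φ b) v = v from hb]; exact ha
      inv_mem' := fun {a} ha => by
        show ap (φ a⁻¹) v = v
        rw [map_inv]
        exact ((φ a : Om) : V ≃ₗ[ZMod 2] V).symm_apply_eq.2 (Eq.symm ha) }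
  refine ⟨α, v, h0, fun g hg => ?_⟩
  obtain ⟨s, rfl⟩ := hL g hg
  have h7 : s ∈ H := hgen H h1 h4 h5 h6 ▸ mem_top s
  exact h7

/-- the covering of a subgroup `PSp` -/
theorem exists_cover {m p : ℕ} [Fact p.Prime] {L : Subgroup Om} (e : L ≃* PSp m (ZMod p)) :
    ∃ ψ : Matrix.symplecticGroup (Fin m) (ZMod p) →* Om, (∀ g ∈ L, ∃ s, ψ s = g) ∧
      ∀ s t, ψ s = 1 → s * t = t * s := by
  refine ⟨L.subtype.comp (e.symm.toMonoidHom.comp (QuotientGroup.mk' _)), fun g hg => ?_, fun s t h => ?_⟩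
  · obtain ⟨s, hs⟩ := QuotientGroup.mk_surjective (e ⟨g, hg⟩)
    refine ⟨s, ?_⟩
    show ((e.symm (QuotientGroup.mk s) : L) : Om) = g
    rw [hs, e.symm_apply_apply]
  · have h1 : e.symm (QuotientGroup.mk s) = 1 := Subtype.ext h
    exact (mem_center_iff.1 ((QuotientGroup.eq_one_iff s).1 ((map_eq_one_iff _ e.symm.injective).1 h1)) t).symm

theorem nab {K : Type} [Group K] [Finite K] (hs : IsSimpleGroup K) (h : ¬ (Nat.card K).Prime) :
    ¬ ∀ a b : K, a * b = b * a := fun h1 => by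
  let : CommGroup K := { (inferInstance : Group K) with mul_comm := h1 }
  exact h IsSimpleGroup.prime_card

/-! ### `Sp₆(2)` -/

section six

open Cfsg.Agent.SporRec.TwoSp6
open Cfsg.Agent.SporRec.TwoSp6.Sp (S tr v enc st act_mul act_enc act_ext exists_enc closure_v)

theorem iso_S (hK : Kn) {K : Type} [Group K] [Finite K] (hs : IsSimpleGroup K) (h : Nat.card K = 1451520) :
    Nonempty (K ≃* PSp 3 (ZMod 2)) := by
  obtain ⟨g, hg, hr⟩ := exists_real_filter table (hK K) (nab hs (by rw [h]; norm_num))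
    (l := [(2, 9), (3, 4), (5, 1), (7, 1)]) (N := 1451520) (by decide +kernel) h.dvd (fun o => Nat.beq o 1451520)
    (by rw [h]; rfl)
  rw [show ((cands [(2, 9), (3, 4), (5, 1), (7, 1)] 1451520).filter fun g => Nat.beq (ordN g) 1451520) =
    [.psp 3 2] by decide +kernel] at hg
  simp only [List.mem_cons, List.not_mem_nil, or_false] at hg
  subst hg
  obtain ⟨F, _, _, hF, ⟨e⟩⟩ := hr
  exact ⟨e.trans (LieClassical.FieldTransfer.pspCongr 3 (ZMod.ringEquivOfPrime F Nat.prime_two hF).symm)⟩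

/-- words in the seven transvections -/
def W (w : List (Fin 7)) : S := (w.map fun i => tr (v i)).prod

theorem W_append (a b : List (Fin 7)) : W (a ++ b) = W a * W b := by rw [W, List.map_append, List.prod_append]; rfl

theorem W_nil : W [] = 1 := rfl

theorem W_one (i : Fin 7) : W [i] = tr (v i) := List.prod_singleton

theorem act_W (w : List (Fin 7)) (c : ℕ) : Sp.act (W w) (enc c) = enc (w.foldr st c) := by
  induction w with
  | nil => exact Sp.act_one _
  | cons i w ih => rw [W, List.map_cons, List.prod_cons, act_mul, show (w.map fun i => tr (v i)).prod = W w from rfl, ih,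
      act_enc, List.foldr_cons]

attribute [irreducible] W

theorem W_eq {a b : List (Fin 7)} (h : ∀ c < 64, a.foldr st c = b.foldr st c) : W a = W b := by
  refine act_ext fun x => ?_
  obtain ⟨c, hc, rfl⟩ := exists_enc x
  rw [act_W, act_W, h c hc]

theorem W_ne {a b : List (Fin 7)} (h : ∃ c < 64, enc ((a ++ b).foldr st c) ≠ enc ((b ++ a).foldr st c)) :
    W a * W b ≠ W b * W a := fun h1 => by
  obtain ⟨c, -, hc⟩ := h
  rw [← W_append, ← W_append] at h1
  exact hc (by rw [← act_W, ← act_W, h1])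

theorem W_conj {g a b : List (Fin 7)} (h : ∀ c < 64, (g ++ a).foldr st c = (b ++ g).foldr st c) : IsConj (W a) (W b) :=
  isConj_of (g := W g) (by rw [← W_append, ← W_append]; exact W_eq h)

/-- the four rotations and their inverses -/
def xs : Fin 8 → List (Fin 7) := ![[0, 2], [2, 3], [5, 6], [4, 1, 3, 1], [0, 2, 0, 2], [2, 3, 2, 3], [5, 6, 5, 6],
  [4, 1, 3, 1, 4, 1, 3, 1]]

/-- the transvections as words in the rotations -/
def ws : Fin 7 → List (Fin 8) := ![[3, 2, 1, 3, 4, 2, 1, 3, 2, 1, 3, 4, 2, 1, 3, 2, 1, 3, 4, 2, 1, 3, 2, 1],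
  [7, 5, 2, 3, 0, 7, 5, 2, 3, 4, 2, 1, 3, 2, 1, 3, 4, 2, 1, 3, 2, 1, 3, 2, 0],
  [3, 2, 1, 3, 4, 2, 1, 3, 2, 1, 3, 4, 2, 1, 3, 2, 1, 3, 4, 2, 1, 3, 2, 1, 0],
  [3, 4, 2, 1, 3, 2, 1, 3, 4, 2, 1, 3, 2, 1, 3, 4, 2, 1, 3, 2, 1, 3, 2, 0],
  [5, 3, 4, 2, 3, 2, 1, 3, 4, 2, 1, 3, 2, 1, 3, 4, 2, 1, 3, 2, 1, 3, 2, 1, 0],
  [7, 6, 1, 4, 7, 6, 5, 7, 5, 2, 0, 7, 2, 1, 3, 1, 0, 3, 2, 3, 2, 1, 3, 1, 0],
  [7, 6, 1, 4, 7, 6, 5, 7, 5, 2, 0, 7, 2, 1, 3, 1, 0, 3, 2, 3, 2, 1, 3, 2, 1, 0]]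

theorem ws_ok : ∀ i : Fin 7, ∀ c < 64, [i].foldr st c = ((ws i).flatMap xs).foldr st c := by decide +kernel

theorem gen_S (H : Subgroup S) (h₁ : W [0, 2] ∈ H) (h₂ : W [2, 3] ∈ H) (h₃ : W [5, 6] ∈ H) (h₄ : W [4, 1, 3, 1] ∈ H) :
    H = ⊤ := by
  have h5 : ∀ {a : List (Fin 7)}, W a ∈ H → W (a ++ a) ∈ H := fun h => by rw [W_append]; exact H.mul_mem h h
  have h6 : ∀ k, W (xs k) ∈ H := fun k => by
    have h9 : ∀ k, xs k = [0, 2] ∨ xs k = [2, 3] ∨ xs k = [5, 6] ∨ xs k = [4, 1, 3, 1] ∨ xs k = [0, 2] ++ [0, 2] ∨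
      xs k = [2, 3] ++ [2, 3] ∨ xs k = [5, 6] ++ [5, 6] ∨ xs k = [4, 1, 3, 1] ++ [4, 1, 3, 1] := by decide
    rcases h9 k with h | h | h | h | h | h | h | h <;> rw [h]
    exacts [h₁, h₂, h₃, h₄, h5 h₁, h5 h₂, h5 h₃, h5 h₄]
  have h7 : ∀ w : List (Fin 8), W (w.flatMap xs) ∈ H := fun w => by
    induction w with
    | nil => rw [List.flatMap_nil, W_nil]; exact H.one_mem
    | cons k w ih => rw [List.flatMap_cons, W_append]; exact H.mul_mem (h6 k) ih
  rw [eq_top_iff, ← closure_v, closure_le]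
  rintro _ ⟨i, rfl⟩
  have h8 := h7 (ws i)
  rw [← W_eq (ws_ok i), W_one] at h8
  exact h8

theorem fix_S (hR : BoxRot) (hG : BoxGen) {L : Subgroup Om} (e : L ≃* PSp 3 (ZMod 2)) : FixM L := by
  obtain ⟨ψ, h1, h2⟩ := exists_cover e
  have : Fact (Nat.Prime 3) := ⟨Nat.prime_three⟩
  have : Fact (Nat.Prime 5) := ⟨Nat.prime_five⟩
  have h3 : W [5, 6] ^ 3 = 1 := by
    rw [pow_three, ← W_append, ← W_append]
    exact (W_eq (b := []) (by decide +kernel)).trans W_nil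
  have h5 : W [0, 2, 3, 1] ^ 5 = 1 := by
    simp only [pow_succ, pow_zero, one_mul, ← W_append]
    exact (W_eq (b := []) (by decide +kernel)).trans W_nil
  refine fix_of hG ψ h1 h3 (hR.2.2.1 _ (ψ (W [0, 2, 3, 1])) ?_ ?_ ?_)
    (W_conj (g := [3, 4, 5, 6, 2, 3, 4, 5, 0, 2, 3, 4]) (by decide +kernel))
    (W_conj (g := [4, 5, 6, 3, 4, 5, 2, 3, 4]) (by decide +kernel)) (IsConj.refl _)
    (W_conj (g := [4, 5, 6, 4, 5, 1, 3, 4]) (by decide +kernel)) ?_ gen_S
  · exact orderOf_eq_prime (by rw [← map_pow, h3, map_one]) fun h => W_ne (b := [4]) (by decide +kernel) (h2 _ _ h)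
  · exact orderOf_eq_prime (by rw [← map_pow, h5, map_one]) fun h => W_ne (b := [4]) (by decide +kernel) (h2 _ _ h)
  · rw [← map_mul, ← map_mul, ← W_append, ← W_append, W_eq (b := [0, 2, 3, 1] ++ [5, 6]) (by decide +kernel)]
  · rw [pow_two, ← W_append, ← W_append]
    exact (W_eq (b := []) (by decide +kernel)).trans W_nil

end six

/-! ### `U₄(2)` -/

section four

attribute [local instance] Cfsg.Agent.H659.SevenU42.instFactThree

/-- the elementary abelian group of order `27` -/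
abbrev T := ZMod 3 × ZMod 3 × ZMod 3

/-- the symmetries -/
def op (k : Fin 3) (u : T) : T := if k = 0 then (u.2.2, u.1, u.2.1) else if k = 1 then (-u.1, -u.2.1, u.2.2) else -u

/-- the weight -/
def wt (u : T) : Fin 4 := (if u.1 = 0 then 0 else 1) + (if u.2.1 = 0 then 0 else 1) + (if u.2.2 = 0 then 0 else 1)

/-- the representatives -/
def rep : Fin 4 → T := ![0, (1, 0, 0), (1, 1, 0), (1, 1, 1)]

theorem reach_rep : ∀ u : T, ∃ w ∈ ([[], [0], [1, 0], [0, 0], [0, 1, 0], [1, 0, 0], [0, 0, 1], [1, 0, 1], [2, 1],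
    [0, 1, 0, 0], [2, 1, 0], [1], [0, 1], [0, 0, 1, 0], [2, 1, 0, 0], [2]] : List (List (Fin 3))),
    w.foldr op u = rep (wt u) := by decide +kernel

theorem eq_rep {F : T → ℕ} (h : ∀ k u, F (op k u) = F u) (u : T) : F u = F (rep (wt u)) := by
  obtain ⟨w, -, h1⟩ := reach_rep u
  rw [← h1]
  clear h1
  induction w with
  | nil => rfl
  | cons k l ih => rw [List.foldr_cons, h, ← ih]

theorem sum_rep (A : Fin 4 → ℕ) : ∑ u : T, A (wt u) = A 0 + 6 * A 1 + 12 * A 2 + 8 * A 3 := by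
  rw [← Finset.sum_fiberwise Finset.univ wt, Fin.sum_univ_four]
  have h : ∀ n, ∑ u : T with wt u = n, A (wt u) = (Finset.univ.filter fun u : T => wt u = n).card * A n := fun n => by
    rw [Finset.sum_congr rfl fun u hu => congrArg A (Finset.mem_filter.1 hu).2, Finset.sum_const, smul_eq_mul]
  rw [h, h, h, h, show (Finset.univ.filter fun u : T => wt u = 0).card = 1 by decide +kernel,
    show (Finset.univ.filter fun u : T => wt u = 1).card = 6 by decide +kernel,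
    show (Finset.univ.filter fun u : T => wt u = 2).card = 12 by decide +kernel,
    show (Finset.univ.filter fun u : T => wt u = 3).card = 8 by decide +kernel, one_mul]

theorem three_T : ∀ u : T, u + (u + u) = 0 := by decide +kernel

theorem rot_of (hR : BoxRot) (ε : T → Om) (h0 : ε 0 = 1) (hm : ∀ u w, ε (u + w) = ε u * ε w) (hi : ∀ u, ε u = 1 → u = 0)
    (hc : ∀ k : Fin 3, k ≠ 2 → ∀ u, IsConj (ε u) (ε (op k u))) : Rot (ε (rep 1)) := by
  have hn : ∀ u, ε (-u) = (ε u)⁻¹ := fun u => eq_inv_of_mul_eq_one_left (by rw [← hm, neg_add_cancel, h0])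
  have hF : ∀ u, nf (ε u) = nf (ε (rep (wt u))) := eq_rep (F := fun u => nf (ε u)) fun k u => by
    by_cases hk : k = 2
    · subst hk
      exact (congrArg nf (hn u)).trans (nf_inv _)
    · exact (nf_conj (hc k hk u)).symm
  have h3 : ∀ u, ε u ^ 3 = 1 := fun u => by rw [pow_three, ← hm, ← hm, three_T, h0]
  have ho : ∀ u, u ≠ 0 → orderOf (ε u) = 3 := fun u hu => orderOf_eq_prime (h3 u) fun h => hu (hi u h)
  have hinj : ∀ u w, ε u = ε w → u = w := fun u w h => add_neg_eq_zero.1 (hi _ (by rw [hm, hn, h, mul_inv_cancel]))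
  have h5 : ∀ (u w : T) (a b c d : Fin 4), (u ≠ 0 ∧ w ≠ 0 ∧ w ≠ u ∧ w ≠ u + u ∧ wt u = a ∧ wt w = b ∧ wt (u + w) = c ∧
      wt (u + -w) = d) → (nf (ε (rep a)) + nf (ε (rep b)) + nf (ε (rep c)) + nf (ε (rep d))) % 9 = 7 := by
    rintro u w _ _ _ _ ⟨hu, hw, h1, h2, rfl, rfl, rfl, rfl⟩
    rw [← hF, ← hF, ← hF, ← hF, hm, hm, hn]
    refine hR.2.2.2.2 _ _ (ho u hu) (ho w hw) (by rw [← hm, ← hm, add_comm]) fun h => ?_
    classical
    rw [(isOfFinOrder_iff_pow_eq_one.2 ⟨3, by norm_num, h3 u⟩).mem_zpowers_iff_mem_range_orderOf, ho u hu,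
      Finset.mem_image] at h
    obtain ⟨i, hi', h7⟩ := h
    rw [Finset.mem_range] at hi'
    interval_cases i
    · exact hw (hi w (h7.symm.trans (pow_zero _)))
    · exact h1 (hinj _ _ (h7.symm.trans (pow_one _)))
    · exact h2 (hinj _ _ (h7.symm.trans ((pow_two _).trans (hm u u).symm)))
  have h6 := h5 (1, 0, 0) (0, 1, 0) 1 1 2 2 (by decide +kernel)
  have h7 := h5 (1, 1, 0) (0, 0, 1) 2 1 3 3 (by decide +kernel)
  have h8 := burn (E := Multiplicative T)
    { toFun := fun u => ε (Multiplicative.toAdd u), map_one' := h0, map_mul' := fun a b => hm _ _ }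
  rw [show Fintype.card (Multiplicative T) = 27 by decide +kernel] at h8
  have h9 : 27 ∣ ∑ u : T, nf (ε u) := h8
  rw [Finset.sum_congr rfl fun u _ => hF u, sum_rep fun n => nf (ε (rep n)), show ε (rep 0) = 1 from h0, nf_one] at h9
  have k1 := hR.1 _ (ho (rep 1) (by decide +kernel))
  have k2 := hR.1 _ (ho (rep 2) (by decide +kernel))
  have k3 := hR.1 _ (ho (rep 3) (by decide +kernel))
  have k4 : nf (ε (rep 1)) = 1 ∨ nf (ε (rep 1)) = 64 := by
    generalize nf (ε (rep 1)) = a, nf (ε (rep 2)) = b, nf (ε (rep 3)) = c at *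
    omega
  rcases k4 with h | h
  · exact hR.2.1 _ (ho (rep 1) (by decide +kernel)) h
  · exact ⟨1, h⟩

open Cfsg.Agent.H659.SevenU42 (mk4 U sG jG)
open Cfsg.Agent.H659.Sp4 (Sp gen_ysj)

/-- the matrices of the group of order `27` -/
def eM (u : T) : Matrix (Fin 2 ⊕ Fin 2) (Fin 2 ⊕ Fin 2) (ZMod 3) :=
  Matrix.fromBlocks 1 (u.1 • !![1, 0; 0, 1] + u.2.1 • !![1, 1; 1, 2] + u.2.2 • !![1, 2; 2, 2]) 0 1

theorem eM_mem : ∀ u : T, eM u * Matrix.J (Fin 2) (ZMod 3) * (eM u).transpose = Matrix.J (Fin 2) (ZMod 3) := by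
  decide +kernel

/-- the group of order `27` -/
def eG (u : T) : Sp := ⟨eM u, SymplecticGroup.mem_iff.2 (eM_mem u)⟩

theorem eG_add (u w : T) : eG (u + w) = eG u * eG w := by
  refine Subtype.ext (?_ : eM (u + w) = eM u * eM w)
  simp only [eM, Matrix.fromBlocks_multiply, Matrix.one_mul, Matrix.mul_one, Matrix.mul_zero, Matrix.zero_mul, add_zero,
    zero_add, Prod.fst_add, Prod.snd_add, add_smul]
  congr 1
  abel

/-- the rotation -/
def xG : Sp := ⟨mk4 ![![1,0,1,0],![0,1,0,1],![0,0,1,0],![0,0,0,1]], by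
  rw [SymplecticGroup.mem_iff]; decide +kernel⟩

/-- its inverse -/
def xI : Sp := ⟨mk4 ![![1,0,2,0],![0,1,0,2],![0,0,1,0],![0,0,0,1]], by
  rw [SymplecticGroup.mem_iff]; decide +kernel⟩

/-- a conjugate -/
def aG : Sp := ⟨mk4 ![![0,2,2,1],![1,2,1,2],![2,2,2,2],![2,2,1,0]], by
  rw [SymplecticGroup.mem_iff]; decide +kernel⟩

/-- its inverse -/
def aI : Sp := ⟨mk4 ![![2,1,1,2],![2,0,2,1],![1,1,0,1],![1,1,2,2]], by
  rw [SymplecticGroup.mem_iff]; decide +kernel⟩

/-- a conjugate -/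
def bG : Sp := ⟨mk4 ![![0,1,2,0],![1,1,0,2],![2,2,2,2],![2,1,2,1]], by
  rw [SymplecticGroup.mem_iff]; decide +kernel⟩

/-- its inverse -/
def bI : Sp := ⟨mk4 ![![2,2,1,0],![2,1,0,1],![1,1,0,1],![1,2,1,1]], by
  rw [SymplecticGroup.mem_iff]; decide +kernel⟩

/-- a conjugating element -/
def gA : Sp := ⟨mk4 ![![2,1,2,2],![1,2,0,0],![0,1,0,0],![0,1,1,0]], by
  rw [SymplecticGroup.mem_iff]; decide +kernel⟩

/-- a conjugating element -/
def gB : Sp := ⟨mk4 ![![1,2,2,2],![2,2,0,1],![1,0,0,0],![1,2,0,0]], by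
  rw [SymplecticGroup.mem_iff]; decide +kernel⟩

/-- the cyclic permutation -/
def piG : Sp := ⟨mk4 ![![1,0,0,0],![1,1,0,0],![0,0,1,2],![0,0,0,1]], by
  rw [SymplecticGroup.mem_iff]; decide +kernel⟩

/-- the change of two signs -/
def taG : Sp := ⟨mk4 ![![1,1,0,0],![1,2,0,0],![0,0,2,2],![0,0,2,1]], by
  rw [SymplecticGroup.mem_iff]; decide +kernel⟩

theorem e_zero : eG 0 = 1 := Subtype.ext (by decide +kernel)

theorem e_x : eG (rep 1) = xG := Subtype.ext (by decide +kernel)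

theorem e_pi : ∀ u : T, piG.1 * eM u = eM (op 0 u) * piG.1 := by decide +kernel

theorem e_ta : ∀ u : T, taG.1 * eM u = eM (op 1 u) * taG.1 := by decide +kernel

theorem e_inj : ∀ u : T, eM u * bG.1 = bG.1 * eM u → u = 0 := by decide +kernel

theorem gen_U (H : Subgroup Sp) (hx : xG ∈ H) (hx' : xI ∈ H) (ha : aG ∈ H) (hb : bG ∈ H) : H = ⊤ := by
  have ha' : aI ∈ H := by
    rw [show aI = aG * aG from Subtype.ext (by decide +kernel)]; exact H.mul_mem ha ha
  have hb' : bI ∈ H := by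
    rw [show bI = bG * bG from Subtype.ext (by decide +kernel)]; exact H.mul_mem hb hb
  refine gen_ysj H ?_ ?_ ?_
  · rw [show U 5 1 = xI * bG * aI * (xG * bI * aG) from Subtype.ext (by decide +kernel)]
    exact H.mul_mem (H.mul_mem (H.mul_mem hx' hb) ha') (H.mul_mem (H.mul_mem hx hb') ha)
  · rw [show sG = aI * xG * (bG * aI) * (bG * xI * (aG * xG)) from Subtype.ext (by decide +kernel)]
    exact H.mul_mem (H.mul_mem (H.mul_mem ha' hx) (H.mul_mem hb ha')) (H.mul_mem (H.mul_mem hb hx') (H.mul_mem ha hx))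
  · rw [show jG = xI * aG * (bI * xI) * (bG * aI * xI) from Subtype.ext (by decide +kernel)]
    exact H.mul_mem (H.mul_mem (H.mul_mem hx' ha) (H.mul_mem hb' hx')) (H.mul_mem (H.mul_mem hb ha') hx')

theorem fix_U (hR : BoxRot) (hG : BoxGen) {L : Subgroup Om} (e : L ≃* PSp 2 (ZMod 3)) : FixM L := by
  obtain ⟨ψ, h1, h2⟩ := exists_cover e
  have h3 : Rot (ψ (eG (rep 1))) := rot_of hR (fun u => ψ (eG u)) (by rw [e_zero, map_one])
    (fun u w => by rw [eG_add, map_mul]) (fun u h => e_inj u (congrArg Subtype.val (h2 _ bG h))) fun k hk u => by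
      refine ψ.map_isConj ?_
      have h4 : ∀ k : Fin 3, k ≠ 2 → k = 0 ∨ k = 1 := by decide
      rcases h4 k hk with rfl | rfl
      · exact isConj_of (g := piG) (Subtype.ext (e_pi u))
      · exact isConj_of (g := taG) (Subtype.ext (e_ta u))
  rw [e_x] at h3
  refine fix_of hG ψ h1 (Subtype.ext (by decide +kernel)) h3 (IsConj.refl _)
    (isConj_of (g := taG) (Subtype.ext (by decide +kernel))) (isConj_of (g := gA) (Subtype.ext (by decide +kernel)))
    (isConj_of (g := gB) (Subtype.ext (by decide +kernel))) ?_ gen_U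
  rw [show xG * xI = 1 from Subtype.ext (by decide +kernel), one_pow]

theorem iso_U (hK : Kn) {K : Type} [Group K] [Finite K] (hs : IsSimpleGroup K) (h : Nat.card K = 25920) :
    Nonempty (K ≃* PSp 2 (ZMod 3)) := by
  obtain ⟨g, hg, hr⟩ := exists_real_filter table (hK K) (nab hs (by rw [h]; norm_num))
    (l := [(2, 6), (3, 4), (5, 1)]) (N := 25920) (by decide +kernel) h.dvd (fun n => Nat.beq n 25920) (by rw [h]; rfl)
  rw [show (cands [(2, 6), (3, 4), (5, 1)] 25920).filter (fun g => Nat.beq (ordN g) 25920) = [.psp 2 3, .psu 4 2] by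
    decide +kernel] at hg
  simp only [List.mem_cons, List.not_mem_nil, or_false] at hg
  rcases hg with rfl | rfl
  · obtain ⟨F, _, _, hF, ⟨e⟩⟩ := hr
    exact ⟨e.trans (LieClassical.FieldTransfer.pspCongr 2 (ZMod.ringEquivOfPrime F Nat.prime_three hF).symm)⟩
  · obtain ⟨F, _, _, hF, ⟨e⟩⟩ := hr
    obtain ⟨f⟩ := S0822.result (F := F) (K := ZMod 3) hF (ZMod.card 3)
    exact ⟨e.trans f⟩

end four

end US

theorem boxU_of (hK : Kn) (hR : BoxRot) (hG : BoxGen) : BoxU := fun L hs h => by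
  have : Finite L := Nat.finite_of_card_ne_zero (by rw [h]; norm_num)
  obtain ⟨e⟩ := US.iso_U hK hs h
  exact US.fix_U hR hG e

theorem boxS_of (hK : Kn) (hR : BoxRot) (hG : BoxGen) : BoxS := fun L hs h => by
  have : Finite L := Nat.finite_of_card_ne_zero (by rw [h]; norm_num)
  obtain ⟨e⟩ := US.iso_S hK hs h
  exact US.fix_S hR hG e

end Cfsg.Agent.SM.O8.Two
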