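import Cfsg.Agent.SM.O8.Cf
import Cfsg.Agent.SM.Nrm
import Cfsg.Agent.StdO8.Aut
import Cfsg.Prelude.Def_Classification2

/-!
# SM (S3570), socle `Ω⁺₈(2)`: definitions and boxes (helper88, plan in `notes/SM/o8two.md`)

Everything happens in the model `Om` of `StdO8/Model`.  The three modules are reached by automorphisms `α : MulAut Om`;
`cj.range` is the group of the automorphisms induced by isometries.
-/

set_option autoImplicit false

namespace Cfsg.Agent.SM.O8.Two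

open Module Subgroup
open Cfsg.Agent.StdO8.Model (V q B O8 Om)
open Cfsg.Agent.StdO8.Aut (cj)

/-- the action on the natural module -/
abbrev ap (g : Om) (v : V) : V := (g : V ≃ₗ[ZMod 2] V) v

/-- the image under an automorphism -/
abbrev im (α : MulAut Om) (R : Subgroup Om) : Subgroup Om := R.map α.toMonoidHom

/-- the number of fixed vectors -/
noncomputable def nf (g : Om) : ℕ := Nat.card {v : V // ap g v = v}

/-- the stabiliser of a set of vectors -/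
def SS (Z : Set V) : Subgroup Om where
  carrier := {g | ∀ v, v ∈ Z ↔ ap g v ∈ Z}
  one_mem' := fun _ => Iff.rfl
  mul_mem' := fun {a b} ha hb v => (hb v).trans (ha (ap b v))
  inv_mem' := fun {a} ha v => by
    have h := ha (ap a⁻¹ v)
    rw [show ap a (ap a⁻¹ v) = v from (a : V ≃ₗ[ZMod 2] V).apply_symm_apply v] at h
    exact h.symm

theorem mem_SS {Z : Set V} {g : Om} : g ∈ SS Z ↔ ∀ v, v ∈ Z ↔ ap g v ∈ Z := Iff.rfl

/-- singular points (`k = 0`), nonsingular points (`k = 1`), anisotropic planes (`k = 2`) -/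
def Obj (k : ℕ) (Z : Set V) : Prop :=
  (k = 0 ∧ ∃ u, u ≠ 0 ∧ q u = 0 ∧ Z = {u}) ∨ (k = 1 ∧ ∃ u, q u = 1 ∧ Z = {u}) ∨
    (k = 2 ∧ ∃ a b, q a = 1 ∧ q b = 1 ∧ B a b = 1 ∧ Z = {a, b, a + b})

/-- `L` fixes a nonzero vector of one of the modules -/
def FixM (L : Subgroup Om) : Prop := ∃ (α : MulAut Om) (v : V), v ≠ 0 ∧ ∀ g ∈ L, ap (α g) v = v

/-- the elements of order five have a common fixed vector in one of the modules -/
def SR (L : Subgroup Om) : Prop := ∃ (α : MulAut Om) (v : V), v ≠ 0 ∧ ∀ g ∈ L, g ^ 5 = 1 → ap (α g) v = v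

theorem FixM.sr {L : Subgroup Om} (h : FixM L) : SR L := by
  obtain ⟨α, v, h0, h⟩ := h
  exact ⟨α, v, h0, fun g hg _ => h g hg⟩

/-- a rotation of an anisotropic plane in one of the modules -/
def Rot (x : Om) : Prop := ∃ α : MulAut Om, nf (α x) = 64

/-- the vectors fixed by some non-trivial element of `P` -/
def Z5 (P : Subgroup Om) : Set V := {v | ∃ f ∈ P, f ≠ 1 ∧ ap f v = v}

/-- the type `(A₅ × A₅) : 2²` -/
def Dt (Y : Subgroup Om) : Prop := Nat.card Y ∣ 14400 ∧ 3600 ∣ Nat.card Y ∧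
  ∃ (α : MulAut Om) (P : Subgroup Om), Nat.card P = 25 ∧ im α Y ≤ SS (Z5 P)

/-- `L ≅ A_m` -/
abbrev IsA (m : ℕ) (L : Type) [Group L] : Prop := Nonempty (L ≃* alternatingGroup (Fin m))

/-- the classification, as a hypothesis -/
def Kn : Prop := ∀ (X : Type) [Group X] [Finite X] [IsSimpleGroup X], Cfsg.IsKnownSimple' X

/-- orders of the proper simple subgroups, with a multiple of the order of the automorphism group -/
def tab : List (ℕ × ℕ) := [(60, 120), (168, 336), (360, 1440), (504, 1512), (2520, 5040), (6048, 12096), (20160, 40320),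
  (25920, 51840), (181440, 362880), (1451520, 1451520)]

/-! ### the boxes -/

/-- (1a) totally singular subspaces of dimension three or four are points of another module -/
def BoxTS : Prop := ∀ W : Submodule (ZMod 2) V, 3 ≤ finrank (ZMod 2) W → (∀ w ∈ W, q w = 0) →
  ∃ (α : MulAut Om) (u : V), u ≠ 0 ∧ q u = 0 ∧ ∀ g : Om, (∀ w ∈ W, ap g w ∈ W) → ap (α g) u = u

/-- (1b) an element of order five has fixed vectors in exactly one module; `Out = S₃` -/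
def BoxNt : Prop :=
  (∀ f : Om, orderOf f = 5 → ∃ (α : MulAut Om) (v : V), v ≠ 0 ∧ ap (α f) v = v) ∧
  (∀ (β : MulAut Om) (f : Om), orderOf f = 5 → (∃ v, v ≠ 0 ∧ ap f v = v) → (∃ v, v ≠ 0 ∧ ap (β f) v = v) →
    β ∈ cj.range) ∧
  ∀ α β : MulAut Om, α ∉ cj.range → β ∈ cj.range → α * β * α⁻¹ ∈ cj.range → ∃ g : Om, β = MulAut.conj g

/-- (2) elements of order five -/
def BoxC5 : Prop :=
  (∀ f : Om, orderOf f = 5 → (nf f = 1 ∨ nf f = 16) ∧ Nat.card (centralizer ({f} : Set Om)) ∣ 300 ∧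
    (∀ u w, ap f u = u → ap f w = w → q u = 0 → q w = 0 → B u w = 0 → u = 0 ∨ w = 0 ∨ u = w) ∧
    ((∃ v, v ≠ 0 ∧ ap f v = v) → ∀ k ≤ 2, ∃ Z, Obj k Z ∧ ∀ v ∈ Z, ap f v = v)) ∧
  (∀ P : Subgroup Om, 25 ∣ Nat.card P → ∀ v, (∀ g ∈ P, g ^ 5 = 1 → ap g v = v) → v = 0) ∧
  ∀ P : Subgroup Om, Nat.card P = 25 → Nat.card (normalizer (P : Set Om)) ∣ 800 ∧
    (∃ v ∈ Z5 P, q v = 1) ∧ ∃ v ∉ Z5 P, q v = 1

/-- (3a) elements of order three -/
def BoxRot : Prop :=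
  (∀ x : Om, orderOf x = 3 → nf x = 1 ∨ nf x = 4 ∨ nf x = 16 ∨ nf x = 64) ∧
  (∀ x : Om, orderOf x = 3 → nf x = 1 → Rot x) ∧
  (∀ x f : Om, orderOf x = 3 → orderOf f = 5 → x * f = f * x → Rot x) ∧
  (∀ z w : Om, orderOf z = 3 → orderOf w = 7 → z * w * z⁻¹ ∈ zpowers w → nf z = 16) ∧
  ∀ x y : Om, orderOf x = 3 → orderOf y = 3 → x * y = y * x → y ∉ zpowers x →
    (nf x + nf y + nf (x * y) + nf (x * y⁻¹)) % 9 = 7

/-- (3b) four rotations, the first two in an `A₄`, have a common fixed vector -/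
def BoxGen : Prop := ∀ x₁ x₂ x₃ x₄ : Om, x₁ ^ 3 = 1 → x₂ ^ 3 = 1 → x₃ ^ 3 = 1 → x₄ ^ 3 = 1 → nf x₁ = 64 → nf x₂ = 64 →
  nf x₃ = 64 → nf x₄ = 64 → (x₁ * x₂) ^ 2 = 1 → ∃ v, v ≠ 0 ∧ ap x₁ v = v ∧ ap x₂ v = v ∧ ap x₃ v = v ∧ ap x₄ v = v

/-- (4a) normal 2-subgroups -/
def BoxTwo : Prop := ∀ Y N : Subgroup Om, N ≠ ⊥ → IsPGroup 2 N → Y ≤ normalizer (N : Set Om) → 5 ∣ Nat.card Y → FixM Y

/-- (4b) normal 3-subgroups -/
def BoxThree : Prop := ∀ Y N : Subgroup Om, N ≠ ⊥ → (∀ x ∈ N, x ^ 3 = 1) → (∀ x ∈ N, ∀ y ∈ N, x * y = y * x) →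
  Y ≤ normalizer (N : Set Om) → 5 ∣ Nat.card Y → SR Y

/-- (5a) `A₇` and `A₈` fix a vector -/
def BoxA78 : Prop := ∀ L : Subgroup Om, IsA 7 L ∨ IsA 8 L → FixM L

/-- (5b) `A₉` stabilises an ovoid -/
def BoxA9 : Prop := ∃ D : Subgroup Om, D ≠ ⊤ ∧ (∀ M : O8, ∃ g : Om, im (cj M) D = im (MulAut.conj g) D) ∧
  ∀ L : Subgroup Om, IsA 9 L → ∃ α : MulAut Om, im α L ≤ D

/-- (6a) `U₄(2)` fixes a vector -/
def BoxU : Prop := ∀ L : Subgroup Om, IsSimpleGroup L → Nat.card L = 25920 → FixM L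

/-- (6b) `Sp₆(2)` fixes a vector -/
def BoxS : Prop := ∀ L : Subgroup Om, IsSimpleGroup L → Nat.card L = 1451520 → FixM L

/-- (7) the proper simple subgroups (`L₃(4)`, `J₂`, `A₁₀` do not occur) -/
def BoxList : Prop := ∀ L : Subgroup Om, L ≠ ⊤ → IsSimpleGroup L → ¬ IsMulCommutative L →
  (∃ x ∈ tab, Nat.card L = x.1 ∧ Nat.card (MulAut L) ∣ x.2) ∧ (Nat.card L = 2520 → IsA 7 L) ∧
    (Nat.card L = 20160 → IsA 8 L) ∧ (Nat.card L = 181440 → IsA 9 L)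

/-- (8) the proper subgroups of order divisible by five -/
def BoxY : Prop := ∀ Y : Subgroup Om, Y ≠ ⊤ → 5 ∣ Nat.card Y →
  SR Y ∨ Nat.card Y ∣ 1200 ∨ Nat.card Y ∣ 800 ∨ Nat.card Y ∣ 1440 ∨ Dt Y ∨ Nat.card Y = 362880 ∨
    (Nat.card Y = 181440 ∧ IsA 9 Y)

/-- (9a) the second factor -/
def BoxSRY : Prop := ∀ (X Y : Subgroup Om) (U W : Subgroup (MulAut Om)), Cf X Y U W → 5 ∣ Nat.card Y → SR Y →
  ∃ (α : MulAut Om) (k : ℕ) (Z : Set V), Obj k Z ∧ im α Y = SS Z ∧ ∀ β ∈ W, α * β * α⁻¹ ∈ cj.range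

/-- (9b) the first factor -/
def BoxSRX : Prop := ∀ (X Y : Subgroup Om) (U W : Subgroup (MulAut Om)), Cf X Y U W → 5 ∣ Nat.card X → SR X →
  1451520 ∣ Nat.card (MulAut X) ∧ ∃ (α : MulAut Om) (v : V), q v = 1 ∧ im α X ≤ SS {v}

/-- (10) the objects: one orbit, and a reflection acts as an even permutation -/
def BoxPar : Prop := ∀ (k : ℕ) (Z : Set V), Obj k Z →
  (∀ Z', Obj k Z' → ∃ g : Om, ∀ v, v ∈ Z ↔ ap g v ∈ Z') ∧
  ∀ (Ω : Type) [Fintype Ω] [DecidableEq Ω] (ρ : Om →* Equiv.Perm Ω) (a : Ω), (∀ x, ∃ g, ρ g a = x) →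
    (∀ g, ρ g a = a ↔ g ∈ SS Z) →
      ∃ (M : O8) (π : Equiv.Perm Ω), (M : V ≃ₗ[ZMod 2] V) ∉ Om ∧ Equiv.Perm.sign π = 1 ∧ Ind ρ (cj M) π

end Cfsg.Agent.SM.O8.Two
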