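import Cfsg.Agent.SM.O8.Two.Defs
import Cfsg.Agent.SM.O8.Md
import Cfsg.Agent.H329.O8Seven
import Cfsg.Agent.H245.O8Refl
import Cfsg.Agent.StdO8.Frame

/-!
# SM (S3570), socle `Ω⁺₈(2)`: the point stabiliser is not the stabiliser of a point or an anisotropic plane (helper88)
-/

set_option autoImplicit false
set_option linter.unusedSectionVars false

namespace Cfsg.Agent.SM.O8.Two.As

open Subgroup Equiv MulAction
open Cfsg.Agent.StdO8.Model (V q B O8 Om)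
open Cfsg.Agent.StdO8.Aut (cj)
open Cfsg.Agent.H245.O8Refl (card_Om)
open Cfsg.Agent.SM.Ex78 (Pd)

theorem ap_mul (g h : Om) (v : V) : ap (g * h) v = ap g (ap h v) := rfl

theorem ap_inv_ap (g : Om) (v : V) : ap g⁻¹ (ap g v) = v := (g : V ≃ₗ[ZMod 2] V).symm_apply_apply v

theorem ap_ap_inv (g : Om) (v : V) : ap g (ap g⁻¹ v) = v := (g : V ≃ₗ[ZMod 2] V).apply_symm_apply v

theorem ap_inj (g : Om) {v w : V} (h : ap g v = ap g w) : v = w := (g : V ≃ₗ[ZMod 2] V).injective h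

theorem ap_ne (g : Om) {v : V} (h : v ≠ 0) : ap g v ≠ 0 := fun e => h (ap_inj g (e.trans (map_zero _).symm))

theorem ap_zpow {g : Om} {v : V} (h : ap g v = v) (k : ℤ) : ap (g ^ k) v = v :=
  (stabilizer Om v).zpow_mem (show g ∈ stabilizer Om v from h) k

theorem cj_up (g : Om) : cj (StdO8.Frame.Ctx.up g) = MulAut.conj g := MulEquiv.ext fun _ => Subtype.ext rfl

/-- an element of order five fixes an invariant set with at most four elements -/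
theorem fix_small {g : Om} (hg : g ^ 5 = 1) {Z : Set V} (hZ : Z.ncard ≤ 4) (h : ∀ v ∈ Z, ap g v ∈ Z) {v : V} (hv : v ∈ Z) :
    ap g v = v := by
  have h5 : period g v ∣ 5 := pow_smul_eq_iff_period_dvd.1 (by rw [hg, one_smul])
  rcases (Nat.dvd_prime (by norm_num)).1 h5 with h1 | h1
  · exact period_eq_one_iff.1 h1
  · exfalso
    have hm : ∀ i : ℕ, g ^ i • v ∈ Z := fun i => by
      induction i with
      | zero => simpa using hv
      | succ i ih =>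
        rw [pow_succ', mul_smul]
        exact h _ ih
    have hi : Set.InjOn (fun i : ℕ => g ^ i • v) (Set.Iio 5) := by
      have h2 := Function.iterate_injOn_Iio_minimalPeriod (f := fun x : V => g • x) (x := v)
      rw [show Function.minimalPeriod (fun x : V => g • x) v = 5 from h1] at h2
      intro i hi j hj e
      exact h2 hi hj (by simpa only [smul_iterate_apply] using e)
    have h3 := Set.ncard_le_ncard_of_injOn _ (fun i _ => hm i) hi (Set.toFinite Z)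
    rw [Set.ncard_Iio_nat] at h3
    omega

theorem obj_le {k : ℕ} {Z : Set V} (h : Obj k Z) : k ≤ 2 ∧ Z.ncard ≤ 4 ∧ ∃ v ∈ Z, v ≠ 0 := by
  have hq : ∀ {u : V}, q u = 1 → u ≠ 0 := H245.O8Refl.ns_ne
  rcases h with ⟨rfl, u, h0, -, rfl⟩ | ⟨rfl, u, h0, rfl⟩ | ⟨rfl, a, b, h0, -, -, rfl⟩
  · exact ⟨by norm_num, by simp, u, rfl, h0⟩
  · exact ⟨by norm_num, by simp, u, rfl, hq h0⟩
  · refine ⟨le_rfl, ?_, a, Or.inl rfl, hq h0⟩
    have h1 := Set.ncard_insert_le a ({b, a + b} : Set V)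
    have h2 := Set.ncard_insert_le b ({a + b} : Set V)
    rw [Set.ncard_singleton] at h2
    omega

variable {X Y : Subgroup Om} {U W : Subgroup (MulAut Om)}

/-- the automorphisms which keep both factors are inner -/
theorem inner_of (hN : BoxNt) (h5 : BoxC5) (hP : BoxPar) {k : ℕ} {Z : Set V} (hZ : Obj k Z) (c : Cf X (SS Z) U W)
    (hX : ¬ 25 ∣ Nat.card X) (hW : ∀ β ∈ W, β ∈ cj.range) : ∀ β ∈ U ⊓ W, ∃ g : Om, β = MulAut.conj g := by
  obtain ⟨hk, h4, v₀, hv₀, hv₀'⟩ := obj_le hZ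
  have hY : ¬ 25 ∣ Nat.card (SS Z) := fun h =>
    hv₀' (h5.2.1 _ h v₀ fun g hg hg5 => fix_small hg5 h4 (fun v hv => (hg v).1 hv) hv₀)
  have hc := c.pd.card
  rw [card_Om] at hc
  have p5 : Nat.Prime 5 := by norm_num
  have k1 : 5 ∣ Nat.card X := by
    by_contra h
    refine hY (Nat.Coprime.dvd_of_dvd_mul_left (m := Nat.card X) ?_ ⟨6967296 * Nat.card ↥(X ⊓ SS Z), by omega⟩)
    exact Nat.Coprime.pow_left 2 ((Nat.Prime.coprime_iff_not_dvd p5).2 h)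
  have k2 : ¬ 5 ∣ Nat.card ↥(X ⊓ SS Z) := by
    rintro ⟨a, ha⟩
    obtain ⟨x, hx⟩ := k1
    have k3 : 25 ∣ x * Nat.card (SS Z) := ⟨6967296 * a, by rw [hx, ha, mul_assoc] at hc; omega⟩
    refine hY (Nat.Coprime.dvd_of_dvd_mul_left (m := x) ?_ k3)
    refine Nat.Coprime.pow_left 2 ((Nat.Prime.coprime_iff_not_dvd p5).2 ?_)
    rintro ⟨z, rfl⟩
    exact hX ⟨z, by omega⟩
  have : Fact (Nat.Prime 5) := ⟨p5⟩
  obtain ⟨f, hf⟩ := exists_prime_orderOf_dvd_card' 5 k1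
  have hf' : orderOf (f : Om) = 5 := (Subgroup.orderOf_coe f).trans hf
  obtain ⟨α, v, hv, hα⟩ := hN.1 f hf'
  have k4 : α ∉ cj.range := by
    rintro ⟨M, rfl⟩
    have k5 : ∃ v, v ≠ 0 ∧ ap f v = v := by
      refine ⟨(M : V ≃ₗ[ZMod 2] V).symm v, fun e => hv ?_, (M : V ≃ₗ[ZMod 2] V).injective ?_⟩
      · rw [← (M : V ≃ₗ[ZMod 2] V).apply_symm_apply v, e, map_zero]
      · rw [LinearEquiv.apply_symm_apply]
        exact hα
    obtain ⟨Z', hZ', k6⟩ := (h5.1 f hf').2.2.2 k5 k hk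
    obtain ⟨g, hg⟩ := (hP k Z hZ).1 Z' hZ'
    have k7 : g⁻¹ * f * g ∈ SS Z := fun w => by
      rw [hg w, hg (ap _ w), ap_mul, ap_mul, ap_ap_inv]
      exact ⟨fun h => (k6 _ h).symm ▸ h, fun h => ap_inj f (k6 _ h) ▸ h⟩
    obtain ⟨x, hx, y, hy, rfl⟩ := c.pd g
    have k8 : x⁻¹ * f * x ∈ X ⊓ SS Z := mem_inf.2 ⟨mul_mem (mul_mem (inv_mem hx) f.2) hx, by
      have h1 := mul_mem (mul_mem hy k7) (inv_mem hy)
      rwa [show y * ((x * y)⁻¹ * f * (x * y)) * y⁻¹ = x⁻¹ * f * x by group] at h1⟩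
    have k9 := orderOf_dvd_natCard (⟨_, k8⟩ : ↥(X ⊓ SS Z))
    rw [← Subgroup.orderOf_coe] at k9
    have k10 : orderOf (x⁻¹ * f * x) = 5 := by
      rw [← hf', ← (MulAut.conj x⁻¹).orderOf_eq f, MulAut.conj_apply, inv_inv]
    exact k2 (k10 ▸ k9)
  intro β hβ
  refine hN.2.2 α β k4 (hW β hβ.2) (hN.2.1 _ (α f) ((α.orderOf_eq f).trans hf') ⟨v, hv, hα⟩ ?_)
  have k11 : orderOf (⟨β f, c.uX β hβ.1 f f.2⟩ : X) = 5 := by
    rw [← Subgroup.orderOf_coe]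
    exact (β.orderOf_eq f).trans hf'
  obtain ⟨g, j, e⟩ := H329.O8Seven.exists_conj p5 hX hf k11
  have e1 : β f = g * (f : Om) ^ j * (g : Om)⁻¹ := by
    have e2 : ((f : Om) ^ j) = (g : Om)⁻¹ * β f * g := congrArg Subtype.val e
    rw [e2]
    group
  refine ⟨ap (α g) v, ap_ne _ hv, ?_⟩
  rw [MulAut.mul_apply, MulAut.mul_apply, MulAut.inv_apply_self, e1, map_mul, map_mul, map_inv, map_zpow, ap_mul, ap_mul,
    ap_inv_ap, ap_zpow hα]

variable {Ω : Type} [Fintype Ω] [DecidableEq Ω] {X₀ H T M S : Subgroup (Perm Ω)}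

theorem act_trans {Γ : Type} [Group Γ] {M S : Subgroup Γ} (h : AS M S) (φ : S ≃* Om) (α : MulAut Om) (m : M) :
    act h (φ.trans α) m = α * act h φ m * α⁻¹ := by
  ext1 g
  obtain ⟨s, rfl⟩ := (φ.trans α).surjective g
  rw [act_apply, MulEquiv.trans_apply, MulEquiv.trans_apply, MulAut.mul_apply, MulAut.mul_apply, MulAut.inv_apply_self,
    act_apply]

theorem no_obj (hN : BoxNt) (h5 : BoxC5) (hP : BoxPar) (u : Up X₀ H T M S) (φ : S ≃* Om) (a : Ω) {k : ℕ} {Z : Set V}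
    (hZ : Obj k Z) (hX : ¬ 25 ∣ Nat.card T) (hY : dn φ (M ⊓ stabilizer (Perm Ω) a) = SS Z)
    (hW : ∀ β ∈ da (u.fac a).asM φ (M ⊓ stabilizer (Perm Ω) a), β ∈ cj.range) : False := by
  have f := u.fac a
  have c := f.cf φ
  rw [hY] at c
  have k1 := inner_of hN h5 hP hZ c (by rwa [card_dn φ u.le]) hW
  let ρ : Om →* Perm Ω := S.subtype.comp φ.symm.toMonoidHom
  have hρ : ∀ s : S, ρ (φ s) = s := fun s => congrArg Subtype.val (φ.symm_apply_apply s)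
  have hr : ρ.range = S := by
    ext x
    exact ⟨by rintro ⟨g, rfl⟩; exact (φ.symm g).2, fun hx => ⟨φ ⟨x, hx⟩, hρ _⟩⟩
  obtain ⟨M₀, π, h1, h2, h3⟩ := (hP k Z hZ).2 Ω ρ a (fun x => by
    obtain ⟨t, ht, e⟩ := u.trans a x
    exact ⟨φ ⟨t, u.le ht⟩, by rw [hρ]; exact e⟩) fun g => by
    obtain ⟨s, rfl⟩ := φ.surjective g
    rw [hρ, ← hY, mem_dn]
    exact ⟨fun h => ⟨u.socM.le s.2, h⟩, fun h => h.2⟩
  have hπ : π ∈ M := u.mem_of_sign (hr ▸ h3.mem_normalizer) h2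
  have k2 : act f.asM φ ⟨π, hπ⟩ = cj M₀ := by
    ext1 g
    obtain ⟨s, rfl⟩ := φ.surjective g
    rw [act_apply]
    refine φ.symm.injective (Subtype.ext ?_)
    rw [MulEquiv.symm_apply_apply]
    have h4 := h3 (φ s)
    rw [hρ] at h4
    exact h4
  obtain ⟨h, hh, s, hs, e⟩ := f.facH π hπ
  obtain ⟨g, hg⟩ := k1 (act f.asM φ ⟨h, f.hm.le hh.1⟩) ⟨mem_da.2 hh.1, mem_da.2 hh.2⟩
  have k3 : cj M₀ = cj (StdO8.Frame.Ctx.up (g * φ ⟨s, hs⟩)) := by
    rw [cj_up, map_mul, ← hg, ← act_conj f.asM, ← map_mul, ← k2]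
    congr 1
    exact Subtype.ext e
  rw [StdO8.Frame.Ctx.cj_injective k3] at h1
  exact h1 (g * φ ⟨s, hs⟩).2

/-- **Case A.** -/
theorem not_sr (hN : BoxNt) (h5 : BoxC5) (hP : BoxPar) (hR : BoxSRY) (u : Up X₀ H T M S) (φ : S ≃* Om) (a : Ω)
    (hX : ¬ 25 ∣ Nat.card T) (hY : 5 ∣ Nat.card (dn φ (M ⊓ stabilizer (Perm Ω) a))) :
    ¬ SR (dn φ (M ⊓ stabilizer (Perm Ω) a)) := fun h => by
  obtain ⟨α, k, Z, hZ, h1, h2⟩ := hR _ _ _ _ ((u.fac a).cf φ) hY h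
  refine no_obj hN h5 hP u (φ.trans α) a hZ hX ((dn_trans φ α _).trans h1) ?_
  rintro _ ⟨m, hm, rfl⟩
  rw [act_trans]
  exact h2 _ ⟨m, hm, rfl⟩

end Cfsg.Agent.SM.O8.Two.As
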