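import Cfsg.Agent.SM.O8.Two.MA
import Cfsg.Agent.SM.Sp.Red
import Cfsg.Agent.H320.O8.Arith

/-!
# SM (S3570), socle `Ω⁺₈(2)`: the numbers (helper88)
-/

set_option autoImplicit false
set_option linter.unusedSectionVars false

namespace Cfsg.Agent.SM.O8.Two.As

open Subgroup Equiv MulAction
open Cfsg.Agent.StdO8.Model (V q B O8 Om)
open Cfsg.Agent.H245.O8Refl (card_Om)
open Cfsg.Agent.SM.Ex78 (Pd)
open Cfsg.Agent.SM.Sp (Fa Cl Lc boxLc)

theorem fct_Om : H320.O8.Fct Om := by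
  obtain ⟨e⟩ := StdO8.Model.exists_equiv (F := ZMod 2) (ZMod.card 2)
  exact H320.O8.Fct.congr e.symm (H320.O8.fct_T (ZMod.card 2))

/-- the normaliser of a Sylow 7-subgroup has order dividing `42` -/
theorem seven (A : Subgroup Om) (h7 : 7 ∣ Nat.card A) :
    ∃ n, n % 7 = 1 ∧ (Nat.card A = 7 * n ∨ Nat.card A = 14 * n ∨ Nat.card A = 21 * n ∨ Nat.card A = 42 * n) := by
  have hs := fct_Om.sub A.subtype A.subtype_injective
  have : Fact (Nat.Prime 7) := ⟨by norm_num⟩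
  obtain ⟨m, hm⟩ := h7
  have h1 : ¬ 7 ∣ m := by
    rintro ⟨z, rfl⟩
    exact hs.not_sq ⟨z, by omega⟩
  obtain ⟨P, h2, -, h3, -⟩ := Sp.Rd.exists_syl (A := A) (p := 7) (k := 1) h1 (by rw [pow_one, hm])
  rw [pow_one] at h2
  have h4 := hs.card_normalizer h2
  have h5 : 7 ∣ Nat.card (normalizer ((P : Subgroup A) : Set A)) :=
    h2.symm.dvd.trans (card_dvd_of_le le_normalizer)
  have h6 := (normalizer ((P : Subgroup A) : Set A)).card_mul_index
  have h7 : (normalizer ((P : Subgroup A) : Set A)).index = Nat.card (Sylow 7 A) := P.card_eq_index_normalizer.symm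
  rw [h7] at h6
  refine ⟨_, h3, ?_⟩
  obtain ⟨b, hb⟩ := h5
  rw [hb] at h4 h6
  have h8 : b ∣ 6 := Nat.dvd_of_mul_dvd_mul_left (by norm_num : 0 < 7) h4
  have h9 := Nat.le_of_dvd (by norm_num) h8
  interval_cases b <;> omega

variable {X Y : Subgroup Om} {U W : Subgroup (MulAut Om)}

theorem rel (X Y : Subgroup Om) : Nat.card ↥(X ⊓ Y) * (X ⊓ Y).relIndex X = Nat.card X := by
  rw [relIndex, ← Nat.card_congr (subgroupOfEquivOfLe (inf_le_left : X ⊓ Y ≤ X)).toEquiv]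
  exact card_mul_index _

theorem cl_of {p m : ℕ} (hm : m ≠ 0) (h : ∀ d ∈ m.divisors, d % p = 1 → d = 1) : Cl p m :=
  fun d hd => h d (Nat.mem_divisors.2 ⟨hd, hm⟩)

/-- a normal Sylow subgroup of `A` -/
theorem k_cl (F : Fa X Y) (p k m n : ℕ) (hp : p.Prime) (hk : 0 < k) (hm : ¬ p ∣ m) (h0 : m ≠ 0)
    (h : ∀ d ∈ m.divisors, d % p = 1 → d = 1) (hn : n % p ≠ 1) (ha : Nat.card ↥(X ⊓ Y) = p ^ k * m)
    (ht : Nat.card X = p ^ k * m * n) : False := by
  have h1 := (boxLc _ X _ inf_le_left F.lcX p k m hp hk hm ha).1 (cl_of h0 h)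
  have h2 := rel X Y
  rw [ha, ht] at h2
  rw [Nat.eq_of_mul_eq_mul_left (Nat.pos_of_ne_zero (mul_ne_zero (pow_ne_zero _ hp.ne_zero) h0)) h2] at h1
  exact hn h1

theorem k_ab (F : Fa X Y) (p k : ℕ) (hp : p.Prime) (hk : 0 < k) (hk' : k ≤ 2) (ha : Nat.card ↥(X ⊓ Y) = p ^ k) : False :=
  F.nab ((boxLc _ X _ inf_le_left F.lcX p k 1 hp hk hp.not_dvd_one (by rw [ha, mul_one])).2.2.1 rfl hk' F.simple)

theorem k_twelve (F : Fa X Y) (ha : Nat.card ↥(X ⊓ Y) = 12) (ht : Nat.card X = 1451520) : False := by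
  have h1 := (boxLc _ X _ inf_le_left F.lcX 3 1 4 (by norm_num) one_pos (by norm_num) ha).2.2.2 2 2 Nat.prime_two rfl rfl
    fun d hd h => by
      have := Nat.le_of_dvd (by norm_num) hd
      interval_cases d <;> omega
  have h2 := rel X Y
  rw [ha, ht] at h2
  omega

theorem five (hL : BoxList) (c : Cf X Y U W) : ¬ 25 ∣ Nat.card X ∧ 5 ∣ Nat.card Y := by
  obtain ⟨⟨x, hx, h1, -⟩, -⟩ := hL X c.neX c.simple c.nab
  have k1 : ¬ 25 ∣ Nat.card X := by
    rw [h1]
    exact (by decide : ∀ x ∈ tab, ¬ 25 ∣ x.1) x hx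
  refine ⟨k1, ?_⟩
  by_contra h
  have hc := c.pd.card
  rw [card_Om] at hc
  refine k1 (Nat.Coprime.dvd_of_dvd_mul_right (n := Nat.card Y) ?_ ⟨6967296 * Nat.card ↥(X ⊓ Y), by omega⟩)
  exact Nat.Coprime.pow_left 2 ((Nat.Prime.coprime_iff_not_dvd (by norm_num)).2 h)

/-- **Case B.** -/
theorem num (hL : BoxList) (hY : BoxY) (hA : BoxA78) (hX : BoxSRX) (c : Cf X Y U W) (F : Fa X Y) (hn : ¬ SR Y) :
    Nat.card X = 1451520 ∧ Nat.card (MulAut X) ∣ 1451520 ∧ (Dt Y ∨ (Nat.card Y = 181440 ∧ IsA 9 Y)) := by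
  obtain ⟨⟨x, hx, h1, h2⟩, -, h8, -⟩ := hL X c.neX c.simple c.nab
  have hc := c.pd.card
  rw [card_Om] at hc
  have ha : 2 ≤ Nat.card ↥(X ⊓ Y) := (Subgroup.one_lt_card_iff_ne_bot _).2 c.nb
  have s7 : ∀ A : Subgroup Om, Nat.card A = 362880 ∨ Nat.card A = 189 → False := fun A h => by
    obtain ⟨n, k1, k2⟩ := seven A (by omega)
    omega
  have hy : Nat.card Y ∣ 1200 ∨ Nat.card Y ∣ 800 ∨ Nat.card Y ∣ 1440 ∨ Dt Y ∨ (Nat.card Y = 181440 ∧ IsA 9 Y) := by
    rcases hY Y c.neY (five hL c).2 with h | h | h | h | h | h | h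
    · exact absurd h hn
    · exact Or.inl h
    · exact Or.inr (Or.inl h)
    · exact Or.inr (Or.inr (Or.inl h))
    · exact Or.inr (Or.inr (Or.inr (Or.inl h)))
    · exact (s7 Y (Or.inl h)).elim
    · exact Or.inr (Or.inr (Or.inr (Or.inr h)))
  have hy' : Nat.card Y ≤ 1440 ∨ Nat.card Y = 3600 ∨ Nat.card Y = 7200 ∨ Nat.card Y = 14400 ∨ Nat.card Y = 181440 := by
    rcases hy with h | h | h | ⟨h, ⟨z, hz⟩, -⟩ | h
    · exact Or.inl ((Nat.le_of_dvd (by norm_num) h).trans (by norm_num))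
    · exact Or.inl ((Nat.le_of_dvd (by norm_num) h).trans (by norm_num))
    · exact Or.inl (Nat.le_of_dvd (by norm_num) h)
    · rw [hz] at h ⊢
      have h3 : z ∣ 4 := Nat.dvd_of_mul_dvd_mul_left (by norm_num : 0 < 3600) h
      have h4 := Nat.le_of_dvd (by norm_num) h3
      interval_cases z <;> omega
    · exact Or.inr (Or.inr (Or.inr (Or.inr h.1)))
  simp only [tab, List.mem_cons, List.not_mem_nil, or_false] at hx
  rcases hx with rfl | rfl | rfl | rfl | rfl | rfl | rfl | rfl | rfl | rfl <;> dsimp only at h1 h2 <;> rw [h1] at hc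
  · omega
  · omega
  · omega
  · omega
  · omega
  · omega
  · have h3 := (hX X Y U W c (by omega) (hA X (Or.inr (h8 h1))).sr).1.trans h2
    omega
  · exact (k_cl F 3 3 1 960 (by norm_num) (by norm_num) (by norm_num) (by norm_num) (by decide) (by norm_num) (by omega)
      (by omega)).elim
  · exfalso
    rcases (by omega : Nat.card ↥(X ⊓ Y) = 15 ∨ Nat.card ↥(X ⊓ Y) = 189) with h | h
    · exact k_cl F 3 1 5 12096 (by norm_num) (by norm_num) (by norm_num) (by norm_num) (by decide) (by norm_num) (by omega)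
        (by omega)
    · exact s7 _ (Or.inr h)
  · refine ⟨h1, h2, ?_⟩
    have h3 : Nat.card Y = 120 * Nat.card ↥(X ⊓ Y) := by omega
    have h4 : Nat.card ↥(X ⊓ Y) ∣ 10 ∨ Nat.card ↥(X ⊓ Y) ∣ 12 → False := fun h => by
      have h5 : Nat.card ↥(X ⊓ Y) = 2 ∨ Nat.card ↥(X ⊓ Y) = 5 ∨ Nat.card ↥(X ⊓ Y) = 10 ∨ Nat.card ↥(X ⊓ Y) = 3 ∨
          Nat.card ↥(X ⊓ Y) = 4 ∨ Nat.card ↥(X ⊓ Y) = 6 ∨ Nat.card ↥(X ⊓ Y) = 12 := by
        generalize Nat.card ↥(X ⊓ Y) = a at h ha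
        have h6 : a ≤ 12 := h.elim (fun h => (Nat.le_of_dvd (by norm_num) h).trans (by norm_num))
          fun h => Nat.le_of_dvd (by norm_num) h
        interval_cases a <;> omega
      rcases h5 with h | h | h | h | h | h | h
      · exact k_ab F 2 1 (by norm_num) (by norm_num) (by norm_num) h
      · exact k_ab F 5 1 (by norm_num) (by norm_num) (by norm_num) h
      · exact k_cl F 5 1 2 145152 (by norm_num) (by norm_num) (by norm_num) (by norm_num) (by decide) (by norm_num) (by omega)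
          (by omega)
      · exact k_ab F 3 1 (by norm_num) (by norm_num) (by norm_num) h
      · exact k_ab F 2 2 (by norm_num) (by norm_num) (by norm_num) h
      · exact k_cl F 3 1 2 241920 (by norm_num) (by norm_num) (by norm_num) (by norm_num) (by decide) (by norm_num) (by omega)
          (by omega)
      · exact k_twelve F h h1
    rcases hy with h | h | h | h | h
    · rw [h3] at h
      exact (h4 (Or.inl (Nat.dvd_of_mul_dvd_mul_left (by norm_num : 0 < 120) h))).elim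
    · rw [h3] at h
      have h5 : 120 ∣ 800 := (dvd_mul_right _ _).trans h
      omega
    · rw [h3] at h
      exact (h4 (Or.inr (Nat.dvd_of_mul_dvd_mul_left (by norm_num : 0 < 120) h))).elim
    · exact Or.inl h
    · exact Or.inr h

end Cfsg.Agent.SM.O8.Two.As
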